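import Groth.Agent.BivarOps.Basic

/-!
The operational first Chern class of an invertible module.
-/

set_option autoImplicit false
set_option linter.unusedSectionVars false
set_option linter.style.haveILetI false
set_option backward.isDefEq.respectTransparency false
set_option backward.isDefEq.respectTransparency.types false
set_option maxHeartbeats 800000

universe u

open CategoryTheory CategoryTheory.Limits AlgebraicGeometry Opposite
open Groth.Agent.CycPB (Cy RZ pushF)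
open Groth.Agent.CycSec (secPull secPull_ne_zero)

noncomputable section

namespace Groth.Agent.BivarOps

variable {X : Scheme.{u}} {δX : X → ℤ} (hX : Cyc.IsSetup X δX) {L : X.Modules} (hL : PicF.IsInvertible L)

theorem isInv (hL : PicF.IsInvertible L) (s : Bivar.OSq X δX) :
    PicF.IsInvertible ((Scheme.Modules.pullback s.g).obj L) := PicLoc.isInvertible_pullback _ hL

theorem isSetup_osq (hX : Cyc.IsSetup X δX) (s : Bivar.OSq X δX) : Cyc.IsSetup s.Y s.δ :=
  haveI := s.lft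
  isSetup_test hX s.g s.compat

/-- chosen nonzero sections -/
def secs (s : Bivar.OSq X δX) : (ξ : s.Y) → Cyc.secFibre ((Scheme.Modules.pullback s.g).obj L) ξ :=
  (CycPB.exists_sections (isInv hL s)).choose

theorem secs_ne (s : Bivar.OSq X δX) (ξ : s.Y) : secs hL s ξ ≠ 0 :=
  (CycPB.exists_sections (isInv hL s)).choose_spec ξ

/-- the operation on a test scheme -/
def c1Op (s : Bivar.OSq X δX) (k : ℤ) : ChowOps.CH s.Y s.δ k →+ ChowOps.CH s.Y s.δ (k - 1) :=
  mkHom (fun a => Cyc.c1CapFun s.δ ((Scheme.Modules.pullback s.g).obj L) a (secs hL s))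
    (fun a ha => CycPB.Cy.cap (isSetup_osq hX s) (isInv hL s) (secs_ne hL s) ((sub_add_cancel k 1).symm ▸ ha))
    (fun a b ha hb => haveI := (isSetup_osq hX s).1; ha.cap_add hb _)
    (fun a ha => CycPB.RZ.cap (isSetup_osq hX s) (isInv hL s) (secs_ne hL s) ((sub_add_cancel k 1).symm ▸ ha))

theorem c1Op_cl (s : Bivar.OSq X δX) (k : ℤ) (A : AlgebraicCycle s.Y ℤ) (hA : A ∈ Cyc.Zk s.Y s.δ k)
    {M : s.Y.Modules} (hM : PicF.IsInvertible M) (e : (Scheme.Modules.pullback s.g).obj L ≅ M)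
    (v : (ξ : s.Y) → Cyc.secFibre M ξ) (hv : ∀ ξ, v ξ ≠ 0) (C : AlgebraicCycle s.Y ℤ) (hC : C ∈ Cyc.Zk s.Y s.δ (k - 1))
    (h : RZ s.δ (k - 1) fun y => Cyc.c1CapFun s.δ M ⇑A v y - C y) :
    c1Op hX hL s k (ChowOps.cl A hA) = ChowOps.cl C hC :=
  mkHom_cl _ _ _ _ A hA C hC ((CycPB.cap_iso (isSetup_osq hX s) (isInv hL s) hM e (secs_ne hL s) hv
    (a := ⇑A) ((sub_add_cancel k 1).symm ▸ CycPB.Cy.mk hA)).trans h)

theorem exists_cap (s : Bivar.OSq X δX) {k : ℤ} (A : AlgebraicCycle s.Y ℤ) (hA : A ∈ Cyc.Zk s.Y s.δ k)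
    {M : s.Y.Modules} (hM : PicF.IsInvertible M) (v : (ξ : s.Y) → Cyc.secFibre M ξ) (hv : ∀ ξ, v ξ ≠ 0)
    (hX : Cyc.IsSetup X δX) :
    ∃ (C : AlgebraicCycle s.Y ℤ), ⇑C = Cyc.c1CapFun s.δ M ⇑A v ∧ C ∈ Cyc.Zk s.Y s.δ (k - 1) :=
  CycPB.Cy.cap (isSetup_osq hX s) hM hv ((sub_add_cancel k 1).symm ▸ CycPB.Cy.mk hA)

/-- pullback of the pulled back module along a morphism of test schemes -/
def pbIso {s t : Bivar.OSq X δX} (h : t.Y ⟶ s.Y) (w : h ≫ s.g = t.g) (L : X.Modules) :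
    (Scheme.Modules.pullback t.g).obj L ≅ (Scheme.Modules.pullback h).obj ((Scheme.Modules.pullback s.g).obj L) :=
  (eqToIso (congrArg (fun q => (Scheme.Modules.pullback q).obj L) w.symm)) ≪≫ ((Scheme.Modules.pullbackComp h s.g).app L).symm

/-- **The first Chern class.** -/
def c1Class : Bivar.OpCl 1 X δX where
  op := c1Op hX hL
  push s t h hh w k := by
    intro α hα
    haveI := s.lft
    haveI := t.lft
    haveI := (isSetup_osq hX s).1
    haveI := (isSetup_osq hX t).1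
    have hd : Cyc.DeltaCompat h t.δ s.δ := deltaCompat_of_comp w s.compat t.compat
    let v := secs hL s
    let v' : (ξ : t.Y) → Cyc.secFibre ((Scheme.Modules.pullback h).obj ((Scheme.Modules.pullback s.g).obj L)) ξ :=
      fun ξ => secPull h ξ (v (h ξ))
    have hv' : ∀ ξ, v' ξ ≠ 0 := fun ξ => secPull_ne_zero h (isInv hL s) ξ (secs_ne hL s _)
    have hM := PicLoc.isInvertible_pullback h (isInv hL s)
    obtain ⟨β, hβe, hβ⟩ := exists_cap t α hα hM v' hv' hX
    refine ⟨β, hβ, c1Op_cl hX hL t k α hα hM (pbIso h w L) v' hv' β hβ (CycPB.RZ.zero.eq (funext fun y => by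
      rw [hβe, sub_self])), ?_⟩
    refine c1Op_cl hX hL s k _ _ (isInv hL s) (Iso.refl _) v (secs_ne hL s) _ _ (CycPB.RZ.zero.eq (funext fun y => ?_))
    have e := congrFun (CycPB.pushF_c1Pow (isSetup_osq hX s) (isSetup_osq hX t) h hd (isInv hL s) (fun _ => v)
      (fun _ => secs_ne hL s) (b := ⇑α) (k := k) (CycPB.Cy.mk hα) 1) y
    show (0 : ℤ) = Cyc.c1CapFun s.δ _ (pushF h t.δ s.δ ⇑α) v y - pushF h t.δ s.δ ⇑β y
    rw [hβe]
    exact (sub_eq_zero.2 e.symm).symm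
  pull s t h _ r hr w k := by
    intro α hα
    haveI := s.lft
    haveI := t.lft
    haveI := (isSetup_osq hX s).1
    haveI := (isSetup_osq hX t).1
    haveI : LocallyOfFiniteType (h ≫ s.g) := by rw [w]; infer_instance
    haveI : LocallyOfFiniteType h := locallyOfFiniteType_of_comp h s.g
    have hd : Cyc.DeltaCompat h t.δ s.δ := deltaCompat_of_comp w s.compat t.compat
    let v := secs hL s
    let v' : (ξ : t.Y) → Cyc.secFibre ((Scheme.Modules.pullback h).obj ((Scheme.Modules.pullback s.g).obj L)) ξ :=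
      fun ξ => secPull h ξ (v (h ξ))
    have hv' : ∀ ξ, v' ξ ≠ 0 := fun ξ => secPull_ne_zero h (isInv hL s) ξ (secs_ne hL s _)
    have hM := PicLoc.isInvertible_pullback h (isInv hL s)
    obtain ⟨β, hβe, hβ⟩ := exists_cap s α hα (isInv hL s) v (secs_ne hL s) hX
    refine ⟨β, hβ, c1Op_cl hX hL s k α hα (isInv hL s) (Iso.refl _) v (secs_ne hL s) β hβ
      (CycPB.RZ.zero.eq (funext fun y => by rw [hβe, sub_self])), fun α₁ hα₁e hα₁ => ?_⟩
    obtain ⟨β₁, hβ₁e, hβ₁⟩ := (CycPB.Cy.mk hβ).pullR (isSetup_osq hX t) h hd hr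
    have hk : k - 1 + (r : ℤ) = k + r - 1 := by ring
    refine ⟨β₁, hk ▸ hβ₁, hβ₁e, ?_⟩
    refine c1Op_cl hX hL t (k + r) α₁ hα₁ hM (pbIso h w L) v' hv' β₁ _ (CycPB.RZ.zero.eq (funext fun y => ?_))
    have e := congrFun (CycPB.pullFun_c1Pow (isSetup_osq hX s) (isSetup_osq hX t) h hd hr (isInv hL s) (fun _ => v)
      (fun _ => secs_ne hL s) (b := ⇑α) (k := k) (CycPB.Cy.mk hα) 1) y
    rw [hβ₁e, hβe, hα₁e]
    exact (sub_eq_zero.2 e.symm).symm
  gysin s t i _ w L₀ hL₀ σ hσ k := by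
    intro α hα
    haveI := s.lft
    haveI := t.lft
    haveI := (isSetup_osq hX s).1
    haveI := (isSetup_osq hX t).1
    have hdi : Cyc.DeltaCompat i t.δ s.δ := deltaCompat_of_comp w s.compat t.compat
    have hδt := delta_closed i hdi
    let v := secs hL s
    let v' : (d : t.Y) → Cyc.secFibre ((Scheme.Modules.pullback i).obj ((Scheme.Modules.pullback s.g).obj L)) d :=
      fun d => secPull i d (v (i d))
    have hv' : ∀ d, v' d ≠ 0 := fun d => secPull_ne_zero i (isInv hL s) d (secs_ne hL s _)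
    have hM := PicLoc.isInvertible_pullback i (isInv hL s)
    obtain ⟨β, hβe, hβ⟩ := exists_cap s α hα (isInv hL s) v (secs_ne hL s) hX
    refine ⟨β, hβ, c1Op_cl hX hL s k α hα (isInv hL s) (Iso.refl _) v (secs_ne hL s) β hβ
      (CycPB.RZ.zero.eq (funext fun y => by rw [hβe, sub_self])), fun ww hww γ hγe hγ => ?_⟩
    obtain ⟨C, hCe, hC⟩ := exists_cap s β hβ hL₀ (Cyc.gysinChoice L₀ σ ww) (CycK0.gysinChoice_ne_zero hww) hX
    obtain ⟨ζ, hζe⟩ := CycK0.exists_comap (i := i) C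
    have hζk : ζ ∈ Cyc.Zk t.Y t.δ (k - 1 - 1) := fun d hd => by
      rw [hζe]
      exact hC _ (fun e => hd (by rw [hδt]; exact e))
    refine ⟨ζ, hζk, fun d => by rw [hζe, hCe], ?_⟩
    refine c1Op_cl hX hL t (k - 1) γ hγ hM (pbIso i w L) v' hv' ζ hζk ?_
    obtain ⟨ζ₂, hζ₂e, hζ₂⟩ := exists_cap t γ hγ hM v' hv' hX
    have hγf : ⇑γ = fun d => Cyc.c1CapFun s.δ L₀ ⇑α (Cyc.gysinChoice L₀ σ ww) (i d) := funext hγe
    have hα2 : α ∈ Cyc.Zk s.Y s.δ (k - 1 - 1 + 2) := by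
      rwa [show k - 1 - 1 + 2 = k by ring]
    have key := CycK0.gysin_cap_comm (k := k - 1 - 1) (isSetup_osq hX s) hL₀ hσ (isInv hL s) α hα2 ww hww v
      (secs_ne hL s) v' hv' ζ ζ₂ (fun d => by rw [hζe, hCe, hβe]) (by rw [hζ₂e, hγf, hδt])
    rw [← hζ₂e]
    refine (CycPB.RZ.of_ratEquiv hζk hζ₂ ?_).neg_diff
    rw [hδt]
    exact key

theorem isC1Class_c1Class : Bivar.IsC1Class L (c1Class hX hL) :=
  ⟨hL, fun s k α hα v hv γ hγe hγ => c1Op_cl hX hL s k α hα (isInv hL s) (Iso.refl _) v hv γ hγ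
    (CycPB.RZ.zero.eq (funext fun y => by rw [hγe, sub_self]))⟩

end Groth.Agent.BivarOps
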