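import Groth.Agent.BivarOps.Indep
import Groth.Agent.CycPB.Compat
import Groth.Agent.CycPB.Hyperplane
import Groth.Agent.C1Cap.Basic

/-!
Local equations of sections of invertible modules: products and inverse images.
-/

set_option autoImplicit false
set_option linter.unusedSectionVars false
set_option linter.style.haveILetI false
set_option backward.isDefEq.respectTransparency false
set_option backward.isDefEq.respectTransparency.types false
set_option maxHeartbeats 800000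

universe u

open CategoryTheory CategoryTheory.Limits AlgebraicGeometry TopologicalSpace Opposite
open Groth.Agent.WeakAssLib (mgerm)
open Groth.Agent.RefStalk (msp msp_smul msp_germ)
open Groth.Agent.CycDim (spz)
open Groth.Agent.CycSec (pe)

noncomputable section

namespace Groth.Agent.BivarOps

variable {X Y D : Scheme.{u}} {L M : X.Modules}

/-- the ideal of a section at a point -/
def coefI (hL : PicF.IsInvertible L) (s : Γ(L, (⊤ : X.Opens))) (x : X) : Ideal (X.presheaf.stalk x) :=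
  Ideal.span {(CycK0.exists_coefficient hL s x).choose_spec.choose_spec.choose_spec.choose_spec.choose}

theorem coefI_eq (hL : PicF.IsInvertible L) (s : Γ(L, (⊤ : X.Opens))) {x : X} {A : X.Opens} {e : Γ(L, A)}
    (he : TMul.IsGen e) (hx : x ∈ A) {c : X.presheaf.stalk x}
    (hc : mgerm L (show x ∈ (⊤ : X.Opens) from trivial) s = c • mgerm L hx e) :
    coefI hL s x = Ideal.span {c} := by
  have h := CycK0.exists_coefficient hL s x
  unfold coefI
  obtain ⟨hx', he', hc'⟩ : ∃ (hx' : x ∈ h.choose) (_ : TMul.IsGen h.choose_spec.choose),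
      mgerm L (show x ∈ (⊤ : X.Opens) from trivial) s =
        h.choose_spec.choose_spec.choose_spec.choose_spec.choose • mgerm L hx' h.choose_spec.choose :=
    ⟨h.choose_spec.choose_spec.choose, h.choose_spec.choose_spec.choose_spec.choose,
      h.choose_spec.choose_spec.choose_spec.choose_spec.choose_spec⟩
  have hb := RefDiv.bijective_germ_of_isGen he hx
  have hb' := RefDiv.bijective_germ_of_isGen he' hx'
  obtain ⟨v, hv⟩ := hb.2 (mgerm L hx' h.choose_spec.choose)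
  obtain ⟨v', hv'⟩ := hb'.2 (mgerm L hx e)
  change v • mgerm L hx e = _ at hv
  change v' • mgerm L hx' h.choose_spec.choose = _ at hv'
  set c' := h.choose_spec.choose_spec.choose_spec.choose_spec.choose
  have h1 : c = c' * v := hb.1 (show c • mgerm L hx e = (c' * v) • mgerm L hx e by
    rw [mul_smul, hv, ← hc, ← hc'])
  have h2 : c' = c * v' := hb'.1 (show c' • mgerm L hx' h.choose_spec.choose = (c * v') • mgerm L hx' h.choose_spec.choose by
    rw [mul_smul, hv', ← hc, ← hc'])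
  refine le_antisymm ?_ ?_ <;> rw [Ideal.span_singleton_le_iff_mem, Ideal.mem_span_singleton']
  · exact ⟨v', by rw [h2, mul_comm]⟩
  · exact ⟨v, by rw [h1, mul_comm]⟩

theorem coefI_range (hL : PicF.IsInvertible L) {s : Γ(L, (⊤ : X.Opens))} {i : D ⟶ X} [IsClosedImmersion i]
    (hD : Cyc.IsZeroSchemeOf i L s) (x : X) : x ∈ Set.range i ↔ coefI hL s x ≠ ⊤ := by
  obtain ⟨A, e, hx, he, c, hc⟩ := CycK0.exists_coefficient hL s x
  rw [coefI_eq hL s he hx hc, Ne, Ideal.span_singleton_eq_top]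
  refine ⟨fun hxi hu => ?_, fun hu => by_contra fun hxi => hu (CycK0.isUnit_of_notMem hD hxi hx hc)⟩
  refine C1Cap.mk_gen_ne_zero he hx hu ?_
  rw [← hc]
  exact (Set.ext_iff.1 hD.1 x).1 hxi

theorem coefI_ker (hL : PicF.IsInvertible L) {s : Γ(L, (⊤ : X.Opens))} {i : D ⟶ X} [IsClosedImmersion i]
    (hD : Cyc.IsZeroSchemeOf i L s) (d : D) : RingHom.ker (i.stalkMap d).hom = coefI hL s (i d) := by
  obtain ⟨A, e, hx, he, c, hc⟩ := CycK0.exists_coefficient hL s (i d)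
  rw [coefI_eq hL s he hx hc, CycK0.ker_eq_span hD d he hx hc]

theorem isZeroSchemeOf_coefI (hL : PicF.IsInvertible L) {s : Γ(L, (⊤ : X.Opens))} (i : D ⟶ X)
    [IsClosedImmersion i] (h1 : ∀ x, x ∈ Set.range i ↔ coefI hL s x ≠ ⊤)
    (h2 : ∀ d, RingHom.ker (i.stalkMap d).hom = coefI hL s (i d)) : Cyc.IsZeroSchemeOf i L s := by
  refine ⟨Set.ext fun x => ?_, fun d => ?_⟩
  · obtain ⟨A, e, hx, he, c, hc⟩ := CycK0.exists_coefficient hL s x
    rw [h1, coefI_eq hL s he hx hc, Ne, Ideal.span_singleton_eq_top]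
    show _ ↔ (Submodule.Quotient.mk (mgerm L (show x ∈ (⊤ : X.Opens) from trivial) s) : Cyc.secFibre L x) = 0
    rw [hc]
    refine ⟨fun hu => (Submodule.Quotient.mk_eq_zero _).2 (Submodule.smul_mem_smul
      ((IsLocalRing.mem_maximalIdeal _).2 hu) Submodule.mem_top), fun h hu => C1Cap.mk_gen_ne_zero he hx hu h⟩
  · obtain ⟨A, e, hx, he, c, hc⟩ := CycK0.exists_coefficient hL s (i d)
    refine ⟨mgerm L hx e, c, ?_, hc, ?_⟩
    · exact Submodule.eq_top_iff'.2 fun v => Submodule.mem_span_singleton.2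
        ((RefDiv.bijective_germ_of_isGen he hx).2 v)
    · rw [h2, coefI_eq hL s he hx hc]

theorem coefI_tm (hL : PicF.IsInvertible L) (hM : PicF.IsInvertible M) (s : Γ(L, (⊤ : X.Opens)))
    (t : Γ(M, (⊤ : X.Opens))) (x : X) :
    coefI (TMul.isInvertible_tensorMod hL hM) (TMul.tm s t) x = coefI hL s x * coefI hM t x := by
  obtain ⟨A, e₀, hxA, he₀, a, ha⟩ := CycK0.exists_coefficient hL s x
  obtain ⟨B, f₀, hxB, hf₀, b, hb⟩ := CycK0.exists_coefficient hM t x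
  have hx : x ∈ A ⊓ B := ⟨hxA, hxB⟩
  have he := he₀.res (inf_le_left : A ⊓ B ≤ A)
  have hf := hf₀.res (inf_le_right : A ⊓ B ≤ B)
  rw [← WeakAssLib.mgerm_res L (inf_le_left : A ⊓ B ≤ A) hx e₀] at ha
  rw [← WeakAssLib.mgerm_res M (inf_le_right : A ⊓ B ≤ B) hx f₀] at hb
  rw [coefI_eq hL s he hx ha, coefI_eq hM t hf hx hb, Ideal.span_singleton_mul_span_singleton]
  exact coefI_eq _ _ (TMul.isGen_tm he hf) hx
    (C1Cap.germ_tm (show x ∈ (⊤ : X.Opens) from trivial) hx he hf ha.symm hb.symm)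

theorem coefI_pe (g : Y ⟶ X) (hL : PicF.IsInvertible L) (s : Γ(L, (⊤ : X.Opens))) (y : Y) :
    coefI (PicLoc.isInvertible_pullback g hL) (pe g (A := ⊤) s) y = (coefI hL s (g y)).map (g.stalkMap y).hom := by
  obtain ⟨A, e, hx, he, c, hc⟩ := CycK0.exists_coefficient hL s (g y)
  rw [coefI_eq hL s he hx hc, Ideal.map_span, Set.image_singleton]
  refine coefI_eq _ _ (CycSec.isGen_pe g he) (show y ∈ g ⁻¹ᵁ A from hx) ?_
  refine (KFlat.kap_germ g y L ⊤ (show g y ∈ (⊤ : X.Opens) from trivial) s).symm.trans ?_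
  refine (congrArg (KFlat.kap g y L) hc).trans ((KFlat.kap_smul g y L c _).trans ?_)
  exact congrArg (_ • ·) (KFlat.kap_germ g y L A hx e)

theorem isZeroSchemeOf_pe (g : Y ⟶ X) [IsLocallyNoetherian Y] {T : Scheme.{u}} {i : D ⟶ X} [IsClosedImmersion i]
    {j : T ⟶ Y} {gD : T ⟶ D} (hsq : IsPullback j gD g i) (hL : PicF.IsInvertible L) {s : Γ(L, (⊤ : X.Opens))}
    (hD : Cyc.IsZeroSchemeOf i L s) :
    Cyc.IsZeroSchemeOf j ((Scheme.Modules.pullback g).obj L) (pe g (A := ⊤) s) := by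
  have h : Cyc.IsZeroSchemeOf (pullback.fst g i) ((Scheme.Modules.pullback g).obj L) (pe g (A := ⊤) s) := by
    refine isZeroSchemeOf_coefI (PicLoc.isInvertible_pullback g hL) _ (fun y => ?_) fun z => ?_
    · rw [Scheme.Pullback.range_fst]
      show g y ∈ Set.range i ↔ _
      obtain ⟨A, e, hx, he, c, hc⟩ := CycK0.exists_coefficient hL s (g y)
      rw [coefI_range hL hD, coefI_pe g hL, coefI_eq hL s he hx hc, Ideal.map_span, Set.image_singleton, Ne, Ne,
        Ideal.span_singleton_eq_top, Ideal.span_singleton_eq_top, isUnit_map_iff]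
    · have hw : i ((pullback.snd g i) z) = g (pullback.fst g i z) := by
        show (pullback.snd g i ≫ i) z = (pullback.fst g i ≫ g) z
        rw [pullback.condition]
      obtain ⟨A, e, hx, he, c, hc⟩ := CycK0.exists_coefficient hL s (g (pullback.fst g i z))
      rw [coefI_pe g hL, coefI_eq hL s he hx hc, CycK0.ker_pullback_fst g i z hw,
        CycK0.ker_stkHom_eq_span hD _ hw he hx hc]
  have h' := CycK0.isZeroSchemeOf_iso hsq.isoPullback h
  rwa [hsq.isoPullback_hom_fst] at h'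

/-- the zero scheme of a factor lies in that of the product -/
theorem exists_lift_zero {A U : Scheme.{u}} (hL : PicF.IsInvertible L) {s : Γ(L, (⊤ : X.Opens))} (a : A ⟶ X)
    [IsClosedImmersion a] (hA : Cyc.IsZeroSchemeOf a L s) (hM : PicF.IsInvertible M) {m : Γ(M, (⊤ : X.Opens))}
    (u : U ⟶ X) [IsClosedImmersion u] (hU : Cyc.IsZeroSchemeOf u M m)
    (hle : ∀ x, coefI hM m x ≤ coefI hL s x) : ∃ (a' : A ⟶ U) (_ : IsClosedImmersion a'), a' ≫ u = a := by
  have hker : u.ker ≤ a.ker := by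
    refine Scheme.IdealSheafData.le_def.2 fun V f hf => ?_
    rw [Scheme.Hom.ker_apply, RingHom.mem_ker] at hf ⊢
    refine TopCat.Presheaf.section_ext A.sheaf _ _ _ fun d hd => ?_
    refine Eq.trans ?_ (map_zero _).symm
    refine (Scheme.Hom.germ_stalkMap_apply a V.1 d hd f).symm.trans ?_
    refine RingHom.mem_ker.1 ?_
    rw [coefI_ker hL hA]
    refine hle _ ?_
    obtain ⟨y, hy⟩ := (coefI_range hM hU (a d)).2 fun h => (coefI_range hL hA (a d)).1 ⟨d, rfl⟩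
      (top_le_iff.1 (h.ge.trans (hle _)))
    have main : ∀ (x : X) (_ : u y = x) (hx : x ∈ V.1), (X.presheaf.germ V.1 x hx).hom f ∈ coefI hM m x := by
      rintro _ rfl hx
      rw [← coefI_ker hM hU, RingHom.mem_ker]
      refine (Scheme.Hom.germ_stalkMap_apply u V.1 y hx f).trans ?_
      rw [hf, map_zero]
    exact main _ hy hd
  haveI : IsClosedImmersion (IsClosedImmersion.lift u a hker ≫ u) := by
    rw [IsClosedImmersion.lift_fac]; infer_instance
  exact ⟨_, IsClosedImmersion.of_comp (IsClosedImmersion.lift u a hker) u, IsClosedImmersion.lift_fac u a hker⟩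

theorem exists_tensor_sec (hL : PicF.IsInvertible L) (hM : PicF.IsInvertible M) {ξ : X}
    {s : Cyc.secFibre L ξ} {t : Cyc.secFibre M ξ} (hs : s ≠ 0) (ht : t ≠ 0) :
    ∃ u : Cyc.secFibre (CohB1.tensorMod L M) ξ, u ≠ 0 ∧ ∀ (x : X) (h : ξ ⤳ x),
      Cyc.secOrdAt (CohB1.tensorMod L M) ξ x h u = Cyc.secOrdAt L ξ x h s + Cyc.secOrdAt M ξ x h t := by
  obtain ⟨A₁, e₁, h₁, he₁⟩ := TMul.exists_isGen hL ξ
  obtain ⟨A₂, f₁, h₂, hf₁⟩ := TMul.exists_isGen hM ξ
  have hξ : ξ ∈ A₁ ⊓ A₂ := ⟨h₁, h₂⟩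
  have he₀ := he₁.res (inf_le_left : A₁ ⊓ A₂ ≤ A₁)
  have hf₀ := hf₁.res (inf_le_right : A₁ ⊓ A₂ ≤ A₂)
  have hu0 : ∀ {N : X.Modules} {W : X.Opens} {e : Γ(N, W)}, TMul.IsGen e → ∀ (hW : ξ ∈ W) (v : Cyc.secFibre N ξ),
      ∃ a : X.presheaf.stalk ξ, v = a • (Submodule.Quotient.mk (mgerm N hW e) : Cyc.secFibre N ξ) := by
    intro N W e he hW v
    obtain ⟨y, rfl⟩ := Submodule.Quotient.mk_surjective _ v
    obtain ⟨a, rfl⟩ := (RefDiv.bijective_germ_of_isGen he hW).2 y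
    exact ⟨a, rfl⟩
  obtain ⟨a, ha⟩ := hu0 he₀ hξ s
  obtain ⟨b, hb⟩ := hu0 hf₀ hξ t
  have ha0 := C1Cap.rdu_ne_zero he₀ hξ hs ha
  have hb0 := C1Cap.rdu_ne_zero hf₀ hξ ht hb
  refine ⟨(a * b) • Submodule.Quotient.mk (mgerm (CohB1.tensorMod L M) hξ (TMul.tm (QC.res L inf_le_left e₁)
    (QC.res M inf_le_right f₁))), fun h0 => ?_, fun x h => ?_⟩
  · have := C1Cap.rdu_unique (TMul.isGen_tm he₀ hf₀) hξ (φ := a * b) (ψ := 0) (by rw [h0, zero_smul])
    rw [map_mul, map_zero] at this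
    exact mul_ne_zero ha0 hb0 this
  obtain ⟨B₁, e', hx₁, he'⟩ := TMul.exists_isGen hL x
  obtain ⟨B₂, f', hx₂, hf'⟩ := TMul.exists_isGen hM x
  have hx : x ∈ B₁ ⊓ B₂ := ⟨hx₁, hx₂⟩
  have he := he'.res (inf_le_left : B₁ ⊓ B₂ ≤ B₁)
  have hf := hf'.res (inf_le_right : B₁ ⊓ B₂ ≤ B₂)
  have hξx : ξ ∈ B₁ ⊓ B₂ := h.mem_open (B₁ ⊓ B₂).2 hx
  obtain ⟨p, hp⟩ := (RefDiv.bijective_germ_of_isGen he hξx).2 (mgerm L hξ (QC.res L inf_le_left e₁))
  obtain ⟨q, hq⟩ := (RefDiv.bijective_germ_of_isGen hf hξx).2 (mgerm M hξ (QC.res M inf_le_right f₁))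
  have hpq := C1Cap.germ_tm hξ hξx he hf hp hq
  rw [← hp, Submodule.Quotient.mk_smul, smul_smul] at ha
  rw [← hq, Submodule.Quotient.mk_smul, smul_smul] at hb
  have hp0 : C1Cap.rdu ξ p ≠ 0 := fun h0 => C1Cap.rdu_ne_zero he _ hs ha (by rw [map_mul, h0, mul_zero])
  have hq0 : C1Cap.rdu ξ q ≠ 0 := fun h0 => C1Cap.rdu_ne_zero hf _ ht hb (by rw [map_mul, h0, mul_zero])
  rw [hpq, Submodule.Quotient.mk_smul, smul_smul, C1Cap.secOrdAt_eq he h hx ha, C1Cap.secOrdAt_eq hf h hx hb,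
    C1Cap.secOrdAt_eq (TMul.isGen_tm he hf) h hx rfl]
  simp only [map_mul]
  rw [
    C1Cap.ordAt_mul h ha0 hp0, C1Cap.ordAt_mul h hb0 hq0, C1Cap.ordAt_mul h (mul_ne_zero ha0 hb0) (mul_ne_zero hp0 hq0),
    C1Cap.ordAt_mul h hp0 hq0, C1Cap.ordAt_mul h ha0 hb0]
  ring

/-- Fallbacks for the product of two sections, with exact additivity of the Gysin caps. -/
theorem exists_prod_fallback (hL : PicF.IsInvertible L) (hM : PicF.IsInvertible M) (s : Γ(L, (⊤ : X.Opens)))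
    (t : Γ(M, (⊤ : X.Opens))) {v : (ξ : X) → Cyc.secFibre L ξ} {w : (ξ : X) → Cyc.secFibre M ξ}
    (hv : ∀ ξ, v ξ ≠ 0) (hw : ∀ ξ, w ξ ≠ 0) :
    ∃ z : (ξ : X) → Cyc.secFibre (CohB1.tensorMod L M) ξ, (∀ ξ, z ξ ≠ 0) ∧
      ∀ (δ : X → ℤ) (a : AlgebraicCycle X ℤ) (x : X),
        Cyc.c1CapFun δ (CohB1.tensorMod L M) ⇑a (Cyc.gysinChoice (CohB1.tensorMod L M) (TMul.tm s t) z) x =
          Cyc.c1CapFun δ L ⇑a (Cyc.gysinChoice L s v) x + Cyc.c1CapFun δ M ⇑a (Cyc.gysinChoice M t w) x := by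
  classical
  choose z hz0 hz using fun ξ => exists_tensor_sec (ξ := ξ) hL hM (CycK0.gysinChoice_ne_zero (s := s) hv ξ)
    (CycK0.gysinChoice_ne_zero (s := t) hw ξ)
  refine ⟨z, hz0, fun δ a x => ?_⟩
  unfold Cyc.c1CapFun
  rw [← finsum_add_distrib (C1Cap.finite_cap δ L a _ x) (C1Cap.finite_cap δ M a _ x)]
  refine finsum_congr fun ξ => ?_
  rw [← mul_add]
  refine congrArg _ ?_
  unfold Cyc.secDivFun
  split
  swap
  · rfl
  rename_i h
  by_cases hnz : (Submodule.Quotient.mk (mgerm (CohB1.tensorMod L M) (show ξ ∈ (⊤ : X.Opens) from trivial)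
      (TMul.tm s t)) : Cyc.secFibre (CohB1.tensorMod L M) ξ) = 0
  · rw [show Cyc.gysinChoice (CohB1.tensorMod L M) (TMul.tm s t) z ξ = z ξ from if_neg (not_not.2 hnz), hz]
  obtain ⟨A, e₀, hxA, he₀, c, hc⟩ := CycK0.exists_coefficient hL s x
  obtain ⟨B, f₀, hxB, hf₀, d, hd⟩ := CycK0.exists_coefficient hM t x
  have hx : x ∈ A ⊓ B := ⟨hxA, hxB⟩
  have he := he₀.res (inf_le_left : A ⊓ B ≤ A)
  have hf := hf₀.res (inf_le_right : A ⊓ B ≤ B)
  have hξ : ξ ∈ A ⊓ B := h.1.mem_open (A ⊓ B).2 hx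
  have key : ∀ {N : X.Modules} {r : Γ(N, (⊤ : X.Opens))} {W : X.Opens} {g : Γ(N, W)} (hW : ξ ∈ W) (hxW : x ∈ W)
      {f : X.presheaf.stalk x}, mgerm N (show x ∈ (⊤ : X.Opens) from trivial) r = f • mgerm N hxW g →
      mgerm N (show ξ ∈ (⊤ : X.Opens) from trivial) r = spz h.1 f • mgerm N hW g := by
    intro N r W g hW hxW f hf'
    have h1 := congrArg (msp N h.1) hf'
    rw [msp_smul, msp_germ N h.1 hxW g] at h1
    exact (msp_germ N h.1 (show x ∈ (⊤ : X.Opens) from trivial) r).symm.trans h1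
  rw [← WeakAssLib.mgerm_res L (inf_le_left : A ⊓ B ≤ A) hx e₀] at hc
  rw [← WeakAssLib.mgerm_res M (inf_le_right : A ⊓ B ≤ B) hx f₀] at hd
  have hc' := key hξ hx hc
  have hd' := key hξ hx hd
  have hcd := C1Cap.germ_tm (show ξ ∈ (⊤ : X.Opens) from trivial) hξ he hf hc'.symm hd'.symm
  have hprod : C1Cap.rdu ξ (spz h.1 c) * C1Cap.rdu ξ (spz h.1 d) ≠ 0 := fun h0 => hnz (by
    rw [hcd]
    exact (Submodule.Quotient.mk_eq_zero _).2 (Submodule.smul_mem_smul
      (Ideal.Quotient.eq_zero_iff_mem.1 ((map_mul _ _ _).trans h0)) Submodule.mem_top))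
  obtain ⟨hc0, hd0⟩ := mul_ne_zero_iff.1 hprod
  have hnz1 : (Submodule.Quotient.mk (mgerm L (show ξ ∈ (⊤ : X.Opens) from trivial) s) : Cyc.secFibre L ξ) ≠ 0 :=
    fun h0 => hc0 (by
      rw [hc', Submodule.Quotient.mk_smul] at h0
      have := C1Cap.rdu_unique he hξ (φ := spz h.1 c) (ψ := 0) (by rw [h0, zero_smul])
      rwa [map_zero] at this)
  have hnz2 : (Submodule.Quotient.mk (mgerm M (show ξ ∈ (⊤ : X.Opens) from trivial) t) : Cyc.secFibre M ξ) ≠ 0 :=
    fun h0 => hd0 (by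
      rw [hd', Submodule.Quotient.mk_smul] at h0
      have := C1Cap.rdu_unique hf hξ (φ := spz h.1 d) (ψ := 0) (by rw [h0, zero_smul])
      rwa [map_zero] at this)
  rw [C1Cap.secOrdAt_eq (TMul.isGen_tm he hf) h.1 hx (φ := spz h.1 c * spz h.1 d)
      (by rw [← Submodule.Quotient.mk_smul, ← hcd]; exact if_pos hnz),
    C1Cap.secOrdAt_eq he h.1 hx (φ := spz h.1 c) (by rw [← Submodule.Quotient.mk_smul, ← hc']; exact if_pos hnz1),
    C1Cap.secOrdAt_eq hf h.1 hx (φ := spz h.1 d) (by rw [← Submodule.Quotient.mk_smul, ← hd']; exact if_pos hnz2),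
    map_mul, C1Cap.ordAt_mul h.1 hc0 hd0]

end Groth.Agent.BivarOps
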