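import Groth.Agent.BivarOps.Chern
import Groth.Agent.BivarOps.C1
import Groth.Agent.BivarOps.SecProd
import Groth.Agent.TMul.GlobGen
import Groth.Agent.S10830

/-!
Products of first Chern classes beyond the dimension of a scheme with an ample module vanish.
-/

set_option autoImplicit false
set_option linter.unusedSectionVars false
set_option linter.style.haveILetI false
set_option linter.unusedVariables false
set_option backward.isDefEq.respectTransparency false
set_option backward.isDefEq.respectTransparency.types false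
set_option maxHeartbeats 1000000

universe u

open CategoryTheory CategoryTheory.Limits AlgebraicGeometry TopologicalSpace Opposite
open Groth.Agent.CycPB (Cy RZ Tot ofT c1T)
open Groth.Agent.WeakAssLib (mgerm)

noncomputable section

namespace Groth.Agent.BivarOps

variable {X Y : Scheme.{u}}

/-- a module with a section which does not vanish at a point -/
def NonVanAt (M : X.Modules) (x : X) : Prop :=
  ∃ s : Γ(M, (⊤ : X.Opens)),
    (Submodule.Quotient.mk (mgerm M (show x ∈ (⊤ : X.Opens) from trivial) s) : Cyc.secFibre M x) ≠ 0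

theorem nonVanAt_of_genLocus {M : X.Modules} (t : Coh.structureModule X ⟶ M) {x : X}
    (hx : x ∈ CohB1.genLocus M t) : NonVanAt M x := by
  refine ⟨TMul.val t ⊤, ?_⟩
  rw [← WeakAssLib.mgerm_res M (le_top : CohB1.genLocus M t ≤ ⊤) hx, TMul.res_val,
    ← one_smul (X.presheaf.stalk x) (mgerm M hx (TMul.val t (CohB1.genLocus M t)))]
  exact C1Cap.mk_gen_ne_zero (TMul.isGen_genLocus t) hx isUnit_one

theorem exists_nonVanAt_pair {A L : X.Modules} (hA : CohB1.IsAmple A) (hL : PicF.IsInvertible L) (x : X) :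
    ∃ N, NonVanAt (CohB1.tensorMod L (CohB1.tensorPow A N)) x ∧ NonVanAt (CohB1.tensorPow A N) x := by
  haveI : L.IsQuasicoherent := TMul.isQCoh_of_isInvertible hL
  obtain ⟨n₀, hn₀⟩ := TMul.exists_forall_genOn hA (F := L) (TMul.isFT_of_isInvertible hL)
  obtain ⟨a, σ, hxσ, -⟩ := hA.2.2 x
  obtain ⟨N, hN⟩ : ∃ N, N + 1 = (a + 1) * (n₀ + 1) := ⟨a * n₀ + a + n₀, by ring⟩
  obtain ⟨t, ht⟩ := TMul.exists_genLocus_pow hA.1 (N := N) ⟨n₀ + 1, hN⟩ σ
  obtain ⟨D, hDa, hxD, hD⟩ := hn₀ (N + 1) (by rw [hN]; nlinarith) x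
  obtain ⟨t₁, ht₁⟩ := TMul.exists_mem_genLocus_of_genOn
    (TMul.isInvertible_tensorMod hL (TMul.isInvertible_tensorPow hA.1 _)) hDa hD hxD
  exact ⟨N + 1, nonVanAt_of_genLocus t₁ ht₁, nonVanAt_of_genLocus t (ht.ge hxσ)⟩

variable {δ : Y → ℤ}

/-- killed by every product of `m` first Chern classes of modules from the base -/
def Killed (hY : Cyc.IsSetup Y δ) (g : Y ⟶ X) : ℕ → Tot δ → Prop
  | 0, x => x = 0
  | m + 1, x => ∀ (L : X.Modules) (hL : PicF.IsInvertible L),
      Killed hY g m (c1T hY (PicLoc.isInvertible_pullback g hL) x)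

theorem killed_zero (hY : Cyc.IsSetup Y δ) (g : Y ⟶ X) : ∀ m, Killed hY g m 0
  | 0 => rfl
  | m + 1 => fun L hL => by rw [map_zero]; exact killed_zero hY g m

theorem killed_add (hY : Cyc.IsSetup Y δ) (g : Y ⟶ X) : ∀ m {x y : Tot δ}, Killed hY g m x → Killed hY g m y →
    Killed hY g m (x + y)
  | 0, x, y, hx, hy => by show x + y = 0; rw [show x = 0 from hx, show y = 0 from hy, add_zero]
  | m + 1, x, y, hx, hy => fun L hL => by rw [map_add]; exact killed_add hY g m (hx L hL) (hy L hL)

theorem killed_sub (hY : Cyc.IsSetup Y δ) (g : Y ⟶ X) : ∀ m {x y : Tot δ}, Killed hY g m x → Killed hY g m y →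
    Killed hY g m (x - y)
  | 0, x, y, hx, hy => by show x - y = 0; rw [show x = 0 from hx, show y = 0 from hy, sub_zero]
  | m + 1, x, y, hx, hy => fun L hL => by rw [map_sub]; exact killed_sub hY g m (hx L hL) (hy L hL)

theorem dim_lt_succ_iff {d : WithBot ℕ∞} {m : ℕ} (h : d < ((m + 1 : ℕ) : WithBot ℕ∞)) :
    d ≤ ((m : ℕ) : WithBot ℕ∞) := by
  induction d with
  | bot => exact bot_le
  | coe a =>
    induction a with
    | top => exact absurd h (not_lt.2 (WithBot.coe_le_coe.2 le_top))
    | coe b =>
      have hb : b < m + 1 := by exact_mod_cast h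
      exact_mod_cast Nat.lt_succ_iff.1 hb

theorem killed_of_support [IsLocallyNoetherian X] [CompactSpace X] (hY : Cyc.IsSetup Y δ) (g : Y ⟶ X)
    {A : X.Modules} (hA : CohB1.IsAmple A) : ∀ (m : ℕ) (Z : Set X), IsClosed Z →
      topologicalKrullDim ↥Z < ((m : ℕ) : WithBot ℕ∞) → ∀ (l : ℤ) (a : Y → ℤ) (ha : Cy δ l a),
      (∀ y, a y ≠ 0 → g y ∈ Z) → Killed hY g m (ofT ha) := by
  haveI : IsNoetherian X := {}
  haveI := hY.1
  intro m
  induction m with
  | zero =>
    intro Z hZ hdim l a ha hsupp
    have hZe : IsEmpty ↥Z := by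
      by_contra hne
      rw [not_isEmpty_iff] at hne
      obtain ⟨z⟩ := hne
      haveI : Nonempty (IrreducibleCloseds ↥Z) :=
        ⟨⟨closure {z}, isIrreducible_singleton.closure, isClosed_closure⟩⟩
      exact absurd hdim (not_lt.2 (by simpa [topologicalKrullDim] using Order.krullDim_nonneg (α := IrreducibleCloseds ↥Z)))
    show ofT ha = 0
    rw [← CycPB.ofT_zero (δ := δ) l]
    exact CycPB.ofT_congr ha _ (funext fun y => by_contra fun h => hZe.elim ⟨g y, hsupp y h⟩)
  | succ m ih =>
    -- irreducible sets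
    have irr : ∀ Z : Set X, IsClosed Z → IsIrreducible Z →
        topologicalKrullDim ↥Z < ((m + 1 : ℕ) : WithBot ℕ∞) → ∀ (l : ℤ) (a : Y → ℤ) (ha : Cy δ l a),
        (∀ y, a y ≠ 0 → g y ∈ Z) → Killed hY g (m + 1) (ofT ha) := by
      intro Z hZ hZi hdim l a ha hsupp L hL
      obtain ⟨η, hη⟩ := QuasiSober.sober hZi hZ
      have hηZ : η ∈ Z := hη.mem
      obtain ⟨N, hN1, hN2⟩ := exists_nonVanAt_pair hA hL η
      have hP := TMul.isInvertible_tensorPow hA.1 N
      have hM := TMul.isInvertible_tensorMod hL hP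
      have main : ∀ (M : X.Modules) (hM : PicF.IsInvertible M), NonVanAt M η →
          Killed hY g m (c1T hY (PicLoc.isInvertible_pullback g hM) (ofT ha)) := by
        intro M hM ⟨s, hs⟩
        let I := PicF2.zeroScheme M (TMul.homOf s)
        have hI := CycPB.isZeroSchemeOf_zeroScheme hM s
        let V : Set X := Z ∩ Set.range I.subschemeι
        have hV : IsClosed V := hZ.inter I.subschemeι.isClosedEmbedding.isClosed_range
        have hM' := PicLoc.isInvertible_pullback g hM
        obtain ⟨w, hw⟩ := CycPB.exists_sections hM'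
        have ha' : Cy δ (l - 1 + 1) a := by rw [sub_add_cancel]; exact ha
        have hv := CycK0.gysinChoice_ne_zero (L := (Scheme.Modules.pullback g).obj M)
          (s := CycSec.pe g (A := ⊤) s) hw
        rw [CycPB.ofT_congr' ha ha' (sub_add_cancel l 1).symm, CycPB.c1T_ofT hY hM' hv ha']
        have hηV : η ∉ V := fun h => hs ((Set.ext_iff.1 hI.1 η).1 h.2)
        have hdimV : topologicalKrullDim ↥V < ((m : ℕ) : WithBot ℕ∞) := by
          haveI : IrreducibleSpace ↥Z := Subtype.irreducibleSpace hZi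
          let V' : Set ↥Z := Subtype.val ⁻¹' V
          have h1 := S10830.result ↥Z (ne_top_of_lt hdim) V' (hV.preimage continuous_subtype_val)
            fun h => hηV (show (⟨η, hηZ⟩ : ↥Z) ∈ V' from h ▸ trivial)
          refine lt_of_le_of_lt ?_ (lt_of_lt_of_le h1 (dim_lt_succ_iff hdim))
          let f : ↥V → ↥V' := fun v => ⟨⟨v.1, v.2.1⟩, v.2⟩
          have hf : Topology.IsInducing f :=
            Topology.IsInducing.codRestrict (Topology.IsInducing.codRestrict Topology.IsInducing.subtypeVal
              (fun v : ↥V => v.2.1)) (fun v => v.2)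
          exact hf.topologicalKrullDim_le
        refine ih V hV hdimV _ _ _ fun y hy => ?_
        refine ⟨?_, ?_⟩
        · by_contra hgy
          refine hy (finsum_eq_zero_of_forall_eq_zero fun ξ => ?_)
          by_contra hne
          exact hgy (((CycSec.secDivFun_support (right_ne_zero_of_mul hne)).1.map g.continuous).mem_closed hZ
            (hsupp ξ (left_ne_zero_of_mul hne)))
        · by_contra hgy
          refine hy (CycPB.gysin_off hM' (pullback.fst g I.subschemeι)
            (isZeroSchemeOf_pe g (IsPullback.of_hasPullback g I.subschemeι) hM hI) w a ?_)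
          rw [Scheme.Pullback.range_fst]
          exact hgy
      have e : c1T hY (PicLoc.isInvertible_pullback g hL) =
          c1T hY (PicLoc.isInvertible_pullback g hM) - c1T hY (PicLoc.isInvertible_pullback g hP) := by
        rw [CycPB.c1T_iso hY (PicLoc.isInvertible_pullback g hM)
          (TMul.isInvertible_tensorMod (PicLoc.isInvertible_pullback g hL) (PicLoc.isInvertible_pullback g hP))
          (KFlat.pullTensorIso g L (CohB1.tensorPow A N)).symm, CycPB.c1T_tensor]
        exact (add_sub_cancel_right (G := AddMonoid.End (Tot δ)) _ _).symm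
      rw [e]
      exact killed_sub hY g m (main _ hM hN1) (main _ hP hN2)
    intro Z hZ hdim l a ha hsupp
    obtain ⟨S, hSf, hSc, hSi, rfl⟩ := NoetherianSpace.exists_finite_set_isClosed_irreducible hZ
    have fin : ∀ S : Set (Set X), S.Finite → (∀ t ∈ S, IsClosed t) → (∀ t ∈ S, IsIrreducible t) →
        (∀ t ∈ S, topologicalKrullDim ↥t < ((m + 1 : ℕ) : WithBot ℕ∞)) → ∀ (a : Y → ℤ) (ha : Cy δ l a),
        (∀ y, a y ≠ 0 → g y ∈ ⋃₀ S) → Killed hY g (m + 1) (ofT ha) := by
      intro S hS
      induction S, hS using Set.Finite.induction_on with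
      | empty =>
        intro _ _ _ a ha hs
        rw [show ofT ha = 0 by
          rw [← CycPB.ofT_zero (δ := δ) l]
          exact CycPB.ofT_congr ha _ (funext fun y => by_contra fun h => by simpa using hs y h)]
        exact killed_zero hY g _
      | @insert t S ht hS' ihS =>
        intro hc hi hd a ha hs
        classical
        let b : Y → ℤ := fun y => if g y ∈ t then a y else 0
        obtain ⟨A₀, hA₀, hA₀k⟩ := ha
        have hb : Cy δ l b := by
          obtain ⟨B, hB⟩ := CycK0.exists_cycle_affine b fun {U} hU =>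
            (CycAff.finite_on A₀ hU.isCompact).subset fun y hy => ⟨hy.1, fun h => hy.2 (by
              show (if g y ∈ t then a y else 0) = 0
              rw [← hA₀, h, ite_self])⟩
          exact ⟨B, hB, fun y hy => by
            rw [hB]; show (if g y ∈ t then a y else 0) = 0
            rw [← hA₀, hA₀k y hy, ite_self]⟩
        have ha' : Cy δ l a := ⟨A₀, hA₀, hA₀k⟩
        have hab := ha'.sub hb
        rw [show ofT (⟨A₀, hA₀, hA₀k⟩ : Cy δ l a) = ofT hb + ofT hab by
          rw [← CycPB.ofT_add]
          exact CycPB.ofT_congr _ _ (funext fun y => by ring)]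
        refine killed_add hY g _ (irr t (hc t (Set.mem_insert _ _)) (hi t (Set.mem_insert _ _))
          (hd t (Set.mem_insert _ _)) l b hb fun y hy => ?_) (ihS (fun u hu => hc u (Set.mem_insert_of_mem _ hu))
            (fun u hu => hi u (Set.mem_insert_of_mem _ hu)) (fun u hu => hd u (Set.mem_insert_of_mem _ hu)) _ hab
            fun y hy => ?_)
        · by_contra hyt
          exact hy (if_neg hyt)
        · have hyt : g y ∉ t := fun h => hy (by show a y - (if g y ∈ t then a y else 0) = 0; rw [if_pos h, sub_self])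
          have hay : a y ≠ 0 := fun h => hy (by
            show a y - (if g y ∈ t then a y else 0) = 0
            rw [h, ite_self, sub_zero])
          obtain ⟨u, hu, hyu⟩ := hs y hay
          rcases Set.mem_insert_iff.1 hu with rfl | hu
          · exact absurd hyu hyt
          · exact ⟨u, hu, hyu⟩
    refine fin S hSf hSc hSi (fun t ht => lt_of_le_of_lt ?_ hdim) a ha hsupp
    exact Topology.IsInducing.topologicalKrullDim_le
      (Topology.IsEmbedding.inclusion (Set.subset_sUnion_of_mem ht)).isInducing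

theorem toTot_injective (k : ℤ) : Function.Injective (toTot (δ := δ) k) := by
  refine Function.LeftInverse.injective (g := ofTot δ k) fun x => ?_
  obtain ⟨C, hC, rfl⟩ := Bivar.exists_rep x
  rw [toTot_cl]
  refine clF_eq _ C hC (CycPB.RZ.zero.eq (funext fun y => ?_))
  show (0 : ℤ) = CycPB.sgl k (⇑C) k y - C y
  rw [CycPB.sgl_self, sub_self]

theorem toTot_chCast {k l : ℤ} (e : k = l) (x : ChowOps.CH Y δ k) :
    toTot l (Bivar.chCast Y δ e x) = toTot k x := by
  subst e; rfl

theorem chain_eq_zero [CompactSpace X] {δX : X → ℤ} (hX : Cyc.IsSetup X δX) {A : X.Modules}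
    (hA : CohB1.IsAmple A) (d : ℕ) (hd : topologicalKrullDim X ≤ (d : WithBot ℕ∞)) (L : ℕ → X.Modules)
    (c : ℕ → Bivar.OpCl 1 X δX) (hc : ∀ j, j ≤ d → Bivar.IsC1Class (L j) (c j)) (s : Bivar.OSq X δX) (k : ℤ)
    (x : (j : ℕ) → ChowOps.CH s.Y s.δ (k - (j : ℤ)))
    (hx : ∀ j, j ≤ d → (c j).op s (k - (j : ℤ)) (x j) = Bivar.chCast s.Y s.δ
      (((congrArg (fun t : ℤ => k - t) (Nat.cast_succ j)).trans (sub_sub k (j : ℤ) 1).symm)) (x (j + 1))) :
    x (d + 1) = 0 := by
  haveI := hX.1
  have hY := isSetup_osq hX s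
  haveI := hY.1
  have step : ∀ j, j ≤ d + 1 → Killed hY s.g (d + 1 - j) (toTot (k - (j : ℤ)) (x j)) := by
    intro j
    induction j with
    | zero =>
      intro _
      obtain ⟨α, hα, he⟩ := Bivar.exists_rep (x 0)
      rw [← he, toTot_cl, Nat.sub_zero]
      refine killed_of_support hY s.g hA (d + 1) Set.univ isClosed_univ ?_ _ _ _ fun y _ => trivial
      rw [(Homeomorph.Set.univ X).isHomeomorph.topologicalKrullDim_eq]
      exact lt_of_le_of_lt hd (by exact_mod_cast Nat.lt_succ_self d)
    | succ j ihj =>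
      intro hj
      have hj' : j ≤ d := by omega
      have h1 := ihj (by omega)
      rw [show d + 1 - j = d + 1 - (j + 1) + 1 by omega] at h1
      have hL := (hc j hj').1
      have h2 := h1 (L j) hL
      obtain ⟨α, hα, hxe⟩ := Bivar.exists_rep (x j)
      have hM := PicLoc.isInvertible_pullback s.g hL
      obtain ⟨v, hv⟩ := CycPB.exists_sections hM
      have hα' : Cy s.δ (k - (j : ℤ) - 1 + 1) ⇑α := by rw [sub_add_cancel]; exact CycPB.Cy.mk hα
      obtain ⟨γ, hγ, hγk⟩ := hα'.cap hY hM hv
      have h3 := (hc j hj').2 s _ α hα v hv γ hγ hγk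
      rw [hxe, hx j hj'] at h3
      have h4 : toTot (k - ((j + 1 : ℕ) : ℤ)) (x (j + 1)) =
          c1T hY hM (toTot (k - (j : ℤ)) (x j)) := by
        rw [← toTot_chCast (((congrArg (fun t : ℤ => k - t) (Nat.cast_succ j)).trans (sub_sub k (j : ℤ) 1).symm)) (x (j + 1)), h3, ← hxe, toTot_cl, toTot_cl,
          CycPB.ofT_congr' (CycPB.Cy.mk hα) hα' (sub_add_cancel _ 1).symm, CycPB.c1T_ofT hY hM hv hα']
        exact CycPB.ofT_congr _ _ hγ
      rw [h4]
      exact h2
  have := step (d + 1) le_rfl
  rw [Nat.sub_self] at this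
  exact toTot_injective _ ((show toTot _ (x (d + 1)) = 0 from this).trans (map_zero _).symm)

end Groth.Agent.BivarOps
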