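import Groth.Agent.CycPB.Compat
import Groth.Agent.CycPB.HomInv
import Groth.Agent.CycPB.ChernExt
import Groth.Agent.CycPB.OpsPush
import Groth.Prelude.Def_Bivar
import Groth.Prelude.Def_Bivar2

/-!
Homomorphisms of Chow groups from operations on coefficient functions; test schemes of bivariant classes.
-/

set_option autoImplicit false
set_option linter.unusedSectionVars false
set_option linter.style.haveILetI false
set_option backward.isDefEq.respectTransparency false
set_option backward.isDefEq.respectTransparency.types false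

universe u

open CategoryTheory CategoryTheory.Limits AlgebraicGeometry Opposite
open Groth.Agent.CycPB (Cy RZ pushF)

noncomputable section

namespace Groth.Agent.BivarOps

variable {X Y : Scheme.{u}} {δ : X → ℤ} {δY : Y → ℤ} {k l : ℤ}

/-- cycles with rationally equivalent coefficients have the same class -/
theorem cl_eq {A B : AlgebraicCycle X ℤ} (hA : A ∈ Cyc.Zk X δ k) (hB : B ∈ Cyc.Zk X δ k)
    (h : RZ δ k fun x => A x - B x) : ChowOps.cl A hA = ChowOps.cl B hB := by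
  refine (QuotientAddGroup.eq).2 ?_
  refine AddSubgroup.subset_closure ?_
  refine CycPB.RZ.ratEquivZero ((CycPB.RZ.neg_diff h).eq (funext fun x => ?_))
  show B x - A x = -A x + B x
  ring

/-- the class of a coefficient function -/
def clF {a : X → ℤ} (ha : Cy δ k a) : ChowOps.CH X δ k := ChowOps.cl ha.choose ha.choose_spec.2

theorem clF_eq {a : X → ℤ} (ha : Cy δ k a) (A : AlgebraicCycle X ℤ) (hA : A ∈ Cyc.Zk X δ k)
    (h : RZ δ k fun x => a x - A x) : clF ha = ChowOps.cl A hA :=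
  cl_eq _ hA (h.eq (funext fun x => by rw [ha.choose_spec.1]))

/-- a homomorphism of Chow groups from an operation on coefficient functions -/
def mkHom (F : (X → ℤ) → Y → ℤ) (hcy : ∀ a, Cy δ k a → Cy δY l (F a))
    (hadd : ∀ a b, Cy δ k a → Cy δ k b → F (fun x => a x + b x) = fun y => F a y + F b y)
    (hrz : ∀ a, RZ δ k a → RZ δY l (F a)) : ChowOps.CH X δ k →+ ChowOps.CH Y δY l :=
  let φ : ↥(ChowOps.zk X δ k) →+ ChowOps.CH Y δY l :=
    AddMonoidHom.mk' (fun A => clF (hcy ⇑A.1 (CycPB.Cy.mk A.2))) fun A B => by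
      obtain ⟨CA, hCA, hA⟩ := hcy ⇑A.1 (CycPB.Cy.mk A.2)
      obtain ⟨CB, hCB, hB⟩ := hcy ⇑B.1 (CycPB.Cy.mk B.2)
      have eA : clF (hcy ⇑A.1 (CycPB.Cy.mk A.2)) = ChowOps.cl CA hA :=
        clF_eq _ CA hA (CycPB.RZ.zero.eq (funext fun x => by rw [hCA, sub_self]))
      have eB : clF (hcy ⇑B.1 (CycPB.Cy.mk B.2)) = ChowOps.cl CB hB :=
        clF_eq _ CB hB (CycPB.RZ.zero.eq (funext fun x => by rw [hCB, sub_self]))
      rw [eA, eB, ← Bivar.cl_add]
      refine clF_eq _ _ _ (CycPB.RZ.zero.eq (funext fun x => ?_))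
      show (0 : ℤ) = F (fun x => A.1 x + B.1 x) x - (CA x + CB x)
      rw [hadd _ _ (CycPB.Cy.mk A.2) (CycPB.Cy.mk B.2), hCA, hCB, sub_self]
  QuotientAddGroup.lift (ChowOps.ratTriv X δ k) φ ((AddSubgroup.closure_le _).2 fun A hA =>
    ((clF_eq _ 0 ((ChowOps.zk Y δY l).zero_mem)
      ((hrz ⇑A.1 ⟨A.1, rfl, A.2, hA⟩).eq (funext fun x => by
        show F _ x = F _ x - (0 : ℤ)
        rw [sub_zero]))).trans Bivar.cl_zero))

theorem mkHom_cl (F : (X → ℤ) → Y → ℤ) (hcy hadd hrz) (A : AlgebraicCycle X ℤ) (hA : A ∈ Cyc.Zk X δ k)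
    (C : AlgebraicCycle Y ℤ) (hC : C ∈ Cyc.Zk Y δY l) (h : RZ δY l fun y => F ⇑A y - C y) :
    mkHom F hcy hadd hrz (ChowOps.cl A hA) = ChowOps.cl C hC :=
  clF_eq _ C hC h

/-- dimension functions between test schemes -/
theorem deltaCompat_of_comp {Z : Scheme.{u}} {δZ : Z → ℤ} {h : X ⟶ Y} {g : Y ⟶ Z} {g' : X ⟶ Z} (w : h ≫ g = g')
    (hg : Cyc.DeltaCompat g δY δZ) (hg' : Cyc.DeltaCompat g' δ δZ) : Cyc.DeltaCompat h δ δY :=
  CycPB.deltaCompat_square (π := g) (π' := g') (f := 𝟙 Z) (by rw [w, Category.comp_id]) (Bivar.deltaCompat_id δZ) hg hg'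

theorem isSetup_test {Z : Scheme.{u}} {δZ : Z → ℤ} (hZ : Cyc.IsSetup Z δZ) (g : X ⟶ Z) [LocallyOfFiniteType g]
    (hg : Cyc.DeltaCompat g δ δZ) : Cyc.IsSetup X δ := by
  obtain ⟨δ', h', hδ'⟩ := CycPB.exists_isSetup hZ g
  have e : δ' = δ := funext fun x => CycPush.deltaCompat_unique g hδ' hg x
  exact e ▸ h'

theorem delta_closed (i : X ⟶ Y) [IsClosedImmersion i] (hi : Cyc.DeltaCompat i δ δY) : δ = fun x => δY (i x) :=
  funext fun x => CycPush.deltaCompat_unique i hi (CycPush.deltaCompat_preimmersion i δY) x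

theorem cy_pushF (f : X ⟶ Y) [IsProper f] (A : AlgebraicCycle X ℤ) :
    ⇑(AlgebraicCycle.map f δ δY A) = pushF f δ δY ⇑A := rfl

end Groth.Agent.BivarOps
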