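import Groth.Agent.BivarOps.ProperPush
import Groth.Agent.CycPB.TrivDiv
import Groth.Agent.CycPB.Top

/-!
Restriction of cycle classes to open subschemes; gluing along a decomposition into open and closed subschemes.
-/

set_option autoImplicit false
set_option linter.unusedSectionVars false
set_option linter.style.haveILetI false
set_option backward.isDefEq.respectTransparency false
set_option backward.isDefEq.respectTransparency.types false
set_option maxHeartbeats 800000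

universe u

open CategoryTheory CategoryTheory.Limits AlgebraicGeometry Opposite
open Groth.Agent.CycPB (Cy RZ pushF)
open Groth.Agent.EquidimPt (IsFibMax)

noncomputable section

namespace Groth.Agent.BivarOps

variable {T W : Scheme.{u}} {δ : T → ℤ} {k : ℤ}

theorem fibLen_id (x : T) : CycFin.fibLen (𝟙 T) x = 1 := by
  show Module.length (T.presheaf.stalk x) (T.presheaf.stalk x ⧸
    Ideal.map ((𝟙 T : T ⟶ T).stalkMap x).hom (IsLocalRing.maximalIdeal (T.presheaf.stalk x))) = 1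
  rw [Scheme.Hom.stalkMap_id]
  have hm : Ideal.map (𝟙 (T.presheaf.stalk x) : T.presheaf.stalk x ⟶ _).hom (IsLocalRing.maximalIdeal _) =
      IsLocalRing.maximalIdeal (T.presheaf.stalk x) := Ideal.map_id _
  rw [Module.length_eq_one_iff, isSimpleModule_iff_isCoatom, ← Ideal.isMaximal_def]
  convert IsLocalRing.maximalIdeal.isMaximal (T.presheaf.stalk x) using 1

/-- flat pull back along an open immersion is restriction -/
theorem pullFun_openImm (e : W ⟶ T) [IsOpenImmersion e] {δW : W → ℤ} (hδ : Cyc.DeltaCompat e δW δ) (a : T → ℤ) :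
    Cyc.pullFun e δW δ 0 a = fun u => a (e u) := by
  funext u
  have hW : Cyc.DeltaCompat (e ≫ 𝟙 T) δW δ := by rwa [Category.comp_id]
  obtain ⟨-, h⟩ := CycPB.pullFun_open e (𝟙 T) (Bivar.deltaCompat_id δ) hW 0 a u
  have e1 : Cyc.pullFun (e ≫ 𝟙 T) δW δ 0 a u = Cyc.pullFun e δW δ 0 a u := by rw [Category.comp_id]
  rw [← e1, h]
  show (if δ (e u) = δ ((𝟙 T : T ⟶ T) (e u)) + 0 then a ((𝟙 T : T ⟶ T) (e u)) * ((CycFin.fibLen (𝟙 T) (e u)).toNat : ℤ)
    else 0) = a (e u)
  rw [if_pos (by simp), fibLen_id]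
  simp

theorem hasRelDim_openImm [IsLocallyNoetherian T] (e : W ⟶ T) [IsOpenImmersion e] : Cyc.HasRelDim e 0 :=
  CycDim.hasRelDim_of_trdeg e 0 fun x _ => (CycPB.resTr_pre e x).trans Nat.cast_zero.symm

theorem delta_open (e : W ⟶ T) [IsOpenImmersion e] {δW : W → ℤ} (hδ : Cyc.DeltaCompat e δW δ) :
    δW = fun u => δ (e u) :=
  funext fun u => CycPush.deltaCompat_unique e hδ (CycPush.deltaCompat_preimmersion e δ) u

/-- restriction of a cycle function -/
theorem cy_restrict (hT : Cyc.IsSetup T δ) (e : W ⟶ T) [IsOpenImmersion e] {δW : W → ℤ} (hW : Cyc.IsSetup W δW)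
    (hδ : Cyc.DeltaCompat e δW δ) {a : T → ℤ} (ha : Cy δ k a) : Cy δW k fun u => a (e u) := by
  haveI := hT.1
  have h := ha.pullR hW e hδ (hasRelDim_openImm e)
  rw [Nat.cast_zero, add_zero, pullFun_openImm e hδ] at h
  exact h

theorem rz_restrict (hT : Cyc.IsSetup T δ) (e : W ⟶ T) [IsOpenImmersion e] {δW : W → ℤ} (hW : Cyc.IsSetup W δW)
    (hδ : Cyc.DeltaCompat e δW δ) {a : T → ℤ} (ha : RZ δ k a) : RZ δW k fun u => a (e u) := by
  haveI := hT.1
  have h := ha.pullR hT hW e hδ (hasRelDim_openImm e)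
  rw [Nat.cast_zero, add_zero, pullFun_openImm e hδ] at h
  exact h

/-- an open and closed decomposition -/
structure Decomp (T : Scheme.{u}) (δ : T → ℤ) (J : Type u) : Type (u + 1) where
  piece : J → Scheme.{u}
  e : ∀ j, piece j ⟶ T
  open_ : ∀ j, IsOpenImmersion (e j)
  disj : ∀ j j', j ≠ j' → Disjoint (Set.range (e j)) (Set.range (e j'))
  cover : ∀ x : T, ∃ j, x ∈ Set.range (e j)
  δp : ∀ j, piece j → ℤ
  compat : ∀ j, Cyc.DeltaCompat (e j) (δp j) δ
  setup : Cyc.IsSetup T δ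
  setupP : ∀ j, Cyc.IsSetup (piece j) (δp j)

namespace Decomp

variable {J : Type u} (D : Decomp T δ J)

attribute [instance] Decomp.open_

theorem uniq {x : T} {j j' : J} (h : x ∈ Set.range (D.e j)) (h' : x ∈ Set.range (D.e j')) : j = j' :=
  by_contra fun hne => (D.disj j j' hne).le_bot ⟨h, h'⟩

theorem clopen (j : J) : IsClopen (Set.range (D.e j)) := by
  refine ⟨⟨?_⟩, (D.e j).isOpenEmbedding.isOpen_range⟩
  have h : (Set.range (D.e j))ᶜ = ⋃ j' ∈ {j' | j' ≠ j}, Set.range (D.e j') := by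
    ext x
    simp only [Set.mem_compl_iff, Set.mem_iUnion, Set.mem_ofPred_eq, exists_prop]
    exact ⟨fun hx => (D.cover x).elim fun j' hj' => ⟨j', fun e => hx (e ▸ hj'), hj'⟩,
      fun ⟨j', hne, hj'⟩ hx => hne (D.uniq hj' hx)⟩
  rw [h]
  exact isOpen_biUnion fun j' _ => (D.e j').isOpenEmbedding.isOpen_range

theorem closed (j : J) : IsClosedImmersion (D.e j) :=
  IsClosedImmersion.of_isPreimmersion _ (D.clopen j).isClosed

/-- cycle functions glue -/
theorem cy_glue {a : T → ℤ} (h : ∀ j, Cy (D.δp j) k fun u => a (D.e j u)) : Cy δ k a := by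
  choose A hA hAk using h
  refine ⟨⟨a, fun _ _ => trivial, fun x _ => ?_⟩, rfl, fun x hx => ?_⟩
  · obtain ⟨j, u, rfl⟩ := D.cover x
    obtain ⟨U, hU, hfin⟩ := (A j).supportLocallyFiniteWithinDomain' u (Set.mem_univ u)
    refine ⟨(D.e j) '' U, (D.e j).isOpenEmbedding.image_mem_nhds.2 hU, (hfin.image (D.e j)).subset ?_⟩
    rintro _ ⟨⟨w, hw, rfl⟩, hs⟩
    exact ⟨w, ⟨hw, show A j w ≠ 0 by rw [hA]; exact hs⟩, rfl⟩
  · obtain ⟨j, u, rfl⟩ := D.cover x
    show a ((D.e j) u) = 0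
    rw [← congrFun (hA j) u]
    exact hAk j u fun e => hx (by rw [← e, delta_open (D.e j) (D.compat j)])

/-- rational equivalence to zero glues -/
theorem rz_glue {a : T → ℤ} (h : ∀ j, RZ (D.δp j) k fun u => a (D.e j u)) : RZ δ k a := by
  haveI := D.setup.1
  obtain ⟨A, hA, hAk⟩ := D.cy_glue fun j => (h j).cy
  refine ⟨A, hA, hAk, ?_⟩
  have hb : ∀ j, ∃ B : AlgebraicCycle T ℤ, Cyc.RatEquivZero δ k B ∧
      (∀ x ∈ Set.range (D.e j), B x = A x) ∧ ∀ x, x ∉ Set.range (D.e j) → B x = 0 := fun j => by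
    haveI := D.closed j
    obtain ⟨B, hB, hBk, hB'⟩ := (h j).push (D.e j) D.setup (D.setupP j) (D.compat j)
    refine ⟨B, hB', ?_, fun x hx => ?_⟩
    · rintro _ ⟨u, rfl⟩
      rw [hB, hA, delta_open (D.e j) (D.compat j), CycPB.pushF_closed]
    · rw [hB]
      exact CycPB.pushF_closed_of_notMem (D.e j) _ _ _ hx
  choose B hB hBA hB0 using hb
  choose ι ξ f h1 h2 h3 h4 h5 using fun j => CycPB.exists_data_clopen (hB j) (D.clopen j) (hB0 j)
  refine ⟨Σ j, ι j, fun i => ξ i.1 i.2, fun i => f i.1 i.2, fun i => h1 _ _, fun i => h2 _ _, fun x => ?_, fun x => ?_⟩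
  · obtain ⟨j, hj⟩ := D.cover x
    obtain ⟨U, hU, hxU, hfin⟩ := h4 j x
    refine ⟨U ∩ Set.range (D.e j), hU.inter (D.clopen j).2, ⟨hxU, hj⟩,
      (hfin.image fun i => (⟨j, i⟩ : Σ j, ι j)).subset ?_⟩
    rintro ⟨j', i⟩ ⟨z, hz, hzU, hzS⟩
    obtain rfl : j' = j := D.uniq
      ((D.clopen j').1.closure_subset_iff.2 (Set.singleton_subset_iff.2 (h3 j' i)) hz) hzS
    exact ⟨i, ⟨z, hz, hzU⟩, rfl⟩
  · obtain ⟨j, hj⟩ := D.cover x
    rw [← hBA j x hj, h5 j x]
    let emb : ι j → Σ j', ι j' := fun i => ⟨j, i⟩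
    have hinj : Function.Injective emb := sigma_mk_injective
    rw [← finsum_mem_range (f := fun i : Σ j', ι j' => Cyc.divFun δ (ξ i.1 i.2) (f i.1 i.2) x) hinj,
      ← finsum_mem_inter_support _ (Set.range emb), ← finsum_mem_univ fun i : Σ j', ι j' =>
        Cyc.divFun δ (ξ i.1 i.2) (f i.1 i.2) x, ← finsum_mem_inter_support _ Set.univ]
    refine finsum_mem_congr (Set.ext fun i => ⟨fun h => ⟨trivial, h.2⟩, fun h => ⟨?_, h.2⟩⟩) fun _ _ => rfl
    obtain ⟨j', i⟩ := i
    have hsp := (CycDeg.divFun_delta (show Cyc.divFun δ (ξ j' i) (f j' i) x ≠ 0 from h.2)).1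
    obtain rfl : j' = j := D.uniq
      ((D.clopen j').1.closure_subset_iff.2 (Set.singleton_subset_iff.2 (h3 j' i)) hsp.mem_closure) hj
    exact ⟨i, rfl⟩

/-- restriction of classes to all pieces -/
def resHom (k : ℤ) : ChowOps.CH T δ k →+ ((j : J) → ChowOps.CH (D.piece j) (D.δp j) k) :=
  AddMonoidHom.pi fun j => mkHom (fun a u => a (D.e j u))
    (fun _ ha => cy_restrict D.setup (D.e j) (D.setupP j) (D.compat j) ha) (fun _ _ _ _ => rfl)
    (fun _ ha => rz_restrict D.setup (D.e j) (D.setupP j) (D.compat j) ha)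

theorem resHom_cl (A : AlgebraicCycle T ℤ) (hA : A ∈ Cyc.Zk T δ k) (j : J) (C : AlgebraicCycle (D.piece j) ℤ)
    (hC : C ∈ Cyc.Zk (D.piece j) (D.δp j) k) (h : RZ (D.δp j) k fun u => A (D.e j u) - C u) :
    D.resHom k (ChowOps.cl A hA) j = ChowOps.cl C hC :=
  mkHom_cl (fun a u => a (D.e j u)) (fun _ ha => cy_restrict D.setup (D.e j) (D.setupP j) (D.compat j) ha)
    (fun _ _ _ _ => rfl) (fun _ ha => rz_restrict D.setup (D.e j) (D.setupP j) (D.compat j) ha) A hA C hC h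

theorem exists_glue (B : (j : J) → AlgebraicCycle (D.piece j) ℤ) (hB : ∀ j, B j ∈ Cyc.Zk (D.piece j) (D.δp j) k) :
    ∃ A : AlgebraicCycle T ℤ, A ∈ Cyc.Zk T δ k ∧ ∀ j u, A (D.e j u) = B j u := by
  choose jx ux hux using D.cover
  have key : ∀ j u, B (jx (D.e j u)) (ux (D.e j u)) = B j u := fun j u => by
    obtain ⟨j', hj'⟩ : ∃ j', jx (D.e j u) = j' := ⟨_, rfl⟩
    have hu := hux (D.e j u)
    generalize ux (D.e j u) = v at hu ⊢
    revert v
    rw [hj']
    intro v hu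
    obtain rfl : j' = j := D.uniq ⟨v, hu⟩ ⟨u, rfl⟩
    rw [(D.e j').isOpenEmbedding.injective hu]
  obtain ⟨A, hA, hAk⟩ := D.cy_glue (a := fun x => B (jx x) (ux x)) fun j =>
    ⟨B j, funext fun u => (key j u).symm, hB j⟩
  exact ⟨A, hAk, fun j u => by rw [hA]; exact key j u⟩

theorem resHom_bijective (k : ℤ) : Function.Bijective (D.resHom k) := by
  refine ⟨(injective_iff_map_eq_zero _).2 fun x hx => ?_, fun y => ?_⟩
  · obtain ⟨A, hA, rfl⟩ := Bivar.exists_rep x
    rw [← Bivar.cl_zero]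
    refine cl_eq hA _ ((D.rz_glue fun j => ?_).eq (funext fun x => (sub_zero (A x)).symm))
    obtain ⟨C, hC, hCk⟩ := cy_restrict D.setup (D.e j) (D.setupP j) (D.compat j) (CycPB.Cy.mk hA)
    have h1 : ChowOps.cl C hCk = ChowOps.cl 0 ((ChowOps.zk _ (D.δp j) k).zero_mem) := by
      rw [← D.resHom_cl A hA j C hCk (CycPB.RZ.zero.eq (funext fun u => by rw [hC, sub_self])), congrFun hx j]
      exact Bivar.cl_zero.symm
    refine (rz_of_cl_eq _ _ h1.symm).eq (funext fun u => ?_)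
    show C u - (0 : ℤ) = A (D.e j u)
    rw [sub_zero, hC]
  · choose B hB hBe using fun j => Bivar.exists_rep (y j)
    obtain ⟨A, hA, hAe⟩ := D.exists_glue B hB
    exact ⟨ChowOps.cl A hA, funext fun j => (D.resHom_cl A hA j (B j) (hB j)
      (CycPB.RZ.zero.eq (funext fun u => by rw [hAe, sub_self]))).trans (hBe j)⟩

end Decomp

end Groth.Agent.BivarOps
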