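import Groth.Agent.AlgSpLib.FiniteCofan
import Mathlib

/-!
The map from the disjoint union of a locally finite family of closed subschemes is finite.
-/

set_option autoImplicit false
set_option linter.style.haveILetI false
set_option backward.isDefEq.respectTransparency false
set_option backward.isDefEq.respectTransparency.types false

universe u

open CategoryTheory CategoryTheory.Limits AlgebraicGeometry TopologicalSpace

noncomputable section

namespace Groth.Agent.BivarOps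

theorem isFinite_sigmaDesc {ι : Type u} {X : Scheme.{u}} (V : ι → Scheme.{u}) (f : ∀ i, V i ⟶ X)
    [∀ i, IsClosedImmersion (f i)] (hlf : LocallyFinite fun i => Set.range (f i)) : IsFinite (Sigma.desc f) := by
  let D : ∐ V ⟶ X := Sigma.desc f
  have hD : ∀ i, Sigma.ι V i ≫ D = f i := fun i => Sigma.ι_desc _ _
  have key : ∀ x : X, ∃ U : X.Opens, x ∈ U ∧ IsFinite (D ∣_ U) := fun x => by
    obtain ⟨N, hN, hfin⟩ := hlf x
    obtain ⟨O, hON, hO, hxO⟩ := mem_nhds_iff.1 hN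
    obtain ⟨U, hU, hxU, hUO⟩ := exists_isAffineOpen_mem_and_subset (U := ⟨O, hO⟩) hxO
    refine ⟨U, hxU, ?_⟩
    let F : Set ι := {i | (Set.range (f i) ∩ (U : Set X)).Nonempty}
    have hFfin : F.Finite := hfin.subset fun i hi => by
      obtain ⟨y, hy, hyU⟩ := hi
      exact ⟨y, hy, hON (hUO hyU)⟩
    haveI : Finite ↥F := hFfin.to_subtype
    let W : ↥F → Scheme.{u} := fun j => ↑(f j.1 ⁻¹ᵁ U)
    haveI : IsAffine (↑U : Scheme.{u}) := hU
    haveI : ∀ j : ↥F, IsFinite (f j.1 ∣_ U) := fun j => inferInstance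
    haveI : ∀ j : ↥F, IsAffine (W j) := fun j => isAffine_of_isAffineHom (f j.1 ∣_ U)
    have hle : ∀ j : ↥F, Set.range ((f j.1 ⁻¹ᵁ U).ι ≫ Sigma.ι V j.1) ⊆ Set.range (D ⁻¹ᵁ U).ι := fun j => by
      rw [Scheme.Opens.range_ι]
      rintro _ ⟨v, rfl⟩
      show D (Sigma.ι V j.1 ((f j.1 ⁻¹ᵁ U).ι v)) ∈ U
      rw [← Scheme.Hom.comp_apply, hD]
      exact v.2
    let a : ∀ j : ↥F, W j ⟶ (↑(D ⁻¹ᵁ U) : Scheme.{u}) := fun j => IsOpenImmersion.lift (D ⁻¹ᵁ U).ι _ (hle j)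
    have ha : ∀ j : ↥F, a j ≫ (D ⁻¹ᵁ U).ι = (f j.1 ⁻¹ᵁ U).ι ≫ Sigma.ι V j.1 := fun j => IsOpenImmersion.lift_fac _ _ _
    haveI : ∀ j : ↥F, IsOpenImmersion (a j) := fun j => by
      haveI : IsOpenImmersion (a j ≫ (D ⁻¹ᵁ U).ι) := by rw [ha]; infer_instance
      exact IsOpenImmersion.of_comp (a j) (D ⁻¹ᵁ U).ι
    have hapt : ∀ (j : ↥F) v, ((D ⁻¹ᵁ U).ι (a j v)) = Sigma.ι V j.1 ((f j.1 ⁻¹ᵁ U).ι v) := fun j v => by
      rw [← Scheme.Hom.comp_apply, ha, Scheme.Hom.comp_apply]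
    haveI : IsOpenImmersion (Sigma.desc a) := isOpenImmersion_sigmaDesc W a fun i j hij =>
      Set.disjoint_left.2 fun z ⟨v, hv⟩ ⟨v', hv'⟩ => hij (Subtype.ext (by_contra fun hne => by
        have h1 := hapt i v
        have h2 := hapt j v'
        rw [hv] at h1
        rw [hv'] at h2
        exact (disjoint_opensRange_sigmaι V i.1 j.1 hne).le_bot
          (⟨⟨_, h1.symm⟩, ⟨_, h2.symm⟩⟩ : (D ⁻¹ᵁ U).ι z ∈ (Sigma.ι V i.1).opensRange ⊓ (Sigma.ι V j.1).opensRange)))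
    haveI : Surjective (Sigma.desc a) := ⟨fun z => by
      obtain ⟨i, v, hv⟩ := (sigmaOpenCover V).exists_eq ((D ⁻¹ᵁ U).ι z)
      have hiU : f i v ∈ U := by
        rw [← hD i, Scheme.Hom.comp_apply, show Sigma.ι V i v = (D ⁻¹ᵁ U).ι z from hv]
        exact z.2
      refine ⟨Sigma.ι W ⟨i, _, ⟨v, rfl⟩, hiU⟩ ⟨v, hiU⟩, (D ⁻¹ᵁ U).ι.isOpenEmbedding.injective ?_⟩
      rw [← Scheme.Hom.comp_apply (Sigma.ι W _), Sigma.ι_desc, hapt]
      exact hv⟩
    haveI : IsIso (Sigma.desc a) := (isIso_iff_isOpenImmersion_and_surjective _).2 ⟨inferInstance, inferInstance⟩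
    rw [← MorphismProperty.cancel_left_of_respectsIso (P := @IsFinite) (Sigma.desc a)]
    rw [show Sigma.desc a ≫ D ∣_ U = Sigma.desc fun j : ↥F => f j.1 ∣_ U from Sigma.hom_ext _ _ fun j => by
      rw [Sigma.ι_desc_assoc, Sigma.ι_desc, ← cancel_mono U.ι, Category.assoc, morphismRestrict_ι, ← Category.assoc,
        ha, Category.assoc, hD, morphismRestrict_ι]]
    exact AlgSpLib.isFinite_sigmaDesc_of_isAffine _ fun j => inferInstance
  choose U hxU hfinU using key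
  exact IsZariskiLocalAtTarget.of_iSup_eq_top (P := @IsFinite) U
    (top_le_iff.1 fun x _ => Opens.mem_iSup.2 ⟨x, hxU x⟩) hfinU

end Groth.Agent.BivarOps
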