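import Groth.Agent.BivarOps.WeakRel
import Groth.Agent.BivarOps.Clopen
import Groth.Agent.BivarOps.SigmaFinite
import Groth.Agent.FlatFunLib.RelAssFlatClosure
import Groth.Agent.DvrDom.ClosedProper
import Groth.Agent.S6483

/-!
A bivariant class killing birational modifications of all integral test schemes vanishes.
-/

set_option autoImplicit false
set_option linter.unusedSectionVars false
set_option linter.unusedVariables false
set_option linter.style.haveILetI false
set_option backward.isDefEq.respectTransparency false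
set_option backward.isDefEq.respectTransparency.types false
set_option maxHeartbeats 1000000

universe u

open CategoryTheory CategoryTheory.Limits AlgebraicGeometry Opposite
open Groth.Agent.CycPB (Cy RZ pushF)

noncomputable section

namespace Groth.Agent.BivarOps

section Points

variable {P T : Scheme.{u}}

/-- surjective stalk maps give surjective maps of residue fields -/
theorem residue_surjective (p : P ⟶ T) (x : P) (h : Function.Surjective (p.stalkMap x).hom) :
    Function.Surjective (p.residueFieldMap x).hom := fun a => by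
  obtain ⟨a, rfl⟩ : ∃ b, (P.residue x).hom b = a := Ideal.Quotient.mk_surjective a
  obtain ⟨b, rfl⟩ := h a
  exact ⟨(T.residue _).hom b, DFunLike.congr_fun (CommRingCat.hom_ext_iff.mp (Scheme.residue_residueFieldMap p x)) b⟩

/-- the coefficient of a point with trivial residue extension -/
theorem mapCoeff_one (p : P ⟶ T) {δP : P → ℤ} {δ : T → ℤ} (x : P)
    (h : Function.Surjective (p.residueFieldMap x).hom) (hδ : δP x = δ (p x)) :
    (AlgebraicCycle.mapCoeff p δP δ x : ℤ) = 1 := by
  unfold AlgebraicCycle.mapCoeff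
  rw [if_pos (show δP x = δ (p.base x) from hδ), CycDeg.residueDegree_eq_one p h]
  rfl

/-- push forward of a function supported on points mapping injectively with trivial residue extensions -/
theorem pushF_points (p : P ⟶ T) [IsProper p] {δP : P → ℤ} {δ : T → ℤ} (a : P → ℤ) (b : T → ℤ)
    (h1 : ∀ x, a x ≠ 0 → (AlgebraicCycle.mapCoeff p δP δ x : ℤ) = 1)
    (h2 : ∀ x x', a x ≠ 0 → a x' ≠ 0 → p x = p x' → x = x') (h3 : ∀ x, a x ≠ 0 → b (p x) = a x)
    (h4 : ∀ y, b y ≠ 0 → ∃ x, p x = y ∧ a x ≠ 0) : pushF p δP δ a = b := funext fun y => by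
  unfold pushF
  by_cases h : ∃ x, p x = y ∧ a x ≠ 0
  · obtain ⟨x, rfl, hx⟩ := h
    have key : ∑ᶠ z ∈ (p ⁻¹' {p x} : Set P), a z * (AlgebraicCycle.mapCoeff p δP δ z : ℤ) =
        ∑ᶠ z ∈ ({x} : Set P), a z * (AlgebraicCycle.mapCoeff p δP δ z : ℤ) := by
      refine finsum_mem_inter_support_eq _ _ _ (Set.ext fun z => ⟨fun hz => ⟨?_, hz.2⟩, fun hz => ⟨?_, hz.2⟩⟩)
      · exact h2 z x (left_ne_zero_of_mul hz.2) hx hz.1
      · rw [Set.mem_singleton_iff.1 hz.1]
        rfl
    rw [key, finsum_mem_singleton, h1 x hx, mul_one, h3 x hx]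
  · rw [show b y = 0 from by_contra fun hb => h (h4 y hb)]
    exact finsum_mem_of_eqOn_zero fun z hz => by
      show a z * _ = 0
      rw [show a z = 0 from by_contra fun hz0 => h ⟨z, hz, hz0⟩, zero_mul]

end Points

variable {X Y : Scheme.{u}} {f : X ⟶ Y} {δX : X → ℤ} {δY : Y → ℤ} {p : ℤ} {c : Bivar.WeakCl p f δX δY}

/-- a vanishing class from the relation -/
theorem op_eq_zero_of_rel {q : Bivar.Sq f δX δY} {k : ℤ} {a : q.Y' → ℤ} {b : q.X' → ℤ} (h : Rel c q k a b)
    (hb : RZ q.δX' (k - p) b) {A : AlgebraicCycle q.Y' ℤ} (hA : A ∈ Cyc.Zk q.Y' q.δY' k) (e : ⇑A = a) :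
    c.op q k (ChowOps.cl A hA) = 0 := by
  obtain ⟨A', hA', B, hB, eA, rfl, hc⟩ := h
  obtain rfl : A' = A := DFunLike.ext' (eA.trans e.symm)
  rw [hc]
  exact (cl_eq hB (ChowOps.zk _ _ _).zero_mem (hb.eq (funext fun x => (sub_zero (B x)).symm))).trans Bivar.cl_zero

/-- the relation at a vanishing class -/
theorem rel_zero {q : Bivar.Sq f δX δY} {k : ℤ} {A : AlgebraicCycle q.Y' ℤ} (hA : A ∈ Cyc.Zk q.Y' q.δY' k)
    (h : c.op q k (ChowOps.cl A hA) = 0) : Rel c q k ⇑A fun _ => 0 :=
  ⟨A, hA, 0, (ChowOps.zk _ _ _).zero_mem, rfl, rfl, h.trans Bivar.cl_zero.symm⟩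

theorem cl_zsmul {Z : Scheme.{u}} {δ : Z → ℤ} {k : ℤ} (A : AlgebraicCycle Z ℤ) (hA : A ∈ Cyc.Zk Z δ k) (n : ℤ)
    (hn : n • A ∈ Cyc.Zk Z δ k) : ChowOps.cl (n • A) hn = n • ChowOps.cl A hA :=
  (map_zsmul (ChowOps.clHom Z δ k) n ⟨A, hA⟩ :)

theorem closureSub_irreducible {Z : Scheme.{u}} (y : Z) (η : (FlatFunLib.closureSub y).subscheme)
    (hη : (FlatFunLib.closureSub y).subschemeι η = y) (z : (FlatFunLib.closureSub y).subscheme) : η ⤳ z :=
  (FlatFunLib.closureSub y).subschemeι.isEmbedding.isInducing.specializes_iff.1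
    (show (FlatFunLib.closureSub y).subschemeι η ⤳ _ by rw [hη]; exact FlatFunLib.specializes_closureSub y z)

variable (hX : Cyc.IsSetup X δX) (hY : Cyc.IsSetup Y δY)
  (h3 : ∀ (s : Bivar.Sq f δX δY) [AlgebraicGeometry.IsIntegral s.Y'], ∃ (t : Bivar.Sq s.f' s.δX' s.δY')
    (_ : IrreducibleSpace t.Y') (_ : IsProper t.g), t.g (genericPoint t.Y') = genericPoint s.Y' ∧
      IsIso (t.g.stalkMap (genericPoint t.Y')) ∧ ∀ (k : ℤ) (α : AlgebraicCycle t.Y' ℤ)
        (hα : α ∈ Cyc.Zk t.Y' t.δY' k), α (genericPoint t.Y') = 1 →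
          (∀ y : t.Y', y ≠ genericPoint t.Y' → α y = 0) → c.op (s.paste t) k (ChowOps.cl α hα) = 0)

include hX hY h3

/-- the class kills multiples of the fundamental cycle of an integral test scheme -/
theorem op_generic_zero (q : Bivar.Sq f δX δY) [AlgebraicGeometry.IsIntegral q.Y'] (k : ℤ)
    (A : AlgebraicCycle q.Y' ℤ) (hA : A ∈ Cyc.Zk q.Y' q.δY' k) (hs : ∀ z, z ≠ genericPoint q.Y' → A z = 0) :
    c.op q k (ChowOps.cl A hA) = 0 := by
  classical
  by_cases h0 : A (genericPoint q.Y') = 0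
  · obtain rfl : A = 0 := DFunLike.ext _ _ fun z => by
      by_cases hz : z = genericPoint q.Y'
      · rw [hz, h0]; rfl
      · exact hs z hz
    rw [show ChowOps.cl (0 : AlgebraicCycle q.Y' ℤ) hA = 0 from Bivar.cl_zero, map_zero]
  have hk : q.δY' (genericPoint q.Y') = k := by_contra fun h => h0 (hA _ h)
  obtain ⟨t, _, _, hg, hiso, H⟩ := h3 q
  have hres : Function.Surjective (t.g.residueFieldMap (genericPoint t.Y')).hom :=
    residue_surjective _ _ (ConcreteCategory.bijective_of_isIso (t.g.stalkMap (genericPoint t.Y'))).2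
  have hd : t.δY' (genericPoint t.Y') = q.δY' (t.g (genericPoint t.Y')) := (S6483.deg_one t.g t.compatY hres).2
  have hk2 : t.δY' (genericPoint t.Y') = k := by rw [hd, hg, hk]
  have hB : CycRat.pt (genericPoint t.Y') ∈ Cyc.Zk t.Y' t.δY' k := fun z hz => by
    rw [CycRat.pt_apply, if_neg fun h : z = genericPoint t.Y' => hz (h ▸ hk2)]
  have hc := H k (CycRat.pt (genericPoint t.Y')) hB (by rw [CycRat.pt_apply, if_pos rfl])
    fun y hy => by rw [CycRat.pt_apply, if_neg hy]
  haveI : IsProper t.g' := MorphismProperty.of_isPullback t.isPullback ‹IsProper t.g›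
  have hr := Rel.push hX hY q (t := q.paste t) t.g t.g' rfl t.isPullback.w.symm rfl (rel_zero hB hc)
  have hpt : pushF t.g t.δY' q.δY' ⇑(CycRat.pt (genericPoint t.Y')) = ⇑(CycRat.pt (genericPoint q.Y')) := by
    refine pushF_points t.g _ _ (fun x hx => ?_) (fun x x' hx hx' _ => ?_) (fun x hx => ?_) fun y hy => ?_
    · obtain rfl : x = genericPoint t.Y' := by_contra fun h => hx (by rw [CycRat.pt_apply, if_neg h])
      exact mapCoeff_one t.g _ hres hd
    · rw [CycRat.pt_apply] at hx hx'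
      rw [show x = genericPoint t.Y' from by_contra fun h => hx (if_neg h),
        show x' = genericPoint t.Y' from by_contra fun h => hx' (if_neg h)]
    · obtain rfl : x = genericPoint t.Y' := by_contra fun h => hx (by rw [CycRat.pt_apply, if_neg h])
      rw [hg, CycRat.pt_apply, CycRat.pt_apply, if_pos rfl, if_pos rfl]
    · obtain rfl : y = genericPoint q.Y' := by_contra fun h => hy (by rw [CycRat.pt_apply, if_neg h])
      exact ⟨_, hg, by rw [CycRat.pt_apply, if_pos rfl]; exact one_ne_zero⟩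
  have hz : pushF t.g' (q.paste t).δX' q.δX' (fun _ => 0) = fun _ => 0 :=
    funext fun y => finsum_mem_of_eqOn_zero fun _ _ => zero_mul _
  rw [hpt, hz] at hr
  have hP : CycRat.pt (genericPoint q.Y') ∈ Cyc.Zk q.Y' q.δY' k := fun z hz => by
    rw [CycRat.pt_apply, if_neg fun h : z = genericPoint q.Y' => hz (h ▸ hk)]
  have he : A = A (genericPoint q.Y') • CycRat.pt (genericPoint q.Y') := DFunLike.ext _ _ fun z => by
    show A z = A (genericPoint q.Y') • (CycRat.pt (genericPoint q.Y') z)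
    rw [CycRat.pt_apply]
    by_cases hz : z = genericPoint q.Y'
    · rw [if_pos hz, smul_eq_mul, mul_one, hz]
    · rw [if_neg hz, smul_zero, hs z hz]
  rw [Bivar.cl_congr he hA ((ChowOps.zk _ _ _).zsmul_mem hP _), cl_zsmul _ hP, map_zsmul,
    op_eq_zero_of_rel hr CycPB.RZ.zero hP rfl, smul_zero]

/-- the class vanishes -/
theorem op_eq_zero (s : Bivar.Sq f δX δY) (k : ℤ) (α : AlgebraicCycle s.Y' ℤ) (hα : α ∈ Cyc.Zk s.Y' s.δY' k) :
    c.op s k (ChowOps.cl α hα) = 0 := by
  classical
  haveI := s.lft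
  haveI := (isSetup_sqY hY s).1
  let J : Type u := {y : s.Y' // α y ≠ 0}
  let V : J → Scheme.{u} := fun j => (FlatFunLib.closureSub j.1).subscheme
  let ι : ∀ j, V j ⟶ s.Y' := fun j => (FlatFunLib.closureSub j.1).subschemeι
  haveI : ∀ j, IsClosedImmersion (ι j) := fun j => inferInstance
  have hlf : LocallyFinite fun j : J => Set.range (ι j) := fun x => by
    obtain ⟨U, hU, hfin⟩ := α.supportLocallyFiniteWithinDomain' x (Set.mem_univ x)
    refine ⟨interior U, interior_mem_nhds.2 hU, ?_⟩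
    refine (hfin.preimage (Subtype.val_injective.injOn (s := _))).subset fun j hj => ?_
    obtain ⟨z, hz, hzU⟩ := hj
    exact ⟨interior_subset ((specializes_iff_mem_closure.2
      ((FlatFunLib.range_closureSub j.1).le hz)).mem_open isOpen_interior hzU), j.2⟩
  let D : ∐ V ⟶ s.Y' := Sigma.desc ι
  have hDι : ∀ j, Sigma.ι V j ≫ D = ι j := fun j => Sigma.ι_desc _ _
  haveI : IsFinite D := isFinite_sigmaDesc V ι hlf
  let t : Bivar.Sq f δX δY := sqOfY hX hY (D ≫ s.g)
  have eta : ∀ j : J, ∃ η : V j, ι j η = j.1 := fun j =>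
    (FlatFunLib.range_closureSub j.1).ge (subset_closure rfl)
  choose η hη using eta
  have hint : ∀ j, AlgebraicGeometry.IsIntegral (V j) := fun j => by
    haveI : IsReduced (V j) := DvrDom.isReduced_vanishingIdeal_subscheme _
    haveI : IrreducibleSpace (V j) := by
      haveI : Nonempty (V j) := ⟨η j⟩
      haveI : PreirreducibleSpace (V j) := ⟨by
        have h : closure {η j} = Set.univ := Set.eq_univ_of_forall fun z =>
          (closureSub_irreducible j.1 (η j) (hη j) z).mem_closure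
        exact h ▸ isIrreducible_singleton.closure.2⟩
      constructor; infer_instance
    exact isIntegral_of_irreducibleSpace_of_isReduced _
  have hgen : ∀ j, haveI := hint j; genericPoint (V j) = η j := fun j => by
    haveI := hint j
    exact ((genericPoint_spec (V j)).specializes trivial).antisymm
      (closureSub_irreducible j.1 (η j) (hη j) _) |>.eq
  let pj : J → Bivar.Sq f δX δY := fun j =>
    haveI : LocallyOfFiniteType (Sigma.ι V j ≫ t.g) := by
      haveI := t.lft
      infer_instance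
    sqOfY hX hY (Sigma.ι V j ≫ t.g)
  let eY : ∀ j, (pj j).Y' ⟶ t.Y' := fun j => Sigma.ι V j
  haveI heY : ∀ j, IsOpenImmersion (eY j) := fun j => inferInstanceAs (IsOpenImmersion (Sigma.ι V j))
  let ηY : ∀ j, (pj j).Y' := η
  have hDe : ∀ j, eY j ≫ D = (ι j : (pj j).Y' ⟶ s.Y') := hDι
  let mX : ∀ j, (pj j).X' ⟶ t.X' := fun j => morX t (pj j) (eY j) rfl
  haveI hmX : ∀ j, IsOpenImmersion (mX j) := fun j =>
    MorphismProperty.of_isPullback (morX_isPullback (q := t) (t := pj j) (h := eY j) (w := rfl))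
      (heY j)
  have cY : ∀ j, Cyc.DeltaCompat (eY j) (pj j).δY' t.δY' := fun j =>
    deltaCompat_of_comp rfl t.compatY (pj j).compatY
  have cX : ∀ j, Cyc.DeltaCompat (mX j) (pj j).δX' t.δX' := fun j =>
    deltaCompat_of_comp morX_g' t.compatX (pj j).compatX
  have hdisj : ∀ j j', j ≠ j' → Disjoint (Set.range (eY j)) (Set.range (eY j')) := fun j j' hne =>
    Set.disjoint_left.2 fun z h h' => (disjoint_opensRange_sigmaι V j j' hne).le_bot
      (⟨h, h'⟩ : z ∈ (Sigma.ι V j).opensRange ⊓ (Sigma.ι V j').opensRange)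
  have hcov : ∀ z : t.Y', ∃ j, z ∈ Set.range (eY j) := fun z => by
    obtain ⟨j, v, hv⟩ := (sigmaOpenCover V).exists_eq z
    exact ⟨j, v, hv⟩
  let DY : Decomp t.Y' t.δY' J := ⟨fun j => (pj j).Y', fun j => eY j, heY, hdisj, hcov,
    fun j => (pj j).δY', cY, isSetup_sqY hY t, fun j => isSetup_sqY hY (pj j)⟩
  have hfX : ∀ j (z : (pj j).X'), t.f' (mX j z) = eY j ((pj j).f' z) := fun j z => by
    rw [← Scheme.Hom.comp_apply, ← Scheme.Hom.comp_apply]
    exact congrArg (fun m : (pj j).X' ⟶ t.Y' => m z) morX_f'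
  let DX : Decomp t.X' t.δX' J := ⟨fun j => (pj j).X', mX, hmX,
    fun j j' hne => Set.disjoint_left.2 fun z ⟨v, hv⟩ ⟨v', hv'⟩ =>
      (hdisj j j' hne).le_bot ⟨⟨_, (hfX j v).symm.trans (congrArg t.f' hv)⟩, ⟨_, (hfX j' v').symm.trans (congrArg t.f' hv')⟩⟩,
    fun x => by
      obtain ⟨j, v, hv⟩ := hcov (t.f' x)
      obtain ⟨z, -, hz⟩ := Scheme.exists_preimage_of_isPullback
        (morX_isPullback (q := t) (t := pj j) (h := eY j) (w := rfl)) v x hv
      exact ⟨j, z, hz⟩,
    fun j => (pj j).δX', cX, isSetup_sqX hX t, fun j => isSetup_sqX hX (pj j)⟩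
  let a : t.Y' → ℤ := fun z => if z ∈ Set.range (fun j => eY j (ηY j)) then α (D z) else 0
  have hDη : ∀ j, D (eY j (ηY j)) = j.1 := fun j => by
    exact ((Scheme.Hom.comp_apply (Sigma.ι V j) D (η j)).symm.trans (congrArg (fun m : V j ⟶ s.Y' => m (η j)) (hDι j))).trans (hη j)
  have hδη : ∀ j, t.δY' (eY j (ηY j)) = s.δY' (D (eY j (ηY j))) := fun j => by
    have hc1 : Cyc.DeltaCompat D t.δY' s.δY' := deltaCompat_of_comp rfl s.compatY t.compatY
    have h1 := Bivar.deltaCompat_comp (eY j) D _ _ _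
      (CycPush.deltaCompat_preimmersion (eY j) t.δY') hc1
    rw [hDe] at h1
    rw [CycPush.deltaCompat_unique (X := (pj j).Y') (ι j) h1 (CycPush.deltaCompat_preimmersion (ι j) s.δY') (ηY j)]
    exact congrArg s.δY' ((hη j).trans (hDη j).symm)
  have haj : ∀ j, (fun v => a (eY j v)) = fun v => j.1 |> fun y => α y * CycPB.ptF (ηY j) v := fun j =>
    funext fun v => by
      show a (eY j v) = α j.1 * CycPB.ptF (ηY j) v
      rw [CycPB.ptF_apply]
      by_cases hv : v = η j
      · subst hv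
        rw [if_pos rfl, mul_one]
        show (if _ then _ else _) = _
        rw [if_pos ⟨j, rfl⟩, hDη]
      · rw [if_neg hv, mul_zero]
        refine if_neg ?_
        rintro ⟨i, hi⟩
        obtain rfl : i = j := DY.uniq ⟨_, hi⟩ ⟨v, rfl⟩
        exact hv ((eY i).isOpenEmbedding.injective hi.symm)
  have ha : Cy t.δY' k a := DY.cy_glue fun j => by
    show Cy (pj j).δY' k fun v => a (eY j v)
    rw [haj]
    have hkj : (pj j).δY' (ηY j) = k := by
      rw [delta_open (eY j) (cY j)]
      show t.δY' (eY j (ηY j)) = k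
      rw [hδη, hDη]
      exact by_contra fun h => j.2 (hα _ h)
    have := (CycPB.cy_ptF (pj j).δY' (ηY j)).smul (α j.1)
    rw [hkj] at this
    exact this
  have hpush : pushF D t.δY' s.δY' a = ⇑α := by
    have hsupp : ∀ z, a z ≠ 0 → ∃ j, eY j (ηY j) = z := fun z hz =>
      by_contra fun h => hz (if_neg h)
    refine pushF_points D _ _ (fun z hz => ?_) (fun z z' hz hz' he => ?_) (fun z hz => ?_) fun y hy => ?_
    · obtain ⟨j, rfl⟩ := hsupp z hz
      refine mapCoeff_one D _ ?_ (hδη j)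
      have h2 := CycPush.residueFieldMap_surjective_pre (ι j) (ηY j)
      have h2' : Function.Surjective ((eY j ≫ D).residueFieldMap (ηY j)).hom := by
        rw [hDe]; exact h2
      rw [Scheme.residueFieldMap_comp] at h2'
      intro r
      obtain ⟨b, hb⟩ := h2' (((eY j).residueFieldMap (ηY j)).hom r)
      exact ⟨b, ((eY j).residueFieldMap (ηY j)).hom.injective hb⟩
    · obtain ⟨j, rfl⟩ := hsupp z hz
      obtain ⟨j', rfl⟩ := hsupp z' hz'
      rw [hDη, hDη] at he
      obtain rfl : j = j' := Subtype.ext he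
      rfl
    · exact (if_pos (hsupp z hz)).symm
    · exact ⟨_, hDη ⟨y, hy⟩, by
        show (if _ then _ else _) ≠ _
        rw [if_pos ⟨⟨y, hy⟩, rfl⟩, hDη]
        exact hy⟩
  obtain ⟨b, hrel⟩ := Rel.exists_rel (c := c) (q := t) ha
  have hb : RZ t.δX' (k - p) b := DX.rz_glue fun j => by
    haveI : AlgebraicGeometry.IsIntegral (pj j).Y' := hint j
    haveI : Flat (mX j) := inferInstance
    have h1 := Rel.pull hX hY (pj j) (eY j) (mX j) 0
      (haveI := (isSetup_sqY hY t).1; hasRelDim_openImm _) (haveI := (isSetup_sqX hX t).1; hasRelDim_openImm _)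
      rfl morX_f' morX_g' (show k + ((0 : ℕ) : ℤ) = k by simp) hrel
    rw [Nat.cast_zero, pullFun_openImm _ (cY j), pullFun_openImm _ (cX j)] at h1
    obtain ⟨A, hA, hAk⟩ := h1.cyA
    have h0 := op_generic_zero hX hY h3 (pj j) k A hAk fun z hz => by
      rw [hA, haj]
      show α j.1 * CycPB.ptF (ηY j) z = 0
      rw [CycPB.ptF_apply, if_neg fun h : z = η j => hz (h.trans (hgen j).symm), mul_zero]
    have h2 := h1.unique (hA ▸ rel_zero hAk h0)
    exact h2.eq (funext fun x => sub_zero _)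
  haveI : IsProper (morX s t D rfl) :=
    MorphismProperty.of_isPullback (morX_isPullback (q := s) (t := t) (h := D) (w := rfl))
      (inferInstanceAs (IsProper D))
  have h1 := Rel.push hX hY s D (morX s t D rfl) rfl morX_f' morX_g' hrel
  rw [hpush] at h1
  exact op_eq_zero_of_rel h1 (hb.push _ (isSetup_sqX hX s) (isSetup_sqX hX t)
    (deltaCompat_of_comp morX_g' s.compatX t.compatX)) hα rfl

end Groth.Agent.BivarOps
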