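import Groth.Agent.BivarOps.Squares

/-!
The flat pullback class of a flat morphism of fixed relative dimension.
-/

set_option autoImplicit false
set_option linter.unusedSectionVars false
set_option linter.style.haveILetI false
set_option backward.isDefEq.respectTransparency false
set_option backward.isDefEq.respectTransparency.types false
set_option maxHeartbeats 800000

universe u

open CategoryTheory CategoryTheory.Limits AlgebraicGeometry Opposite
open Groth.Agent.CycPB (Cy RZ pushF)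
open Groth.Agent.EquidimPt (IsFibMax)

noncomputable section

namespace Groth.Agent.BivarOps

variable {X Y : Scheme.{u}} {δX : X → ℤ} {δY : Y → ℤ} (hX : Cyc.IsSetup X δX) (hY : Cyc.IsSetup Y δY)
  {f : X ⟶ Y} [Flat f] [LocallyOfFiniteType f] {r : ℕ} (hr : Cyc.HasRelDim f r) (hδ : Cyc.DeltaCompat f δX δY)

omit [Flat f] in
theorem lft_f' (s : Bivar.Sq f δX δY) : LocallyOfFiniteType s.f' :=
  MorphismProperty.of_isPullback s.isPullback.flip ‹_›

omit [LocallyOfFiniteType f] in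
theorem flat_f' (s : Bivar.Sq f δX δY) : Flat s.f' :=
  MorphismProperty.of_isPullback s.isPullback.flip ‹_›

theorem relDim_f' (hr : Cyc.HasRelDim f r) (s : Bivar.Sq f δX δY) : Cyc.HasRelDim s.f' r :=
  (S9358.result f s.g s.g' s.f' s.isPullback.flip r).2.2 hr

/-- the operation on a square -/
def pullOp (s : Bivar.Sq f δX δY) (k : ℤ) :
    ChowOps.CH s.Y' s.δY' k →+ ChowOps.CH s.X' s.δX' (k - -(r : ℤ)) :=
  mkHom (fun a => Cyc.pullFun s.f' s.δX' s.δY' r a)
    (fun a ha => by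
      haveI := lft_f' s
      haveI := (isSetup_sqY hY s).1
      have := ha.pullR (isSetup_sqX hX s) s.f' (deltaCompat_f' hδ s) (relDim_f' hr s)
      rwa [sub_neg_eq_add])
    (fun a b _ _ => CycPB.pullFun_add s.f' s.δX' r a b)
    (fun a ha => by
      haveI := lft_f' s
      haveI := flat_f' s
      have := ha.pullR (isSetup_sqY hY s) (isSetup_sqX hX s) s.f' (deltaCompat_f' hδ s) (relDim_f' hr s)
      rwa [sub_neg_eq_add])

theorem exists_pull (s : Bivar.Sq f δX δY) {k : ℤ} {A : AlgebraicCycle s.Y' ℤ} (hA : A ∈ Cyc.Zk s.Y' s.δY' k)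
    (hX : Cyc.IsSetup X δX) (hY : Cyc.IsSetup Y δY) (hr : Cyc.HasRelDim f r) (hδ : Cyc.DeltaCompat f δX δY) :
    ∃ B : AlgebraicCycle s.X' ℤ, ⇑B = Cyc.pullFun s.f' s.δX' s.δY' r ⇑A ∧ B ∈ Cyc.Zk s.X' s.δX' (k - -(r : ℤ)) := by
  haveI := lft_f' s
  haveI := (isSetup_sqY hY s).1
  obtain ⟨B, hB, hBk⟩ := (CycPB.Cy.mk hA).pullR (isSetup_sqX hX s) s.f' (deltaCompat_f' hδ s) (relDim_f' hr s)
  exact ⟨B, hB, by rwa [sub_neg_eq_add]⟩

theorem pullOp_cl (s : Bivar.Sq f δX δY) (k : ℤ) (A : AlgebraicCycle s.Y' ℤ) (hA : A ∈ Cyc.Zk s.Y' s.δY' k)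
    (C : AlgebraicCycle s.X' ℤ) (hC : C ∈ Cyc.Zk s.X' s.δX' (k - -(r : ℤ)))
    (h : RZ s.δX' (k - -(r : ℤ)) fun y => Cyc.pullFun s.f' s.δX' s.δY' r ⇑A y - C y) :
    pullOp hX hY hr hδ s k (ChowOps.cl A hA) = ChowOps.cl C hC :=
  mkHom_cl _ _ _ _ A hA C hC h

theorem hc_of {A B : Scheme.{u}} {g : A ⟶ B} [LocallyOfFiniteType g] {a : A → ℤ} {b : B → ℤ}
    [IsLocallyNoetherian A] [IsLocallyNoetherian B] (hd : Cyc.DeltaCompat g a b) {e : ℕ} (he : Cyc.HasRelDim g e) :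
    ∀ x, IsFibMax g x → a x = b (g x) + e := fun x hx => ((CycDim.delta_le g hd he x).2).2 hx

/-- **The flat pullback class.** -/
def flatClass : Bivar.Cl (-(r : ℤ)) f δX δY where
  op := pullOp hX hY hr hδ
  push s t h _ h' _ w₁ w₂ w₃ k := by
    intro α hα
    haveI := lft_f' s
    haveI := lft_f' t
    haveI := flat_f' s
    haveI := flat_f' t
    have hsY := isSetup_sqY hY s
    have hsX := isSetup_sqX hX s
    have htY := isSetup_sqY hY t
    have htX := isSetup_sqX hX t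
    haveI := hsY.1; haveI := hsX.1; haveI := htY.1; haveI := htX.1
    have hd : Cyc.DeltaCompat h t.δY' s.δY' := deltaCompat_of_comp w₁ s.compatY t.compatY
    have hd' : Cyc.DeltaCompat h' t.δX' s.δX' := deltaCompat_of_comp w₃ s.compatX t.compatX
    obtain ⟨β, hβe, hβ⟩ := exists_pull t hα hX hY hr hδ
    refine ⟨β, hβ, pullOp_cl hX hY hr hδ t k α hα β hβ (CycPB.RZ.zero.eq (funext fun y => by rw [hβe, sub_self])), ?_⟩
    refine pullOp_cl hX hY hr hδ s k _ _ _ _ (CycPB.RZ.zero.eq (funext fun y => (sub_eq_zero.2 ?_).symm))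
    have e := CycFin.push_pull (isPullback_mor w₁ w₂ w₃) hsX.2.2 htX.2.2 hd hd'
      (hc_of (deltaCompat_f' hδ s) (relDim_f' hr s)) (hc_of (deltaCompat_f' hδ t) (relDim_f' hr t)) α y
    refine e.trans ?_
    show _ = pushF h' t.δX' s.δX' ⇑β y
    rw [hβe]
    rfl
  pull s t h _ h' _ e he he' w₁ w₂ w₃ k := by
    intro α hα
    haveI := lft_f' s
    haveI := lft_f' t
    haveI := flat_f' s
    haveI := flat_f' t
    haveI := s.lft
    haveI := t.lft
    haveI := lft_g' s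
    haveI := lft_g' t
    haveI : LocallyOfFiniteType (h ≫ s.g) := by rw [w₁]; infer_instance
    haveI : LocallyOfFiniteType h := locallyOfFiniteType_of_comp h s.g
    haveI : LocallyOfFiniteType (h' ≫ s.g') := by rw [w₃]; infer_instance
    haveI : LocallyOfFiniteType h' := locallyOfFiniteType_of_comp h' s.g'
    have hsY := isSetup_sqY hY s
    have hsX := isSetup_sqX hX s
    have htY := isSetup_sqY hY t
    have htX := isSetup_sqX hX t
    haveI := hsY.1; haveI := hsX.1; haveI := htY.1; haveI := htX.1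
    have hd : Cyc.DeltaCompat h t.δY' s.δY' := deltaCompat_of_comp w₁ s.compatY t.compatY
    have hd' : Cyc.DeltaCompat h' t.δX' s.δX' := deltaCompat_of_comp w₃ s.compatX t.compatX
    obtain ⟨β, hβe, hβ⟩ := exists_pull s hα hX hY hr hδ
    refine ⟨β, hβ, pullOp_cl hX hY hr hδ s k α hα β hβ (CycPB.RZ.zero.eq (funext fun y => by rw [hβe, sub_self])),
      fun α₁ hα₁e hα₁ => ?_⟩
    obtain ⟨β₁, hβ₁e, hβ₁⟩ := (CycPB.Cy.mk hβ).pullR htX h' hd' he'
    have hk : k - -(r : ℤ) + (e : ℤ) = k + e - -(r : ℤ) := by ring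
    refine ⟨β₁, hk ▸ hβ₁, hβ₁e, ?_⟩
    refine pullOp_cl hX hY hr hδ t (k + e) α₁ hα₁ β₁ _ (CycPB.RZ.zero.eq (funext fun y => (sub_eq_zero.2 ?_).symm))
    rw [hβ₁e, hβe, hα₁e]
    rw [← CycPull.pullFun_comp h t.f' htX.2.2 (hc_of hd he) (hc_of (deltaCompat_f' hδ t) (relDim_f' hr t)) ⇑α,
      ← CycPull.pullFun_comp s.f' h' htX.2.2 (hc_of (deltaCompat_f' hδ s) (relDim_f' hr s)) (hc_of hd' he') ⇑α,
      add_comm (e : ℤ), w₂]
  gysin s t i _ j _ w₁ w₂ w₃ L hL σ hσ τ hτ k := by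
    intro α hα
    haveI := lft_f' s
    haveI := flat_f' s
    haveI := s.lft
    haveI := t.lft
    have hsY := isSetup_sqY hY s
    have hsX := isSetup_sqX hX s
    haveI := hsY.1; haveI := hsX.1
    have hdi : Cyc.DeltaCompat i t.δY' s.δY' := deltaCompat_of_comp w₁ s.compatY t.compatY
    have hdj : Cyc.DeltaCompat j t.δX' s.δX' := deltaCompat_of_comp w₃ s.compatX t.compatX
    obtain ⟨β, hβe, hβ⟩ := exists_pull s hα hX hY hr hδ
    refine ⟨β, hβ, pullOp_cl hX hY hr hδ s k α hα β hβ (CycPB.RZ.zero.eq (funext fun y => by rw [hβe, sub_self])),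
      fun w hw γ hγe hγ w' hw' => ?_⟩
    have hL' := PicLoc.isInvertible_pullback s.f' hL
    have hβ' : Cy s.δX' (k - 1 - -(r : ℤ) + 1) ⇑β := by
      have := CycPB.Cy.mk hβ
      rwa [show k - -(r : ℤ) = k - 1 - -(r : ℤ) + 1 by ring] at this
    obtain ⟨C, hCe, hC⟩ := hβ'.cap hsX hL' (v := Cyc.gysinChoice _ τ w') (CycK0.gysinChoice_ne_zero hw')
    obtain ⟨ζ, hζe⟩ := CycK0.exists_comap (i := j) C
    have hδt := delta_closed j hdj
    have hδi := delta_closed i hdi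
    have hζk : ζ ∈ Cyc.Zk t.X' t.δX' (k - 1 - -(r : ℤ)) := fun d hd => by
      rw [hζe]
      exact hC _ (fun e => hd (by rw [hδt]; exact e))
    refine ⟨ζ, hζk, fun d => by rw [hζe, hCe], ?_⟩
    refine pullOp_cl hX hY hr hδ t (k - 1) γ hγ ζ hζk ?_
    have hγf : ⇑γ = fun d => Cyc.c1CapFun s.δY' L ⇑α (Cyc.gysinChoice L σ w) (i d) := funext hγe
    have key := gysin_pull_sq (k := k - 1) hsY hsX s.f' (relDim_f' hr s) (deltaCompat_f' hδ s) hL hσ
      (isPullback_mor w₁ w₂ w₃).flip hτ α (by rw [sub_add_cancel]; exact hα) w hw w' hw'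
    rw [hδt, hδi, hγf, sub_neg_eq_add]
    refine key.eq (funext fun y => ?_)
    rw [hζe, hCe, hβe]

theorem isFlatPullClass_flatClass : Bivar.IsFlatPullClass f r (flatClass hX hY hr hδ) :=
  ⟨‹_›, ‹_›, hr, hδ, fun s k α hα α₁ h hα₁ => pullOp_cl hX hY hr hδ s k α hα α₁ hα₁
    (CycPB.RZ.zero.eq (funext fun y => by rw [h, sub_self]))⟩

end Groth.Agent.BivarOps
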