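import Groth.Agent.BivarOps.Gysin
import Groth.Agent.BivarOps.FlatPull
import Groth.Agent.S1859

/-!
Proper push forward of bivariant classes.
-/

set_option autoImplicit false
set_option linter.unusedSectionVars false
set_option linter.style.haveILetI false
set_option backward.isDefEq.respectTransparency false
set_option backward.isDefEq.respectTransparency.types false
set_option maxHeartbeats 800000

universe u

open CategoryTheory CategoryTheory.Limits AlgebraicGeometry Opposite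
open Groth.Agent.CycPB (Cy RZ pushF)
open Groth.Agent.EquidimPt (IsFibMax)

noncomputable section

namespace Groth.Agent.BivarOps

/-- proper push forward on Chow groups -/
def pushCH {T S : Scheme.{u}} {δT : T → ℤ} {δS : S → ℤ} (hS : Cyc.IsSetup S δS) (hT : Cyc.IsSetup T δT) (p : T ⟶ S)
    [IsProper p] (hp : Cyc.DeltaCompat p δT δS) (k : ℤ) : ChowOps.CH T δT k →+ ChowOps.CH S δS k :=
  mkHom (fun a => pushF p δT δS a) (fun a ha => ha.pushP hS hT p) (fun a b ha hb => funext fun y =>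
    CycPB.pushF_addP hT p ha hb y) (fun a ha => CycPB.RZ.push p hS hT hp ha)

theorem pushCH_cl {T S : Scheme.{u}} {δT : T → ℤ} {δS : S → ℤ} (hS : Cyc.IsSetup S δS) (hT : Cyc.IsSetup T δT)
    (p : T ⟶ S) [IsProper p] (hp : Cyc.DeltaCompat p δT δS) (k : ℤ) (A : AlgebraicCycle T ℤ)
    (hA : A ∈ Cyc.Zk T δT k) (C : AlgebraicCycle S ℤ) (hC : C ∈ Cyc.Zk S δS k)
    (h : RZ δS k fun y => pushF p δT δS ⇑A y - C y) :
    pushCH hS hT p hp k (ChowOps.cl A hA) = ChowOps.cl C hC :=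
  mkHom_cl _ _ _ _ A hA C hC h

theorem rz_of_cl_eq {S : Scheme.{u}} {δS : S → ℤ} {k : ℤ} {A B : AlgebraicCycle S ℤ} (hA : A ∈ Cyc.Zk S δS k)
    (hB : B ∈ Cyc.Zk S δS k) (h : ChowOps.cl A hA = ChowOps.cl B hB) : RZ δS k fun x => B x - A x := by
  have h' := (QuotientAddGroup.eq).1 h
  refine AddSubgroup.closure_induction (p := fun (c : ↥(ChowOps.zk S δS k)) _ => RZ δS k ⇑c.1)
    (fun c hc => ⟨c.1, rfl, c.2, hc⟩) ?_ (fun c d _ _ hc hd => hc.add hd)
    (fun c _ hc => (hc.smul (-1)).eq (funext fun x => neg_one_mul _)) h' |>.eq (funext fun x => ?_)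
  · exact CycPB.RZ.zero
  · show -A x + B x = B x - A x
    ring

variable {X Y Z : Scheme.{u}} {δX : X → ℤ} {δY : Y → ℤ} {δZ : Z → ℤ} (hX : Cyc.IsSetup X δX)
  (hY : Cyc.IsSetup Y δY) (hZ : Cyc.IsSetup Z δZ) {f : X ⟶ Y} [IsProper f] {g : Y ⟶ Z}
  (hδf : Cyc.DeltaCompat f δX δY) {p : ℤ} (c : Bivar.Cl p (f ≫ g) δX δZ)

/-- the pasted square -/
abbrev sqOf (s : Bivar.Sq g δY δZ) {X' : Scheme.{u}} (f' : X' ⟶ s.X') (gX : X' ⟶ X)
    (hp : IsPullback f' gX s.g' f) (δX' : X' → ℤ) (hX' : Cyc.DeltaCompat gX δX' δX) : Bivar.Sq (f ≫ g) δX δZ :=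
  ⟨s.Y', X', s.g, f' ≫ s.f', gX, hp.paste_horiz s.isPullback, s.lft, s.δY', δX', s.compatY, hX'⟩

omit [IsProper f] in
theorem lft_snd (s : Bivar.Sq g δY δZ) : LocallyOfFiniteType (pullback.snd s.g' f) :=
  haveI := lft_g' s
  inferInstance

/-- the chosen dimension function -/
def δc (s : Bivar.Sq g δY δZ) : ↥(pullback s.g' f) → ℤ :=
  haveI := lft_g' s
  (CycPB.exists_isSetup hX (pullback.snd s.g' f)).choose

theorem δc_setup (s : Bivar.Sq g δY δZ) : Cyc.IsSetup (pullback s.g' f) (δc (f := f) hX s) :=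
  haveI := lft_g' s
  (CycPB.exists_isSetup hX (pullback.snd s.g' f)).choose_spec.1

theorem δc_compat (s : Bivar.Sq g δY δZ) : Cyc.DeltaCompat (pullback.snd s.g' f) (δc (f := f) hX s) δX :=
  haveI := lft_g' s
  (CycPB.exists_isSetup hX (pullback.snd s.g' f)).choose_spec.2

theorem δc_fst (hδf : Cyc.DeltaCompat f δX δY) (s : Bivar.Sq g δY δZ) :
    Cyc.DeltaCompat (pullback.fst s.g' f) (δc (f := f) hX s) s.δX' :=
  CycPB.deltaCompat_square pullback.condition hδf s.compatX (δc_compat hX s)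

/-- the chosen pasted square -/
abbrev sqC (s : Bivar.Sq g δY δZ) : Bivar.Sq (f ≫ g) δX δZ :=
  sqOf s (pullback.fst s.g' f) (pullback.snd s.g' f) (IsPullback.of_hasPullback s.g' f) (δc hX s) (δc_compat hX s)

/-- the operation -/
def ppOp (s : Bivar.Sq g δY δZ) (k : ℤ) : ChowOps.CH s.Y' s.δY' k →+ ChowOps.CH s.X' s.δX' (k - p) :=
  (pushCH (isSetup_sqX hY s) (δc_setup hX s) (pullback.fst s.g' f) (δc_fst hX hδf s) (k - p)).comp (c.op (sqC hX s) k)

theorem ppOp_cl (s : Bivar.Sq g δY δZ) (k : ℤ) (α : AlgebraicCycle s.Y' ℤ) (hα : α ∈ Cyc.Zk s.Y' s.δY' k)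
    (β : AlgebraicCycle (pullback s.g' f : Scheme.{u}) ℤ) (hβ : β ∈ Cyc.Zk _ (δc (f := f) hX s) (k - p))
    (h : c.op (sqC hX s) k (ChowOps.cl α hα) = ChowOps.cl β hβ)
    (C : AlgebraicCycle s.X' ℤ) (hC : C ∈ Cyc.Zk s.X' s.δX' (k - p))
    (hr : RZ s.δX' (k - p) fun y => pushF (pullback.fst s.g' f) (δc (f := f) hX s) s.δX' ⇑β y - C y) :
    ppOp hX hY hδf c s k (ChowOps.cl α hα) = ChowOps.cl C hC := by
  refine (congrArg (pushCH (isSetup_sqX hY s) (δc_setup hX s) (pullback.fst s.g' f) (δc_fst hX hδf s) (k - p)) h).trans ?_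
  exact pushCH_cl (isSetup_sqX hY s) (δc_setup hX s) (pullback.fst s.g' f) (δc_fst hX hδf s) (k - p) β hβ C hC hr

omit [IsProper f] in
/-- push forwards compose -/
theorem pushF_pushF {A B C : Scheme.{u}} {a : A → ℤ} {b : B → ℤ} {e : C → ℤ} (hA : Cyc.IsSetup A a)
    (hB : Cyc.IsSetup B b) (hC : Cyc.IsSetup C e) (u : A ⟶ B) (v : B ⟶ C) [IsProper u] [IsProper v]
    (hu : Cyc.DeltaCompat u a b) (hv : Cyc.DeltaCompat v b e) {k : ℤ} (α : AlgebraicCycle A ℤ)
    (hα : α ∈ Cyc.Zk A a k) : pushF v b e (pushF u a b ⇑α) = pushF (u ≫ v) a e ⇑α :=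
  congrArg DFunLike.coe (S1859.result A B C a b e hA hB hC u v hu hv k α hα)

/-- the binder clause -/
theorem ppOp_any (s : Bivar.Sq g δY δZ) (X' : Scheme.{u}) (f' : X' ⟶ s.X') [IsProper f'] (gX : X' ⟶ X)
    (hp : IsPullback f' gX s.g' f) (δX' : X' → ℤ) (hX' : Cyc.DeltaCompat gX δX' δX) (k : ℤ)
    (α : AlgebraicCycle s.Y' ℤ) (hα : α ∈ Cyc.Zk s.Y' s.δY' k) (β : AlgebraicCycle X' ℤ)
    (hβ : β ∈ Cyc.Zk X' δX' (k - p))
    (h : c.op (sqOf s f' gX hp δX' hX') k (ChowOps.cl α hα) = ChowOps.cl β hβ) :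
    ppOp hX hY hδf c s k (ChowOps.cl α hα) =
      ChowOps.cl (AlgebraicCycle.map f' δX' s.δX' β) (Bivar.cycMap_mem_Zk f' δX' s.δX' (k - p) hβ) := by
  haveI := lft_g' s
  haveI : LocallyOfFiniteType gX := MorphismProperty.of_isPullback hp ‹_›
  have hS := isSetup_sqX hY s
  have hT : Cyc.IsSetup X' δX' := isSetup_test hX gX hX'
  haveI := hS.1; haveI := hT.1
  let e := hp.isoPullback
  have h1 : e.hom ≫ pullback.fst s.g' f = f' := hp.isoPullback_hom_fst
  have h2 : e.hom ≫ pullback.snd s.g' f = gX := hp.isoPullback_hom_snd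
  have hde : Cyc.DeltaCompat e.hom δX' (δc (f := f) hX s) := deltaCompat_of_comp h2 (δc_compat hX s) hX'
  have hdf : Cyc.DeltaCompat f' δX' s.δX' := CycPB.deltaCompat_square hp.w hδf s.compatX hX'
  obtain ⟨β', hβ', e1, e2⟩ := c.push (sqC hX s) (sqOf s f' gX hp δX' hX') (𝟙 s.Y') e.hom (Category.id_comp _)
    (by
      show e.hom ≫ pullback.fst s.g' f ≫ s.f' = (f' ≫ s.f') ≫ 𝟙 _
      rw [reassoc_of% h1, Category.comp_id])
    h2 k α hα
  have e2' : c.op (sqC hX s) k (ChowOps.cl α hα) =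
      ChowOps.cl (AlgebraicCycle.map e.hom δX' (δc (f := f) hX s) β') (Bivar.cycMap_mem_Zk _ _ _ _ hβ') :=
    (congrArg (c.op (sqC hX s) k) (Bivar.cl_congr (AlgebraicCycle.map_id s.δY' α).symm hα
      (Bivar.cycMap_mem_Zk (𝟙 s.Y') s.δY' s.δY' k hα))).trans e2
  refine ppOp_cl hX hY hδf c s k α hα _ _ e2' _ _ ?_
  have hr : RZ δX' (k - p) fun x => β' x - β x := rz_of_cl_eq hβ hβ' (h.symm.trans e1)
  have := CycPB.RZ.push f' hS hT hdf hr
  refine this.eq (funext fun y => ?_)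
  have e3 := congrFun (pushF_pushF hT (δc_setup hX s) hS e.hom (pullback.fst s.g' f) hde (δc_fst hX hδf s) β' hβ') y
  have e4 : pushF (e.hom ≫ pullback.fst s.g' f) δX' s.δX' ⇑β' y = pushF f' δX' s.δX' ⇑β' y := by rw [h1]
  have e5 := CycPB.pushF_addP hT f' (δ := s.δX') (CycPB.Cy.mk hβ) hr.cy y
  show pushF f' δX' s.δX' (fun x => β' x - β x) y =
    pushF (pullback.fst s.g' f) _ s.δX' (pushF e.hom δX' _ ⇑β') y - pushF f' δX' s.δX' ⇑β y
  rw [e3, e4]
  simp only [add_sub_cancel] at e5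
  linarith [e5]

/-- the map of pasted squares -/
abbrev mapC (s t : Bivar.Sq g δY δZ) (h' : t.X' ⟶ s.X') (w₃ : h' ≫ s.g' = t.g') :
    pullback t.g' f ⟶ pullback s.g' f :=
  pullback.lift (pullback.fst t.g' f ≫ h') (pullback.snd t.g' f)
    (by rw [Category.assoc, w₃, pullback.condition])

omit [IsProper f] in
theorem isPullback_mapC (s t : Bivar.Sq g δY δZ) (h' : t.X' ⟶ s.X') (w₃ : h' ≫ s.g' = t.g') :
    IsPullback (mapC (f := f) s t h' w₃) (pullback.fst t.g' f) (pullback.fst s.g' f) h' :=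
  (IsPullback.of_right (h₁₁ := mapC (f := f) s t h' w₃) (h₁₂ := pullback.snd s.g' f) (h₂₁ := h') (h₂₂ := s.g')
    (by
      rw [pullback.lift_snd, w₃]
      exact (IsPullback.of_hasPullback t.g' f).flip)
    (pullback.lift_fst _ _ _) (IsPullback.of_hasPullback s.g' f).flip)

/-- **Proper push forward of a bivariant class.** -/
def ppClass : Bivar.Cl p g δY δZ where
  op := ppOp hX hY hδf c
  push s t h _ h' _ w₁ w₂ w₃ k := by
    intro α hα
    have hS := isSetup_sqX hY s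
    have hT := isSetup_sqX hY t
    haveI := hS.1; haveI := hT.1
    have hsq := isPullback_mapC (f := f) s t h' w₃
    haveI : IsProper (mapC (f := f) s t h' w₃) := MorphismProperty.of_isPullback hsq.flip ‹_›
    have hd' : Cyc.DeltaCompat h' t.δX' s.δX' := deltaCompat_of_comp w₃ s.compatX t.compatX
    have hdm : Cyc.DeltaCompat (mapC (f := f) s t h' w₃) (δc (f := f) hX t) (δc (f := f) hX s) :=
      deltaCompat_of_comp (pullback.lift_snd _ _ _) (δc_compat hX s) (δc_compat hX t)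
    obtain ⟨β, hβ, e1, e2⟩ := c.push (sqC hX s) (sqC hX t) h (mapC (f := f) s t h' w₃) w₁
      (by
        show mapC (f := f) s t h' w₃ ≫ pullback.fst s.g' f ≫ s.f' = (pullback.fst t.g' f ≫ t.f') ≫ h
        rw [pullback.lift_fst_assoc, Category.assoc, Category.assoc, w₂])
      (pullback.lift_snd _ _ _) k α hα
    refine ⟨AlgebraicCycle.map (pullback.fst t.g' f) (δc (f := f) hX t) t.δX' β, Bivar.cycMap_mem_Zk _ _ _ _ hβ,
      ppOp_cl hX hY hδf c t k α hα β hβ e1 _ _ (CycPB.RZ.zero.eq (funext fun y => (sub_self _).symm)), ?_⟩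
    refine ppOp_cl hX hY hδf c s k _ _ _ _ e2 _ _ (CycPB.RZ.zero.eq (funext fun y => (sub_eq_zero.2 ?_).symm))
    have e3 := congrFun (pushF_pushF (δc_setup hX t) (δc_setup hX s) hS (mapC (f := f) s t h' w₃)
      (pullback.fst s.g' f) hdm (δc_fst hX hδf s) β hβ) y
    have e4 := congrFun (pushF_pushF (δc_setup hX t) hT hS (pullback.fst t.g' f) h' (δc_fst hX hδf t) hd' β hβ) y
    refine e3.trans (Eq.trans ?_ e4.symm)
    rw [hsq.w]
  pull s t h _ h' _ e he he' w₁ w₂ w₃ k := by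
    intro α hα
    haveI := lft_g' s
    haveI := lft_g' t
    haveI : LocallyOfFiniteType (h' ≫ s.g') := by rw [w₃]; infer_instance
    haveI : LocallyOfFiniteType h' := locallyOfFiniteType_of_comp h' s.g'
    have hS := isSetup_sqX hY s
    have hT := isSetup_sqX hY t
    have hS' := δc_setup (f := f) hX s
    have hT' := δc_setup (f := f) hX t
    haveI := hS.1; haveI := hT.1; haveI := hS'.1; haveI := hT'.1
    have hsq := isPullback_mapC (f := f) s t h' w₃
    haveI : Flat (mapC (f := f) s t h' w₃) := MorphismProperty.of_isPullback hsq.flip ‹_›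
    haveI : LocallyOfFiniteType (mapC (f := f) s t h' w₃) := MorphismProperty.of_isPullback hsq.flip ‹_›
    have hd' : Cyc.DeltaCompat h' t.δX' s.δX' := deltaCompat_of_comp w₃ s.compatX t.compatX
    have hdm : Cyc.DeltaCompat (mapC (f := f) s t h' w₃) (δc (f := f) hX t) (δc (f := f) hX s) :=
      deltaCompat_of_comp (pullback.lift_snd _ _ _) (δc_compat hX s) (δc_compat hX t)
    have hem : Cyc.HasRelDim (mapC (f := f) s t h' w₃) e :=
      (S9358.result h' (pullback.fst s.g' f) (pullback.fst t.g' f) (mapC (f := f) s t h' w₃) hsq.flip e).2.2 he'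
    obtain ⟨β, hβ, e1, e2⟩ := c.pull (sqC hX s) (sqC hX t) h (mapC (f := f) s t h' w₃) e he hem w₁
      (by
        show mapC (f := f) s t h' w₃ ≫ pullback.fst s.g' f ≫ s.f' = (pullback.fst t.g' f ≫ t.f') ≫ h
        rw [pullback.lift_fst_assoc, Category.assoc, Category.assoc, w₂])
      (pullback.lift_snd _ _ _) k α hα
    refine ⟨AlgebraicCycle.map (pullback.fst s.g' f) (δc (f := f) hX s) s.δX' β, Bivar.cycMap_mem_Zk _ _ _ _ hβ,
      ppOp_cl hX hY hδf c s k α hα β hβ e1 _ _ (CycPB.RZ.zero.eq (funext fun y => (sub_self _).symm)),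
      fun α₁ hα₁e hα₁ => ?_⟩
    obtain ⟨β₁, hβ₁, hβ₁e, e3⟩ := e2 α₁ hα₁e hα₁
    obtain ⟨γ, hγe, hγ⟩ := (CycPB.Cy.mk (Bivar.cycMap_mem_Zk (pullback.fst s.g' f) (δc (f := f) hX s) s.δX' _
      hβ)).pullR hT h' hd' he'
    have hk : k - p + (e : ℤ) = k + e - p := by ring
    refine ⟨γ, hk ▸ hγ, hγe, ppOp_cl hX hY hδf c t (k + e) α₁ hα₁ β₁ hβ₁ e3 γ _
      (CycPB.RZ.zero.eq (funext fun y => (sub_eq_zero.2 ?_).symm))⟩
    rw [hγe, hβ₁e]
    exact (CycFin.push_pull hsq hT.2.2 hT'.2.2 (δc_fst hX hδf s) (δc_fst hX hδf t)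
      (hc_of hd' he') (hc_of hdm hem) β y).symm
  gysin s t i _ j _ w₁ w₂ w₃ N hN σ hσ τ hτ k := by
    intro α hα
    have hS := isSetup_sqX hY s
    have hT := isSetup_sqX hY t
    have hS' := δc_setup (f := f) hX s
    haveI := hS.1; haveI := hT.1; haveI := hS'.1
    have hsq := isPullback_mapC (f := f) s t j w₃
    haveI : IsClosedImmersion (mapC (f := f) s t j w₃) := MorphismProperty.of_isPullback hsq.flip ‹_›
    have hdj : Cyc.DeltaCompat j t.δX' s.δX' := deltaCompat_of_comp w₃ s.compatX t.compatX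
    have hdm : Cyc.DeltaCompat (mapC (f := f) s t j w₃) (δc (f := f) hX t) (δc (f := f) hX s) :=
      deltaCompat_of_comp (pullback.lift_snd _ _ _) (δc_compat hX s) (δc_compat hX t)
    have hN₁ := PicLoc.isInvertible_pullback s.f' hN
    obtain ⟨τ', hτ', -⟩ := CycPB.isZeroSchemeOf_pullback (pullback.fst s.g' f) hsq hN₁ hτ
    let φ := (Scheme.Modules.pullbackComp (pullback.fst s.g' f) s.f').app N
    have hτ'' := CycPB.isZeroSchemeOf_moduleIso φ hτ'
    obtain ⟨β, hβ, e1, e2⟩ := c.gysin (sqC hX s) (sqC hX t) i (mapC (f := f) s t j w₃) w₁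
      (by
        show mapC (f := f) s t j w₃ ≫ pullback.fst s.g' f ≫ s.f' = (pullback.fst t.g' f ≫ t.f') ≫ i
        rw [pullback.lift_fst_assoc, Category.assoc, Category.assoc, w₂])
      (pullback.lift_snd _ _ _) N hN σ hσ _ hτ'' k α hα
    let bS := AlgebraicCycle.map (pullback.fst s.g' f) (δc (f := f) hX s) s.δX' β
    have hbS : bS ∈ Cyc.Zk s.X' s.δX' (k - p) := Bivar.cycMap_mem_Zk _ _ _ _ hβ
    refine ⟨bS, hbS, ppOp_cl hX hY hδf c s k α hα β hβ e1 _ _ (CycPB.RZ.zero.eq (funext fun y => (sub_self _).symm)),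
      fun w hw γ hγe hγ w' hw' => ?_⟩
    have hM := PicLoc.isInvertible_pullback (pullback.fst s.g' f ≫ s.f') hN
    obtain ⟨u₂, hu₂⟩ := CycPB.exists_sections hM
    obtain ⟨u₁, hu₁⟩ := CycPB.exists_sections (PicLoc.isInvertible_pullback (pullback.fst s.g' f) hN₁)
    obtain ⟨ζX, hζX, hζXe, e3⟩ := e2 w hw γ hγe hγ u₂ hu₂
    obtain ⟨C, hCe, hC⟩ := (show Cy s.δX' (k - 1 - p + 1) ⇑bS by
      rw [show k - 1 - p + 1 = k - p by ring]
      exact CycPB.Cy.mk hbS).cap hS hN₁ (v := Cyc.gysinChoice _ τ w') (CycK0.gysinChoice_ne_zero hw')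
    obtain ⟨ζ, hζe⟩ := CycK0.exists_comap (i := j) C
    have hδj := delta_closed j hdj
    have hδm := delta_closed (mapC (f := f) s t j w₃) hdm
    have hζk : ζ ∈ Cyc.Zk t.X' t.δX' (k - 1 - p) := fun d hd => by
      rw [hζe]
      exact hC _ (fun e => hd (by rw [hδj]; exact e))
    refine ⟨ζ, hζk, fun d => by rw [hζe, hCe], ppOp_cl hX hY hδf c t (k - 1) γ hγ ζX hζX e3 ζ hζk ?_⟩
    have hT' := δc_setup (f := f) hX t
    haveI := hT'.1
    have hβ' : β ∈ Cyc.Zk _ (δc (f := f) hX s) (k - 1 - p + 1) := by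
      rwa [show k - 1 - p + 1 = k - p by ring]
    have key := gysin_push_sq (k := k - 1 - p) hS hS' (pullback.fst s.g' f) (δc_fst hX hδf s) hN₁ hτ hsq hτ' β hβ'
      w' hw' u₁ hu₁
    rw [← hδj, ← hδm] at key
    have hind := gysin_indep (i := mapC (f := f) s t j w₃) (k := k - 1 - p) hS'
      (PicLoc.isInvertible_pullback (pullback.fst s.g' f) hN₁) hM φ hτ' hτ'' hu₁ hu₂ (CycPB.Cy.mk hβ')
    rw [← hδm] at hind
    have hpush := CycPB.RZ.push (pullback.fst t.g' f) hT hT' (δc_fst hX hδf t) hind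
    refine (hpush.sub key).eq (funext fun y => ?_)
    have hcy : Cy (δc (f := f) hX t) (k - 1 - p) fun d =>
        Cyc.c1CapFun (δc (f := f) hX s) ((Scheme.Modules.pullback (pullback.fst s.g' f)).obj
            ((Scheme.Modules.pullback s.f').obj N)) ⇑β
          (Cyc.gysinChoice _ τ' u₁) ((mapC (f := f) s t j w₃) d) := by
      obtain ⟨B, hBe, hB⟩ := (CycPB.Cy.mk hβ').cap hS'
        (PicLoc.isInvertible_pullback (pullback.fst s.g' f) hN₁) (v := Cyc.gysinChoice _ τ' u₁)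
        (CycK0.gysinChoice_ne_zero hu₁)
      obtain ⟨G, hG⟩ := CycK0.exists_comap (i := mapC (f := f) s t j w₃) B
      exact ⟨G, funext fun d => by rw [hG, hBe], fun d hd => by
        rw [hG]; exact hB _ fun e => hd (by rw [hδm]; exact e)⟩
    have e4 := CycPB.pushF_addP hT' (pullback.fst t.g' f) (δ := t.δX') hcy hind.cy y
    have e5 : ⇑ζX = fun d => Cyc.c1CapFun (δc (f := f) hX s) _ ⇑β
        (Cyc.gysinChoice _ (φ.hom.app ⊤ τ') u₂) ((mapC (f := f) s t j w₃) d) := funext hζXe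
    simp only [add_sub_cancel] at e4
    rw [hζe, hCe, e5, cy_pushF]
    linarith [e4]

theorem isProperPushClass_ppClass : Bivar.IsProperPushClass f g c (ppClass hX hY hδf c) :=
  ⟨‹_›, hδf, fun s X' f' _ gX hp δX' hX' k α hα β hβ h => ppOp_any hX hY hδf c s X' f' gX hp δX' hX' k α hα β hβ h⟩

end Groth.Agent.BivarOps
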