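import Groth.Agent.BivarOps.Gysin
import Groth.Agent.BivarOps.ProperPush
import Groth.Agent.CycPB.OpsRoots
import Groth.Agent.CycPB.OpsPush
import Groth.Agent.CycPB.OpsPull

/-!
The operational Chern classes of a locally free module.
-/

set_option autoImplicit false
set_option linter.unusedSectionVars false
set_option linter.style.haveILetI false
set_option backward.isDefEq.respectTransparency false
set_option backward.isDefEq.respectTransparency.types false
set_option maxHeartbeats 1000000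

universe u

open CategoryTheory CategoryTheory.Limits AlgebraicGeometry Opposite
open Groth.Agent.CycPB (Cy RZ pushF gCy gRZ Tot mkT ofT nx Rel Bundle cT sgl)

noncomputable section

namespace Groth.Agent.BivarOps

variable {Y P : Scheme.{u}} {δ : Y → ℤ} {δP : P → ℤ} {k : ℤ}

/-- a class as a class of a family -/
def toTot (k : ℤ) : ChowOps.CH Y δ k →+ Tot δ :=
  QuotientAddGroup.lift (ChowOps.ratTriv Y δ k)
    (AddMonoidHom.mk' (fun A : ↥(ChowOps.zk Y δ k) => ofT (CycPB.Cy.mk A.2)) fun A B => by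
      rw [← CycPB.ofT_add (CycPB.Cy.mk A.2) (CycPB.Cy.mk B.2)])
    ((AddSubgroup.closure_le _).2 fun A hA => by
      show ofT (CycPB.Cy.mk A.2) = 0
      rw [← CycPB.ofT_zero (δ := δ) k, CycPB.ofT_eq_iff]
      exact (show RZ δ k ⇑A.1 from ⟨A.1, rfl, A.2, hA⟩).eq (funext fun x => (sub_zero _).symm))

theorem toTot_cl (A : AlgebraicCycle Y ℤ) (hA : A ∈ Cyc.Zk Y δ k) :
    toTot k (ChowOps.cl A hA) = ofT (CycPB.Cy.mk hA) := rfl

/-- the degree `k` part of the class of a family -/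
def ofTot (δ : Y → ℤ) (k : ℤ) : Tot δ →+ ChowOps.CH Y δ k :=
  QuotientAddGroup.lift _
    (AddMonoidHom.mk' (fun a : gCy δ => clF (a.2 k)) fun a b => by
      obtain ⟨A, hA, hAk⟩ := a.2 k
      obtain ⟨B, hB, hBk⟩ := b.2 k
      rw [clF_eq (a.2 k) A hAk (rz_refl fun x => by rw [hA]), clF_eq (b.2 k) B hBk (rz_refl fun x => by rw [hB]),
        ← Bivar.cl_add]
      refine clF_eq _ _ _ (rz_refl fun x => ?_)
      show a.1 k x + b.1 k x = A x + B x
      rw [hA, hB])
    fun a ha => by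
      show clF (a.2 k) = 0
      rw [← Bivar.cl_zero]
      exact clF_eq _ _ _ ((show RZ δ k (a.1 k) from ha k).eq (funext fun x => (sub_zero _).symm))
where
  rz_refl {X : Scheme.{u}} {δ : X → ℤ} {k : ℤ} {a b : X → ℤ} (h : ∀ x, a x = b x) : RZ δ k fun x => a x - b x :=
    CycPB.RZ.zero.eq (funext fun x => (sub_eq_zero.2 (h x)).symm)

/-- The `j`-th Chern class of a bundle on classes. -/
def cOp {p : P ⟶ Y} [IsProper p] {E : Y.Modules} {O : P.Modules} {r : ℕ} (hB : Bundle p δ δP E O r) (j : ℕ) (k : ℤ) :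
    ChowOps.CH Y δ k →+ ChowOps.CH Y δ (k - j) :=
  (ofTot δ (k - j)).comp ((cT hB j).comp (toTot k))

theorem cOp_cl {p : P ⟶ Y} [IsProper p] {E : Y.Modules} {O : P.Modules} {r : ℕ} (hB : Bundle p δ δP E O r)
    {Q : Scheme.{u}} {p' : Q ⟶ Y} [IsProper p'] {δQ : Q → ℤ} {E' : Y.Modules} {O' : Q.Modules}
    (hB' : Bundle p' δ δQ E' O' r) (e : E ≅ E') (j : ℕ) (A : AlgebraicCycle Y ℤ) (hA : A ∈ Cyc.Zk Y δ k)
    {c : Fin (r + 1) → Y → ℤ} (hc : Rel p' δ δQ O' r k c) (h0 : RZ δ k fun x => c 0 x - A x)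
    (C : AlgebraicCycle Y ℤ) (hC : C ∈ Cyc.Zk Y δ (k - j)) (h : RZ δ (k - j) fun x => nx c j x - C x) :
    cOp hB j k (ChowOps.cl A hA) = ChowOps.cl C hC := by
  have e1 : cT hB j (toTot k (ChowOps.cl A hA)) = ofT (CycPB.cy_nx hc.1 j) := by
    rw [CycPB.cT_eq_cT hB hB' e j, toTot_cl]
    exact CycPB.cT_ofT hB' j (CycPB.Cy.mk hA) hc h0
  show ofTot δ (k - j) (cT hB j (toTot k (ChowOps.cl A hA))) = _
  rw [e1]
  exact clF_eq _ C hC (h.eq (funext fun x => by
    show nx c j x - C x = sgl (k - (j : ℤ)) (nx c j) (k - (j : ℤ)) x - C x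
    rw [CycPB.sgl_self]))

/-- Chern relations only depend on the classes. -/
theorem rel_congr {p : P ⟶ Y} [IsProper p] {E : Y.Modules} {O : P.Modules} {r : ℕ} (hB : Bundle p δ δP E O r)
    {c d : Fin (r + 1) → Y → ℤ} (hc : Rel p δ δP O r k c)
    (hd : ∀ j : Fin (r + 1), Cy δ (k - ((j : ℕ) : ℤ)) (d j))
    (h : ∀ j : Fin (r + 1), RZ δ (k - ((j : ℕ) : ℤ)) fun x => c j x - d j x) : Rel p δ δP O r k d := by
  have hz : Rel p δ δP O r k fun j x => c j x - d j x := by
    refine ⟨fun j => (h j).cy, fun t ht hr => CycPB.RZ.sum Finset.univ fun i _ => ?_⟩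
    obtain ⟨n, rfl⟩ : ∃ n, r = n + 1 := ⟨r - 1, by omega⟩
    haveI := hB.fibres.1 hr
    have hlt := i.2
    have h1 := ((((h (Fin.rev i)).pull hB.setup hB.setupP hB.compat (hB.relDim rfl)).pow hB.setupP hB.invertible ht
      (i : ℕ)).smul ((-1 : ℤ) ^ (i : ℕ)))
    rw [show k - ((Fin.rev i : Fin (n + 1 + 1)) : ℕ) + n - ((i : ℕ) : ℤ) = k - 1 by
      simp only [Fin.val_rev]; omega] at h1
    refine h1.eq (funext fun y => ?_)
    unfold CycPB.term
    rw [show ((n + 1 : ℕ) : ℤ) - 1 = n by push_cast; ring]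
  have := hc.sub hB hz
  simpa only [sub_sub_cancel] using this

variable {X : Scheme.{u}} {δX : X → ℤ}

/-- a projective bundle on a test scheme -/
structure BundleData (s : Bivar.OSq X δX) (E : X.Modules) (r : ℕ) where
  P : Scheme.{u}
  p : P ⟶ s.Y
  proper : IsProper p
  O : P.Modules
  δP : P → ℤ
  bundle : Bundle p s.δ δP ((Scheme.Modules.pullback s.g).obj E) O r

variable (hX : Cyc.IsSetup X δX) {E : X.Modules} {r : ℕ} (hE : FlatMod.IsFinLocFreeOfRank r E)

/-- the chosen bundle -/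
def bundleData (s : Bivar.OSq X δX) : BundleData s E r :=
  haveI := s.lft
  Classical.choice (by
    obtain ⟨P, p, hp, O, δP, hB⟩ := CycPB.exists_bundle (isSetup_test hX s.g s.compat)
      (CurveRR.Multi.isFinLocFreeOfRank_pullback s.g hE)
    exact ⟨⟨P, p, hp, O, δP, hB⟩⟩)

/-- the operation -/
def chernOp (j : ℕ) (s : Bivar.OSq X δX) (k : ℤ) : ChowOps.CH s.Y s.δ k →+ ChowOps.CH s.Y s.δ (k - j) :=
  haveI := (bundleData hX hE s).proper
  cOp (bundleData hX hE s).bundle j k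

theorem chernOp_cl (j : ℕ) (s : Bivar.OSq X δX) {Q : Scheme.{u}} {π : Q ⟶ s.Y} [IsProper π] {δQ : Q → ℤ}
    {E' : s.Y.Modules} {O' : Q.Modules} (hB : Bundle π s.δ δQ E' O' r)
    (e : (Scheme.Modules.pullback s.g).obj E ≅ E') (A : AlgebraicCycle s.Y ℤ) (hA : A ∈ Cyc.Zk s.Y s.δ k)
    {c : Fin (r + 1) → s.Y → ℤ} (hc : Rel π s.δ δQ O' r k c) (h0 : RZ s.δ k fun x => c 0 x - A x)
    (C : AlgebraicCycle s.Y ℤ) (hC : C ∈ Cyc.Zk s.Y s.δ (k - j)) (h : RZ s.δ (k - j) fun x => nx c j x - C x) :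
    chernOp hX hE j s k (ChowOps.cl A hA) = ChowOps.cl C hC := by
  haveI := (bundleData hX hE s).proper
  exact cOp_cl _ hB e j A hA hc h0 C hC h

/-- **The Chern classes.** -/
def chernClass (j : Fin (r + 1)) : Bivar.OpCl ((j : ℕ) : ℤ) X δX where
  op := chernOp hX hE j
  push s t h hh w k := by
    intro α hα
    haveI := hh
    haveI := s.lft
    haveI := t.lft
    haveI := (bundleData hX hE s).proper
    have hs : Cyc.IsSetup s.Y s.δ := isSetup_test hX s.g s.compat
    have ht : Cyc.IsSetup t.Y t.δ := isSetup_test hX t.g t.compat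
    haveI := hs.1; haveI := ht.1
    have hd : Cyc.DeltaCompat h t.δ s.δ := deltaCompat_of_comp w s.compat t.compat
    have hsq : IsPullback (pullback.fst (bundleData hX hE s).p h) (pullback.snd (bundleData hX hE s).p h)
      (bundleData hX hE s).p h := .of_hasPullback _ _
    obtain ⟨δQ, hQ, hπ⟩ := CycPB.exists_isSetup ht (pullback.snd (bundleData hX hE s).p h)
    have hB' := (bundleData hX hE s).bundle.baseChange ht h hd _ _ hsq hQ hπ
    obtain ⟨c, hc, hc0⟩ := CycPB.exists_rel hB' (CycPB.Cy.mk hα)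
    obtain ⟨β, hβe, hβ⟩ := hc.1 j
    refine ⟨β, hβ, chernOp_cl hX hE j t hB' (pullIso w E) α hα hc (CycPB.RZ.zero.eq (funext fun x => by rw [hc0, sub_self]))
      β hβ (CycPB.RZ.zero.eq (funext fun x => by rw [CycPB.nx_val, hβe, sub_self])), ?_⟩
    refine chernOp_cl hX hE j s (bundleData hX hE s).bundle (Iso.refl _) _ _
      (CycPB.Rel.pushR hs ht h hd (bundleData hX hE s).bundle _ _ hsq hQ hπ hc)
      (CycPB.RZ.zero.eq (funext fun x => ?_)) _ _ (CycPB.RZ.zero.eq (funext fun x => ?_))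
    · show (0 : ℤ) = pushF h t.δ s.δ (c 0) x - pushF h t.δ s.δ ⇑α x
      rw [hc0, sub_self]
    · show (0 : ℤ) = nx (fun i => pushF h t.δ s.δ (c i)) (j : ℕ) x - pushF h t.δ s.δ ⇑β x
      rw [CycPB.nx_val, hβe, sub_self]
  pull s t h hh e he w k := by
    intro α hα
    haveI := hh
    haveI := s.lft
    haveI := t.lft
    haveI : LocallyOfFiniteType (h ≫ s.g) := by rw [w]; infer_instance
    haveI : LocallyOfFiniteType h := locallyOfFiniteType_of_comp h s.g
    haveI := (bundleData hX hE s).proper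
    have hs : Cyc.IsSetup s.Y s.δ := isSetup_test hX s.g s.compat
    have ht : Cyc.IsSetup t.Y t.δ := isSetup_test hX t.g t.compat
    haveI := hs.1; haveI := ht.1
    have hd : Cyc.DeltaCompat h t.δ s.δ := deltaCompat_of_comp w s.compat t.compat
    obtain ⟨c, hc, hc0⟩ := CycPB.exists_rel (bundleData hX hE s).bundle (CycPB.Cy.mk hα)
    obtain ⟨β, hβe, hβ⟩ := hc.1 j
    refine ⟨β, hβ, chernOp_cl hX hE j s (bundleData hX hE s).bundle (Iso.refl _) α hα hc
      (CycPB.RZ.zero.eq (funext fun x => by rw [hc0, sub_self])) β hβ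
      (CycPB.RZ.zero.eq (funext fun x => by rw [CycPB.nx_val, hβe, sub_self])), fun α₁ hα₁e hα₁ => ?_⟩
    obtain ⟨β₁, hβ₁e, hβ₁⟩ := (CycPB.Cy.mk hβ).pullR ht h hd he
    have hk : k - ((j : ℕ) : ℤ) + (e : ℤ) = k + e - ((j : ℕ) : ℤ) := by ring
    refine ⟨β₁, hk ▸ hβ₁, hβ₁e, ?_⟩
    have hsq : IsPullback (pullback.fst (bundleData hX hE s).p h) (pullback.snd (bundleData hX hE s).p h)
      (bundleData hX hE s).p h := .of_hasPullback _ _
    obtain ⟨δQ, hQ, hπ⟩ := CycPB.exists_isSetup ht (pullback.snd (bundleData hX hE s).p h)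
    have hB' := (bundleData hX hE s).bundle.baseChange ht h hd _ _ hsq hQ hπ
    refine chernOp_cl hX hE j t hB' (pullIso w E) α₁ hα₁
      ((bundleData hX hE s).bundle |> fun b => CycPB.Rel.pull b ht h he hd _ _ hsq hQ hπ hc)
      (CycPB.RZ.zero.eq (funext fun x => ?_)) β₁ _ (CycPB.RZ.zero.eq (funext fun x => ?_))
    · rw [hα₁e, hc0, sub_self]
    · rw [CycPB.nx_val, hβ₁e, hβe, sub_self]
  gysin s t i hi w L hL σ hσ k := by
    intro α hα
    haveI := hi
    haveI := s.lft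
    haveI := t.lft
    haveI := (bundleData hX hE s).proper
    have hs : Cyc.IsSetup s.Y s.δ := isSetup_test hX s.g s.compat
    have ht : Cyc.IsSetup t.Y t.δ := isSetup_test hX t.g t.compat
    haveI := hs.1; haveI := ht.1
    have hdi : Cyc.DeltaCompat i t.δ s.δ := deltaCompat_of_comp w s.compat t.compat
    have eδ := delta_closed i hdi
    have hB := (bundleData hX hE s).bundle
    haveI := hB.setupP.1
    obtain ⟨γ, hγ⟩ := CycPB.exists_chernCap hB hα
    have hc := CycPB.Rel.of_chern hB hγ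
    refine ⟨γ j, hγ.2.1 j, chernOp_cl hX hE j s hB (Iso.refl _) α hα hc
      (CycPB.RZ.zero.eq (funext fun x => by rw [hγ.1, sub_self])) (γ j) (hγ.2.1 j)
      (CycPB.RZ.zero.eq (funext fun x => by rw [CycPB.nx_val, sub_self])), fun ww hww γD hγDe hγD => ?_⟩
    -- the bundle on the subscheme
    have hsq : IsPullback (pullback.fst (bundleData hX hE s).p i) (pullback.snd (bundleData hX hE s).p i)
      (bundleData hX hE s).p i := .of_hasPullback _ _
    haveI : IsClosedImmersion (pullback.fst (bundleData hX hE s).p i) := inferInstance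
    have hQ := CycK0.isSetup_closed (pullback.fst (bundleData hX hE s).p i) hB.setupP
    have hπ : Cyc.DeltaCompat (pullback.snd (bundleData hX hE s).p i)
        (fun y => (bundleData hX hE s).δP (pullback.fst (bundleData hX hE s).p i y)) t.δ :=
      CycPB.deltaCompat_square hsq.w.symm hB.compat hdi (CycPush.deltaCompat_preimmersion _ _)
    have hB' := hB.baseChange ht i hdi _ _ hsq hQ hπ
    obtain ⟨γ', hγ'⟩ := CycPB.exists_chernCap hB' hγD
    -- the Gysin images
    have hζ : ∀ l : Fin (r + 1), ∃ z : AlgebraicCycle t.Y ℤ,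
        (∀ d, z d = Cyc.c1CapFun s.δ L ⇑(γ l) (Cyc.gysinChoice L σ ww) (i d)) ∧
        z ∈ Cyc.Zk t.Y t.δ (k - 1 - ((l : ℕ) : ℤ)) := fun l => by
      have hl : Cy s.δ (k - 1 - ((l : ℕ) : ℤ) + 1) ⇑(γ l) := by
        rw [show k - 1 - ((l : ℕ) : ℤ) + 1 = k - ((l : ℕ) : ℤ) by ring]
        exact CycPB.Cy.mk (hγ.2.1 l)
      obtain ⟨C, hCe, hC⟩ := hl.cap hs hL (v := Cyc.gysinChoice L σ ww) (CycK0.gysinChoice_ne_zero hww)
      obtain ⟨z, hz⟩ := CycK0.exists_comap (i := i) C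
      exact ⟨z, fun d => by rw [hz, hCe], fun d hd => by rw [hz]; exact hC _ fun e => hd (by rw [eδ]; exact e)⟩
    choose ζ hζe hζk using hζ
    have hk : k - 1 - ((j : ℕ) : ℤ) = k - ((j : ℕ) : ℤ) - 1 := by ring
    refine ⟨ζ j, hζk j, hζe j, ?_⟩
    obtain ⟨q, hq⟩ := hB.proj
    have hkey : Cyc.RatEquiv (fun d => s.δ (i d)) (k - 1 - ((j : ℕ) : ℤ)) (ζ j) (γ' j) := by
      have hγ'' : Cyc.IsChernCap (pullback.snd (bundleData hX hE s).p i) (fun d => s.δ (i d))
          (fun y => (bundleData hX hE s).δP (pullback.fst (bundleData hX hE s).p i y))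
          ((Scheme.Modules.pullback (pullback.fst (bundleData hX hE s).p i)).obj (bundleData hX hE s).O) r (k - 1) γD γ' := by
        rw [← eδ]
        exact hγ'
      exact CycPB.chern_gysin hs (bundleData hX hE s).p hq hB.rank hB.setupP hB.compat hL hσ _ _ hsq ww hww γ hγ γD
        hγDe γ' hγ'' ζ hζe j
    rw [← eδ] at hkey
    refine chernOp_cl hX hE j t hB' (pullIso w E) γD hγD (CycPB.Rel.of_chern hB' hγ')
      (CycPB.RZ.zero.eq (funext fun x => by rw [hγ'.1, sub_self])) (ζ j) (hζk j) ?_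
    exact ((CycPB.RZ.of_ratEquiv (hζk j) (hγ'.2.1 j) hkey).neg_diff).eq (funext fun x => by rw [CycPB.nx_val])

/-- the family of Chern classes -/
def chernFam : (j : ℕ) → Bivar.OpCl (j : ℤ) X δX
  | 0 => Bivar.OpCl.one X δX
  | n + 1 => if h : n + 1 < r + 1 then chernClass hX hE ⟨n + 1, h⟩ else 0

theorem isChernClasses_chernFam : Bivar.IsChernClasses E r (chernFam hX hE) := by
  refine ⟨hE, rfl, fun j hj => ?_, ?_⟩
  · obtain _ | n := j
    · omega
    · exact dif_neg (by omega)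
  intro s P π O1 q hP δP hδP k α hα ζ hζ0 hζk hζ
  haveI := s.lft
  have hs : Cyc.IsSetup s.Y s.δ := isSetup_test hX s.g s.compat
  haveI := hs.1
  haveI := (bundleData hX hE s).proper
  obtain ⟨q₀, hq₀⟩ := (bundleData hX hE s).bundle.proj
  obtain ⟨θ, hθ, -⟩ := PBundle.exists_iso hq₀ hP
  haveI : IsProper π := hθ ▸ inferInstance
  have hPs : Cyc.IsSetup P δP := isSetup_test hs π hδP
  have hB : Bundle π s.δ δP ((Scheme.Modules.pullback s.g).obj E) O1 r :=
    ⟨hs, hPs, hδP, ⟨q, hP⟩, (bundleData hX hE s).bundle.rank⟩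
  obtain ⟨c, hc, hc0⟩ := CycPB.exists_rel hB (CycPB.Cy.mk hα)
  have hd : ∀ l : Fin (r + 1), RZ s.δ (k - ((l : ℕ) : ℤ)) fun x => c l x - ζ l x := fun l => by
    obtain ⟨C, hCe, hC⟩ := hc.1 l
    obtain ⟨_ | n, hn⟩ := l
    · refine CycPB.RZ.zero.eq (funext fun x => ?_)
      show (0 : ℤ) = c 0 x - ζ 0 x
      rw [hc0, hζ0, sub_self]
    have e1 : chernOp hX hE (n + 1) s k (ChowOps.cl α hα) = ChowOps.cl C hC :=
      chernOp_cl hX hE (n + 1) s hB (Iso.refl _) α hα hc (CycPB.RZ.zero.eq (funext fun x => by rw [hc0, sub_self]))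
        C hC (CycPB.RZ.zero.eq (funext fun x => by rw [CycPB.nx_of_lt c hn, hCe, sub_self]))
    have e2 := hζ ⟨n + 1, hn⟩
    simp only [chernFam, dif_pos hn] at e2
    exact (rz_of_cl_eq (hζk ⟨n + 1, hn⟩) hC (e2.symm.trans e1)).eq (funext fun x => by rw [hCe])
  have := CycPB.Rel.isChernCap hB (γ := ζ) (rel_congr hB hc (fun l => CycPB.Cy.mk (hζk l)) hd) hζk
  rwa [hζ0] at this

end Groth.Agent.BivarOps
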