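import Groth.Agent.BivarOps.IntMultVanish
import Groth.Agent.TorBalance.LES
import Groth.Agent.S6315

/-!
Additivity of the alternating sum of the lengths of Tor over a regular local ring.
-/

set_option autoImplicit false
set_option linter.style.haveILetI false
set_option backward.isDefEq.respectTransparency false

universe u

open CategoryTheory IsLocalRing
open Groth.Agent.KChi (lenN)

namespace Groth.Agent.BivarOps

variable {A : Type u} [CommRing A]

/-- The supports meet at most in the closed point. -/
def SuppDisj (A : Type u) [CommRing A] [IsLocalRing A] (M N : Type u) [AddCommGroup M] [Module A M] [AddCommGroup N]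
    [Module A N] : Prop :=
  maximalIdeal A ≤ (Module.annihilator A M ⊔ Module.annihilator A N).radical

theorem SuppDisj.symm [IsLocalRing A] {M N : Type u} [AddCommGroup M] [Module A M] [AddCommGroup N] [Module A N]
    (h : SuppDisj A M N) : SuppDisj A N M := by
  rw [SuppDisj, sup_comm]; exact h

theorem SuppDisj.mono [IsLocalRing A] {M N M' N' : Type u} [AddCommGroup M] [Module A M] [AddCommGroup N] [Module A N]
    [AddCommGroup M'] [Module A M'] [AddCommGroup N'] [Module A N'] (h : SuppDisj A M N)
    (h1 : Module.annihilator A M ≤ Module.annihilator A M') (h2 : Module.annihilator A N ≤ Module.annihilator A N') :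
    SuppDisj A M' N' :=
  le_trans h (Ideal.radical_mono (sup_le_sup h1 h2))

/-- An element killing one of the modules kills their Tor. -/
theorem tor_fl [IsLocalRing A] [IsNoetherianRing A] (M N : Type u) [AddCommGroup M] [Module A M] [AddCommGroup N]
    [Module A N] [Module.Finite A M] [Module.Finite A N] (h : SuppDisj A M N) (i : ℕ) :
    IsFiniteLength A (DRing.Tor A i M N) := by
  haveI : Module.Finite A (DRing.Tor A i M N) := Groth.Agent.S6315.result A M N i
  refine KChi.isFiniteLength_of_radical (le_trans h (Ideal.radical_mono (sup_le ?_ ?_)))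
  · intro a ha
    refine Module.mem_annihilator.2 fun x => ?_
    have h1 := smul_tor_left a (ModuleCat.of A M) (ModuleCat.of A N) (Module.mem_annihilator.1 ha) i
    exact congr($h1 x)
  · intro a ha
    refine Module.mem_annihilator.2 fun x => ?_
    have h2 := TorBalance.smul_id_eq_zero a (ModuleCat.of A M) (ModuleCat.of A N) (Module.mem_annihilator.1 ha) i
    exact congr($h2 x)

theorem tor_vanish_gt [IsRegularLocalRing A] {d : ℕ} (hd : ringKrullDim A = (d : WithBot ℕ∞)) (M N : Type u)
    [AddCommGroup M] [Module A M] [AddCommGroup N] [Module A N] {i : ℕ} (hi : d < i) :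
    Subsingleton (DRing.Tor A i M N) :=
  haveI : HasProjectiveDimensionLE (ModuleCat.of A N) d := SerreReg.pdLE_of_isRegularLocalRing A d hd N
  Groth.Agent.S14434.tor_subsingleton A M N d i hi

theorem chi_eq_sum [IsRegularLocalRing A] {d : ℕ} (hd : ringKrullDim A = (d : WithBot ℕ∞)) (M N : Type u)
    [AddCommGroup M] [Module A M] [AddCommGroup N] [Module A N] (n : ℕ) (hn : d < n) :
    IntMult.chi A M N = ∑ i ∈ Finset.range n, (-1 : ℤ) ^ i * (lenN A (DRing.Tor A i M N) : ℤ) := by
  rw [IntMult.chi, finsum_eq_sum_of_support_subset _ (s := Finset.range n) ?_]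
  · rfl
  · intro i hi
    rw [Finset.coe_range, Set.mem_Iio]
    by_contra hc
    haveI := tor_vanish_gt hd M N (show d < i by omega)
    exact hi (by simp [Module.length_eq_zero])

theorem chi_add_right [IsRegularLocalRing A] (M : Type u) [AddCommGroup M] [Module A M] [Module.Finite A M]
    {N₁ N₂ N₃ : Type u} [AddCommGroup N₁] [Module A N₁] [AddCommGroup N₂] [Module A N₂] [Module.Finite A N₂]
    [AddCommGroup N₃] [Module A N₃] (f : N₁ →ₗ[A] N₂) (g : N₂ →ₗ[A] N₃) (hf : Function.Injective f)
    (hg : Function.Surjective g) (hfg : Function.Exact f g) (h : SuppDisj A M N₂) :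
    IntMult.chi A M N₂ = IntMult.chi A M N₁ + IntMult.chi A M N₃ := by
  obtain ⟨d, hd⟩ := SerreReg.exists_dim A
  haveI : Module.Finite A N₁ := Module.Finite.of_injective f hf
  haveI : Module.Finite A N₃ := Module.Finite.of_surjective g hg
  have h₁ : SuppDisj A M N₁ := h.mono le_rfl (LinearMap.annihilator_le_of_injective f hf)
  have h₃ : SuppDisj A M N₃ := h.mono le_rfl (LinearMap.annihilator_le_of_surjective g hg)
  let S : ShortComplex (ModuleCat.{u} A) :=
    ShortComplex.mk (ModuleCat.ofHom f) (ModuleCat.ofHom g) (ModuleCat.hom_ext hfg.linearMap_comp_eq_zero)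
  have hS : S.ShortExact :=
    { exact := (ShortComplex.ShortExact.moduleCat_exact_iff_function_exact S).2 hfg
      mono_f := (ModuleCat.mono_iff_injective _).2 hf
      epi_g := (ModuleCat.epi_iff_surjective _).2 hg }
  let T := fun (i : ℕ) => (Tor (ModuleCat.{u} A) i).obj (ModuleCat.of A M)
  let rf := fun i => lenN A (LinearMap.range ((T i).map S.f).hom)
  let rg := fun i => lenN A (LinearMap.range ((T i).map S.g).hom)
  -- surjectivity in degree zero
  have hg0 : Function.Surjective ((T 0).map S.g).hom := by
    open Limits MonoidalCategory in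
    haveI : PreservesFiniteColimits ((tensoringLeft (ModuleCat.{u} A)).obj (ModuleCat.of A M)) :=
      inferInstanceAs (PreservesFiniteColimits (tensorLeft (ModuleCat.of A M)))
    open Limits MonoidalCategory in
    let e := ((tensoringLeft (ModuleCat.{u} A)).obj (ModuleCat.of A M)).leftDerivedZeroIsoSelf
    have hn := e.hom.naturality S.g
    intro y
    obtain ⟨w, hw⟩ := LinearMap.lTensor_surjective M hg ((e.app S.X₃).toLinearEquiv y)
    refine ⟨(e.app S.X₂).toLinearEquiv.symm w, (e.app S.X₃).toLinearEquiv.injective ?_⟩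
    rw [← hw]
    have hn' := congr($hn ((e.app S.X₂).toLinearEquiv.symm w))
    refine hn'.trans ?_
    show _ = LinearMap.lTensor M g w
    have : (e.hom.app S.X₂) ((e.app S.X₂).toLinearEquiv.symm w) = w := (e.app S.X₂).toLinearEquiv.apply_symm_apply w
    simp only [CategoryTheory.ConcreteCategory.comp_apply]
    rw [this]
    rfl
  choose δ w₁ w₂ he₁ he₂ using fun i => (TorBalance.exists_les (ModuleCat.of A M) hS i).2
  let rd := fun i => lenN A (LinearMap.range (δ i).hom)
  have hB : ∀ i, lenN A (DRing.Tor A i M N₂) = rf i + rg i := fun i => by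
    obtain ⟨w₀, he⟩ := (TorBalance.exists_les (ModuleCat.of A M) hS i).1
    exact KChi.lenN_eq_range_add_range _ _ ((ShortComplex.ShortExact.moduleCat_exact_iff_function_exact _).1 he)
      (tor_fl M N₂ h i)
  have hA : ∀ i, lenN A (DRing.Tor A i M N₁) = rd i + rf i := fun i =>
    KChi.lenN_eq_range_add_range _ _ ((ShortComplex.ShortExact.moduleCat_exact_iff_function_exact _).1 (he₂ i))
      (tor_fl M N₁ h₁ i)
  have hC : ∀ i, lenN A (DRing.Tor A (i + 1) M N₃) = rg (i + 1) + rd i := fun i =>
    KChi.lenN_eq_range_add_range _ _ ((ShortComplex.ShortExact.moduleCat_exact_iff_function_exact _).1 (he₁ i))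
      (tor_fl M N₃ h₃ (i + 1))
  have hC0 : lenN A (DRing.Tor A 0 M N₃) = rg 0 := by
    show lenN A ((T 0).obj S.X₃) = _
    exact (KChi.lenN_congr ((LinearEquiv.ofEq _ _ (LinearMap.range_eq_top.mpr hg0)).trans Submodule.topEquiv)).symm
  have key : ∀ n, ∑ i ∈ Finset.range (n + 1), (-1 : ℤ) ^ i * ((lenN A (DRing.Tor A i M N₂) : ℤ) -
      (lenN A (DRing.Tor A i M N₁) : ℤ) - (lenN A (DRing.Tor A i M N₃) : ℤ)) = - (-1 : ℤ) ^ n * (rd n : ℤ) := by
    intro n
    induction n with
    | zero =>
      rw [Finset.sum_range_one, hB, hA, hC0]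
      push_cast
      ring
    | succ n ih =>
      rw [Finset.sum_range_succ, ih, hB, hA, hC]
      push_cast
      ring
  have hlast : rd (d + 1) = 0 := by
    haveI := tor_vanish_gt hd M N₁ (Nat.lt_succ_self d)
    have h0 := hA (d + 1)
    rw [KChi.lenN_subsingleton] at h0
    omega
  have hk := key (d + 1)
  rw [hlast, Nat.cast_zero, mul_zero] at hk
  simp only [mul_sub, Finset.sum_sub_distrib] at hk
  rw [chi_eq_sum hd M N₁ (d + 1 + 1) (by omega), chi_eq_sum hd M N₂ (d + 1 + 1) (by omega),
    chi_eq_sum hd M N₃ (d + 1 + 1) (by omega)]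
  omega

theorem chi_add_left [IsRegularLocalRing A] (N : Type u) [AddCommGroup N] [Module A N] [Module.Finite A N]
    {M₁ M₂ M₃ : Type u} [AddCommGroup M₁] [Module A M₁] [AddCommGroup M₂] [Module A M₂] [Module.Finite A M₂]
    [AddCommGroup M₃] [Module A M₃] (f : M₁ →ₗ[A] M₂) (g : M₂ →ₗ[A] M₃) (hf : Function.Injective f)
    (hg : Function.Surjective g) (hfg : Function.Exact f g) (h : SuppDisj A M₂ N) :
    IntMult.chi A M₂ N = IntMult.chi A M₁ N + IntMult.chi A M₃ N := by
  rw [chi_flip M₂, chi_flip M₁, chi_flip M₃]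
  exact chi_add_right N f g hf hg hfg h.symm

end Groth.Agent.BivarOps
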