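import Groth.Agent.BivarOps.ChiAdd
import Groth.Agent.TorBalance.Single
import Groth.Agent.DRingKP.LTensorCx
import Groth.Agent.DRingKP.Tor
import Groth.Agent.KChi.Euler

/-!
Euler characteristics of derived tensor products and the associativity formula for lengths of Tor.
-/

set_option autoImplicit false
set_option linter.style.haveILetI false
set_option backward.isDefEq.respectTransparency false

universe u

open CategoryTheory Limits MonoidalCategory HomologicalComplex

namespace Groth.Agent.BivarOps

open Groth.Agent.DRingKP (tB tBraid)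
open Groth.Agent.KChi (lenN sgn eul Bdd)

variable {A : Type u} [CommRing A]


/-- The total tensor product. -/
noncomputable abbrev T2 (L : (DRing.Cx A)) : (DRing.Cx A) ⥤ (DRing.Cx A) :=
  (KFlat.tens (tB A)).obj L

/-- A projective resolution as a cochain complex. -/
noncomputable abbrev Pc (M : ModuleCat.{u} A) : (DRing.Cx A) := (projectiveResolution M).cochainComplex

set_option synthInstance.maxHeartbeats 200000 in
theorem flat_Pc (M : ModuleCat.{u} A) (p : ℤ) : Module.Flat A ((Pc M).X p) :=
  DRingKP.flat_of_projective (fun _ => inferInstance) p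

theorem kflat_Pc (M : ModuleCat.{u} A) : KFlat.RFlat (tB A) (Pc M) :=
  DRingKP.isKFlat_res _

theorem quasiIso_T2 (M : ModuleCat.{u} A) {K K' : (DRing.Cx A)} (f : K ⟶ K') [QuasiIso f] : QuasiIso ((T2 (Pc M)).map f) :=
  KFlat.quasiIso_obj_map_of_acyclic _ f
    ((kflat_Pc M).acyclic_tens_left (tBraid A) (KFlat.mappingCone_acyclic f))

theorem exists_tor_iso (M N : ModuleCat.{u} A) (q : ℤ) :
    (∀ p : ℕ, q = -(p : ℤ) →
      Nonempty (((T2 (Pc M)).obj ((single (ModuleCat.{u} A) (ComplexShape.up ℤ) 0).obj N)).homology q ≅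
        ((Tor (ModuleCat.{u} A) p).obj M).obj N)) ∧
      (0 < q → IsZero (((T2 (Pc M)).obj ((single (ModuleCat.{u} A) (ComplexShape.up ℤ) 0).obj N)).homology q)) := by
  haveI h1 : QuasiIso ((T2 (Pc M)).map (DRingKP.resToSingle (projectiveResolution N))) := quasiIso_T2 M _
  haveI h2 : QuasiIso (((KFlat.tens (tB A)).map (DRingKP.resToSingle (projectiveResolution M))).app (Pc N)) :=
    (kflat_Pc N).quasiIso_map_app (DRingKP.resToSingle (projectiveResolution M))
  let H := HomologicalComplex.homologyFunctor (ModuleCat.{u} A) (ComplexShape.up ℤ) q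
  let C := ((tensorLeft M).mapHomologicalComplex (ComplexShape.down ℕ)).obj (projectiveResolution N).complex
  let e : ((T2 (Pc M)).obj ((single (ModuleCat.{u} A) (ComplexShape.up ℤ) 0).obj N)).homology q ≅
      (C.extend ComplexShape.embeddingDownNat).homology q :=
    (@isoOfQuasiIsoAt _ _ _ _ _ _ _ ((T2 (Pc M)).map (DRingKP.resToSingle (projectiveResolution N))) q _ _
      ((quasiIso_iff _).1 h1 q)).symm ≪≫
    @isoOfQuasiIsoAt _ _ _ _ _ _ _ (((KFlat.tens (tB A)).map (DRingKP.resToSingle (projectiveResolution M))).app (Pc N))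
      q _ _ ((quasiIso_iff _).1 h2 q) ≪≫
    H.mapIso (((TorBalance.leftSingleIso (tB A) M).app (Pc N)).symm ≪≫
      TorBalance.mapExtendIso (tensorLeft M) ComplexShape.embeddingDownNat (projectiveResolution N).complex)
  constructor
  · intro p hp
    exact ⟨e ≪≫ C.extendHomologyIso ComplexShape.embeddingDownNat (show (ComplexShape.embeddingDownNat).f p = q by simp [hp]) ≪≫
      ((projectiveResolution N).isoLeftDerivedObj (tensorLeft M) p).symm⟩
  · intro hq
    refine IsZero.of_iso ?_ e
    exact ((C.extend ComplexShape.embeddingDownNat).exactAt_of_isSupported ComplexShape.embeddingDownNat q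
      (fun k hk => by simp at hk; omega)).isZero_homology

theorem singleXIso_comm'' (L : (DRing.Cx A)) (H : ModuleCat.{u} A) (m p₀ p n n' : ℤ) (hp : p₀ + 1 = p)
    (h : p₀ + m = n) (h' : p + m = n') :
    (KFlat.singleXIso (tB A) L H m p₀ n h).hom ≫
      (((KFlat.tens (tB A)).obj L).obj ((single (ModuleCat.{u} A) (ComplexShape.up ℤ) m).obj H)).d n n' =
    ((tB A).flip.obj H).map (L.d p₀ p) ≫ (KFlat.singleXIso (tB A) L H m p n' h').hom := by
  subst hp
  exact KFlat.singleXIso_comm' (tB A) L H m p₀ n n' h h'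

/-- Tensoring with a complex concentrated in one degree shifts homology. -/
theorem exists_single_shift (L : (DRing.Cx A)) (H : ModuleCat.{u} A) (m p : ℤ) :
    Nonempty (((T2 L).obj ((single (ModuleCat.{u} A) (ComplexShape.up ℤ) m).obj H)).homology (p + m) ≅
      ((T2 L).obj ((single (ModuleCat.{u} A) (ComplexShape.up ℤ) 0).obj H)).homology p) := by
  let D := (((tB A).flip.obj H).mapHomologicalComplex (ComplexShape.up ℤ)).obj L
  let E := ((T2 L).obj ((single (ModuleCat.{u} A) (ComplexShape.up ℤ) m).obj H))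
  let e : D.sc' (p - 1) p (p + 1) ≅ E.sc' (p - 1 + m) (p + m) (p + 1 + m) :=
    ShortComplex.isoMk (KFlat.singleXIso (tB A) L H m (p - 1) (p - 1 + m) rfl)
      (KFlat.singleXIso (tB A) L H m p (p + m) rfl)
      (KFlat.singleXIso (tB A) L H m (p + 1) (p + 1 + m) rfl)
      (singleXIso_comm'' L H m (p - 1) p (p - 1 + m) (p + m) (by omega) rfl rfl)
      (KFlat.singleXIso_comm' (tB A) L H m p (p + m) (p + 1 + m) rfl rfl)
  exact ⟨E.homologyIsoSc' (p - 1 + m) (p + m) (p + 1 + m) (by simp; omega) (by simp; omega) ≪≫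
    (ShortComplex.homologyMapIso e).symm ≪≫ (D.homologyIsoSc' (p - 1) p (p + 1) (by simp) (by simp)).symm ≪≫
    (HomologicalComplex.homologyFunctor (ModuleCat.{u} A) (ComplexShape.up ℤ) p).mapIso
      (TorBalance.rightSingleIso (tB A) L H)⟩

theorem sgn_sub_nat (a : ℤ) : ∀ i : ℕ, sgn (a - i) = sgn a * (-1) ^ i
  | 0 => by simp
  | i + 1 => by
    have h := sgn_succ' (a - (i + 1 : ℕ))
    rw [show a - ((i + 1 : ℕ) : ℤ) + 1 = a - (i : ℕ) by omega, sgn_sub_nat a i] at h
    rw [pow_succ]
    linarith
where
  sgn_succ' (i : ℤ) : sgn (i + 1) = - sgn i := KChi.sgn_succ i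

theorem length_congr_iso {X Y : ModuleCat.{u} A} (e : X ≅ Y) : Module.length A X = Module.length A Y :=
  e.toLinearEquiv.length_eq

theorem chi_congr {M N N' : Type u} [AddCommGroup M] [Module A M] [AddCommGroup N] [Module A N] [AddCommGroup N']
    [Module A N'] (e : N ≃ₗ[A] N') : IntMult.chi A M N = IntMult.chi A M N' := by
  refine finsum_congr fun i => ?_
  have h := (((CategoryTheory.Tor (ModuleCat.{u} A) i).obj (ModuleCat.of A M)).mapIso e.toModuleIso).toLinearEquiv.length_eq
  exact congrArg (fun l : ℕ∞ => (-1 : ℤ) ^ i * (l.toNat : ℤ)) h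

theorem chi_zero_right (M : Type u) [AddCommGroup M] [Module A M] (N : Type u) [AddCommGroup N] [Module A N]
    [Subsingleton N] : IntMult.chi A M N = 0 := by
  refine finsum_eq_zero_of_forall_eq_zero fun i => ?_
  haveI : Subsingleton (DRing.Tor A i M N) := by
    refine ⟨fun x y => ?_⟩
    have h := TorBalance.smul_id_eq_zero (1 : A) (ModuleCat.of A M) (ModuleCat.of A N) (fun z => Subsingleton.elim _ _) i
    have hx : x = 0 := (one_smul A x).symm.trans congr($h x)
    have hy : y = 0 := (one_smul A y).symm.trans congr($h y)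
    rw [hx, hy]
  rw [Module.length_eq_zero, ENat.toNat_zero, Nat.cast_zero, mul_zero]

variable [IsRegularLocalRing A]

open IsLocalRing

theorem bdd_eul_single (M : ModuleCat.{u} A) [Module.Finite A M] (H : ModuleCat.{u} A) [Module.Finite A H]
    (hd : SuppDisj A M H) (m : ℤ) :
    Bdd ((T2 (Pc M)).obj ((single (ModuleCat.{u} A) (ComplexShape.up ℤ) m).obj H)) ∧
      eul ((T2 (Pc M)).obj ((single (ModuleCat.{u} A) (ComplexShape.up ℤ) m).obj H)) =
        sgn m * IntMult.chi A M H := by
  obtain ⟨d, hdim⟩ := SerreReg.exists_dim A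
  set K := (T2 (Pc M)).obj ((single (ModuleCat.{u} A) (ComplexShape.up ℤ) m).obj H)
  have hneg : ∀ i : ℕ, Module.length A (K.homology (m - i)) = Module.length A (DRing.Tor A i M H) := fun i => by
    obtain ⟨e⟩ := exists_single_shift (Pc M) H m (-(i : ℤ))
    obtain ⟨e'⟩ := (exists_tor_iso M H (-(i : ℤ))).1 i rfl
    rw [show m - (i : ℤ) = -(i : ℤ) + m by omega]
    exact length_congr_iso (e ≪≫ e')
  have hpos : ∀ q, m < q → Module.length A (K.homology q) = 0 := fun q hq => by
    obtain ⟨e⟩ := exists_single_shift (Pc M) H m (q - m)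
    haveI := ModuleCat.subsingleton_of_isZero ((exists_tor_iso M H (q - m)).2 (by omega))
    rw [show q = q - m + m by omega, length_congr_iso e]
    exact Module.length_eq_zero
  have hfl : ∀ q, IsFiniteLength A (K.homology q) := fun q => by
    rw [← Module.length_ne_top_iff]
    by_cases hq : m < q
    · rw [hpos q hq]; exact ENat.zero_ne_top
    · obtain ⟨i, rfl⟩ : ∃ i : ℕ, q = m - i := ⟨(m - q).toNat, by omega⟩
      rw [hneg]
      exact Module.length_ne_top_iff.2 (tor_fl M H hd i)
  have hout : ∀ q, q ∉ (Finset.range (d + 1)).image (fun i : ℕ => m - (i : ℤ)) → lenN A (K.homology q) = 0 := by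
    intro q hq
    by_cases hmq : m < q
    · rw [lenN, hpos q hmq]; rfl
    · obtain ⟨i, rfl⟩ : ∃ i : ℕ, q = m - i := ⟨(m - q).toNat, by omega⟩
      haveI := tor_vanish_gt hdim M H (show d < i by
        by_contra h
        exact hq (Finset.mem_image.2 ⟨i, Finset.mem_range.2 (by omega), rfl⟩))
      rw [lenN, hneg, Module.length_eq_zero]
      rfl
  refine ⟨⟨hfl, ((Finset.range (d + 1)).image fun i : ℕ => m - (i : ℤ)).finite_toSet.subset fun q hq => ?_⟩, ?_⟩
  · by_contra h
    exact hq (hout q h)
  rw [eul, finsum_eq_sum_of_support_subset _ (s := (Finset.range (d + 1)).image fun i : ℕ => m - (i : ℤ)) ?_,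
    Finset.sum_image (fun i _ j _ h => by simpa using h), chi_eq_sum hdim M H (d + 1) (Nat.lt_succ_self d), Finset.mul_sum]
  · refine Finset.sum_congr rfl fun i _ => ?_
    show sgn (m - i) * ((lenN A (K.homology (m - i)) : ℕ) : ℤ) = _
    rw [lenN, hneg, sgn_sub_nat]
    show _ = sgn m * ((-1) ^ i * ((Module.length A (DRing.Tor A i M H)).toNat : ℤ))
    ring
  · intro q hq
    by_contra h
    exact hq (show sgn q * _ = 0 by rw [hout q h]; simp)

/-- The Euler characteristic seen through the cohomology modules. -/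
noncomputable def phi (M : ModuleCat.{u} A) (K : (DRing.Cx A)) : ℤ := ∑ᶠ q : ℤ, sgn q * IntMult.chi A M (K.homology q)

theorem bdd_eul_T2 (M : ModuleCat.{u} A) [Module.Finite A M] :
    ∀ (k : ℕ) (a : ℤ) (K : (DRing.Cx A)), (∀ q, Module.Finite A (K.homology q)) →
      (∀ q, q < a ∨ a + k ≤ q → IsZero (K.homology q)) → (∀ q, SuppDisj A M (K.homology q)) →
      Bdd ((T2 (Pc M)).obj K) ∧ eul ((T2 (Pc M)).obj K) = phi M K := by
  intro k
  induction k with
  | zero =>
    intro a K _ hz _
    have hac : K.Acyclic := KFlat.acyclic_iff_isZero.2 fun q => hz q (by omega)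
    have h0 := KFlat.acyclic_iff_isZero.1 ((kflat_Pc M).acyclic_tens_left (tBraid A) hac)
    haveI := fun q => ModuleCat.subsingleton_of_isZero (h0 q)
    refine ⟨⟨fun q => IsFiniteLength.of_subsingleton, ?_⟩, ?_⟩
    · exact Set.Finite.subset (Set.finite_empty) fun q hq => hq (KChi.lenN_subsingleton (A := A))
    · rw [eul, phi, finsum_eq_zero_of_forall_eq_zero, finsum_eq_zero_of_forall_eq_zero]
      · intro q
        haveI := ModuleCat.subsingleton_of_isZero (hz q (by omega))
        rw [chi_zero_right, mul_zero]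
      · intro q
        rw [KChi.lenN_subsingleton (A := A)]; simp
  | succ k ih =>
    intro a K hfin hz hd
    let e := ComplexShape.embeddingUpIntLE a
    let S := HomologicalComplex.shortComplexTruncLE K e
    have hS : S.ShortExact := HomologicalComplex.shortComplexTruncLE_shortExact K e
    have hout : ∀ q, a < q → ∀ i, e.f i ≠ q := fun q hq i => by
      simp [e]; omega
    have hin : ∀ q, q ≤ a → ∃ i, e.f i = q := fun q hq => ⟨(a - q).toNat, by simp [e]; omega⟩
    -- the first piece
    have h1z : ∀ q, a < q → IsZero (S.X₁.homology q) := fun q hq =>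
      ((HomologicalComplex.truncLE K e).exactAt_of_isSupported e q (hout q hq)).isZero_homology
    have h1iso : ∀ q, q ≤ a → IsIso (homologyMap S.f q) := fun q hq => by
      obtain ⟨i, hi⟩ := hin q hq
      haveI := HomologicalComplex.quasiIsoAt_ιTruncLE K e hi
      exact inferInstanceAs (IsIso (homologyMap (HomologicalComplex.ιTruncLE K e) q))
    have h3z : ∀ q, q ≤ a → IsZero (S.X₃.homology q) := fun q hq => by
      haveI := h1iso q hq
      have h0 : homologyMap S.g q = 0 := by
        rw [← cancel_epi (homologyMap S.f q), ← homologyMap_comp, S.zero, homologyMap_zero, comp_zero]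
      haveI : Epi (homologyMap S.g q) := inferInstanceAs (Epi (homologyMap (HomologicalComplex.shortComplexTruncLE K e).g q))
      exact IsZero.of_epi_eq_zero _ h0
    let e3 : ∀ q, a < q → (K.homology q ≅ S.X₃.homology q) := fun q hq =>
      haveI := HomologicalComplex.isIso_homologyMap_shortComplexTruncLE_g K e q (hout q hq)
      asIso (homologyMap S.g q)
    let e1 : ∀ q, q ≤ a → (S.X₁.homology q ≅ K.homology q) := fun q hq =>
      haveI := h1iso q hq
      asIso (homologyMap S.f q)
    have hfin3 : ∀ q, Module.Finite A (S.X₃.homology q) := fun q => by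
      by_cases hq : a < q
      · haveI := hfin q; exact Module.Finite.equiv (e3 q hq).toLinearEquiv
      · haveI := ModuleCat.subsingleton_of_isZero (h3z q (by omega)); infer_instance
    have hd3 : ∀ q, SuppDisj A M (S.X₃.homology q) := fun q => by
      by_cases hq : a < q
      · exact (hd q).mono le_rfl (le_of_eq (e3 q hq).toLinearEquiv.annihilator_eq)
      · haveI := ModuleCat.subsingleton_of_isZero (h3z q (by omega))
        exact (hd q).mono le_rfl (le_of_le_of_eq le_top (Module.annihilator_eq_top_iff.2 inferInstance).symm)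
    obtain ⟨hB3, hE3⟩ := ih (a + 1) S.X₃ hfin3 (fun q hq => by
      by_cases h : a < q
      · exact IsZero.of_iso (hz q (by omega)) (e3 q h).symm
      · exact h3z q (by omega)) hd3
    -- the lowest piece is a single module
    haveI : CochainComplex.IsGE S.X₁ a := (CochainComplex.isGE_iff _ a).2 fun q hq => by
      rw [HomologicalComplex.exactAt_iff_isZero_homology]
      exact IsZero.of_iso (hz q (Or.inl hq)) (e1 q hq.le)
    haveI : CochainComplex.IsStrictlyLE S.X₁ a := inferInstanceAs ((HomologicalComplex.truncLE K e).IsStrictlySupported e)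
    obtain ⟨H, ⟨eH⟩⟩ := CochainComplex.exists_iso_single (CochainComplex.truncGE S.X₁ a) a
    let π : S.X₁ ⟶ (single (ModuleCat.{u} A) (ComplexShape.up ℤ) a).obj H := CochainComplex.πTruncGE S.X₁ a ≫ eH.hom
    haveI : QuasiIso π := inferInstance
    let eHa : H ≅ K.homology a :=
      (singleObjHomologySelfIso (ComplexShape.up ℤ) a H).symm ≪≫ (isoOfQuasiIsoAt π a).symm ≪≫ e1 a le_rfl
    haveI : Module.Finite A H := haveI := hfin a; Module.Finite.equiv eHa.toLinearEquiv.symm
    have hdH : SuppDisj A M H := (hd a).mono le_rfl (le_of_eq eHa.toLinearEquiv.annihilator_eq.symm)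
    obtain ⟨hBH, hEH⟩ := bdd_eul_single M H hdH a
    haveI := quasiIso_T2 M π
    have hB1 : Bdd ((T2 (Pc M)).obj S.X₁) :=
      { fl := fun q => Module.length_ne_top_iff.1 (by
          rw [(asIso (homologyMap ((T2 (Pc M)).map π) q)).toLinearEquiv.length_eq]
          exact Module.length_ne_top_iff.2 (hBH.fl q))
        fin := by
          have := hBH.fin
          simpa only [KChi.lenN_homology_congr ((T2 (Pc M)).map π)] using this }
    have hE1 : eul ((T2 (Pc M)).obj S.X₁) = sgn a * IntMult.chi A M (K.homology a) := by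
      rw [KChi.eul_congr ((T2 (Pc M)).map π), hEH, chi_congr eHa.toLinearEquiv]
    -- tensoring preserves exactness
    have hT : (S.map (T2 (Pc M))).ShortExact :=
      KFlat.shortExact_tens_obj (Pc M) S fun p q =>
        haveI := flat_Pc M p
        TorBalance.shortExact_tens _ (hS.map_of_exact (HomologicalComplex.eval (ModuleCat.{u} A) _ q))
    have hB2 : Bdd (S.map (T2 (Pc M))).X₂ :=
      { fl := fun q => KChi.isFiniteLength_of_exact _ _ (KChi.exact_mid hT q) (hB1.fl q) (hB3.fl q)
        fin := (hB1.fin.union hB3.fin).subset fun q hq => by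
          by_contra hc
          simp only [Set.mem_union, Function.mem_support, not_or, not_not] at hc
          refine hq ?_
          have h := KChi.length_mid_le hT q
          change Module.length A (((T2 (Pc M)).obj K).homology q) ≤
            Module.length A (((T2 (Pc M)).obj S.X₁).homology q) + Module.length A (((T2 (Pc M)).obj S.X₃).homology q) at h
          rw [← KChi.coe_lenN (hB1.fl q), ← KChi.coe_lenN (hB3.fl q), hc.1, hc.2] at h
          simp only [Nat.cast_zero, add_zero, nonpos_iff_eq_zero] at h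
          show (Module.length A (((T2 (Pc M)).obj K).homology q)).toNat = 0
          rw [h]; rfl }
    refine ⟨hB2, ?_⟩
    have hadd := KChi.eul_add hT hB1 hB2 hB3
    refine hadd.trans ?_
    change eul ((T2 (Pc M)).obj S.X₁) + eul ((T2 (Pc M)).obj S.X₃) = _
    rw [hE1, hE3, phi, phi]
    have hf : ∀ q, sgn q * IntMult.chi A M (K.homology q) =
        (if q = a then sgn a * IntMult.chi A M (K.homology a) else 0) + sgn q * IntMult.chi A M (S.X₃.homology q) := by
      intro q
      rcases lt_trichotomy q a with h | rfl | h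
      · haveI := ModuleCat.subsingleton_of_isZero (hz q (Or.inl h))
        haveI := ModuleCat.subsingleton_of_isZero (h3z q h.le)
        rw [chi_zero_right (M := M) (N := K.homology q), chi_zero_right (M := M) (N := S.X₃.homology q), if_neg h.ne]; simp
      · haveI := ModuleCat.subsingleton_of_isZero (h3z q le_rfl)
        rw [if_pos rfl, chi_zero_right (M := M) (N := S.X₃.homology q)]; simp
      · rw [if_neg h.ne', zero_add, chi_congr (e3 q h).toLinearEquiv]
    rw [finsum_congr hf, finsum_add_distrib, finsum_eq_single (fun q => if q = a then _ else (0 : ℤ)) a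
      (fun q hq => if_neg hq), if_pos rfl]
    · exact (Set.finite_singleton a).subset fun q hq => by
        by_contra h
        exact hq (if_neg h)
    · refine (Set.finite_Icc a (a + (k + 1))).subset fun q hq => ?_
      by_contra h
      refine hq ?_
      simp only [Set.mem_Icc, not_and_or, not_le] at h
      haveI : Subsingleton (S.X₃.homology q) := by
        by_cases ha : a < q
        · exact ModuleCat.subsingleton_of_isZero (IsZero.of_iso (hz q (by omega)) (e3 q ha).symm)
        · exact ModuleCat.subsingleton_of_isZero (h3z q (by omega))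
      show sgn q * _ = 0
      rw [chi_zero_right, mul_zero]

theorem phi_res (M N P : Type u) [AddCommGroup M] [Module A M] [AddCommGroup N] [Module A N] [Module.Finite A N]
    [AddCommGroup P] [Module A P] [Module.Finite A P] [Module.Finite A M]
    (hd : ∀ i, SuppDisj A M (DRing.Tor A i N P)) :
    Bdd ((T2 (Pc (ModuleCat.of A M))).obj
        ((T2 (Pc (ModuleCat.of A N))).obj ((single (ModuleCat.{u} A) (ComplexShape.up ℤ) 0).obj (ModuleCat.of A P)))) ∧
      eul ((T2 (Pc (ModuleCat.of A M))).obj
        ((T2 (Pc (ModuleCat.of A N))).obj ((single (ModuleCat.{u} A) (ComplexShape.up ℤ) 0).obj (ModuleCat.of A P)))) =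
        ∑ᶠ i : ℕ, (-1 : ℤ) ^ i * IntMult.chi A M (DRing.Tor A i N P) := by
  obtain ⟨d, hdim⟩ := SerreReg.exists_dim A
  set K := (T2 (Pc (ModuleCat.of A N))).obj ((single (ModuleCat.{u} A) (ComplexShape.up ℤ) 0).obj (ModuleCat.of A P))
  have hpos : ∀ q : ℤ, 0 < q → IsZero (K.homology q) :=
    fun q hq => (exists_tor_iso (ModuleCat.of A N) (ModuleCat.of A P) q).2 hq
  have hneg : ∀ i : ℕ, Nonempty (K.homology (-(i : ℤ)) ≅ ModuleCat.of A (DRing.Tor A i N P)) := fun i =>
    (exists_tor_iso (ModuleCat.of A N) (ModuleCat.of A P) (-(i : ℤ))).1 i rfl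
  have hsplit : ∀ q : ℤ, 0 < q ∨ ∃ i : ℕ, q = -(i : ℤ) := fun q => by
    by_cases h : 0 < q
    · exact Or.inl h
    · exact Or.inr ⟨(-q).toNat, by omega⟩
  have hfin : ∀ q, Module.Finite A (K.homology q) := fun q => by
    rcases hsplit q with h | ⟨i, rfl⟩
    · haveI := ModuleCat.subsingleton_of_isZero (hpos q h); infer_instance
    · obtain ⟨e⟩ := hneg i
      haveI : Module.Finite A (DRing.Tor A i N P) := Groth.Agent.S6315.result A N P i
      exact Module.Finite.equiv e.toLinearEquiv.symm
  have hdK : ∀ q, SuppDisj A M (K.homology q) := fun q => by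
    rcases hsplit q with h | ⟨i, rfl⟩
    · haveI := ModuleCat.subsingleton_of_isZero (hpos q h)
      exact (hd 0).mono le_rfl (le_of_le_of_eq le_top (Module.annihilator_eq_top_iff.2 inferInstance).symm)
    · obtain ⟨e⟩ := hneg i
      exact (hd i).mono le_rfl (le_of_eq e.toLinearEquiv.annihilator_eq.symm)
  have hz : ∀ q, q < -(d : ℤ) ∨ -(d : ℤ) + ((d + 1 : ℕ) : ℤ) ≤ q → IsZero (K.homology q) := fun q hq => by
    rcases hsplit q with h | ⟨i, rfl⟩
    · exact hpos q h
    · obtain ⟨e⟩ := hneg i
      haveI := tor_vanish_gt hdim N P (show d < i by omega)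
      exact (ModuleCat.isZero_of_subsingleton _).of_iso e
  obtain ⟨hB, hE⟩ := bdd_eul_T2 (ModuleCat.of A M) (d + 1) (-(d : ℤ)) K hfin hz hdK
  refine ⟨hB, hE.trans ?_⟩
  rw [phi, finsum_eq_sum_of_support_subset _ (s := (Finset.range (d + 1)).image fun i : ℕ => -(i : ℤ)) ?_,
    finsum_eq_sum_of_support_subset (fun i : ℕ => (-1 : ℤ) ^ i * IntMult.chi A M (DRing.Tor A i N P))
      (s := Finset.range (d + 1)) ?_, Finset.sum_image (fun i _ j _ h => by simpa using h)]
  · refine Finset.sum_congr rfl fun i _ => ?_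
    obtain ⟨e⟩ := hneg i
    show sgn (-(i : ℤ)) * IntMult.chi A M (K.homology (-(i : ℤ))) = _
    rw [← zero_sub ((i : ℤ)), sgn_sub_nat, KChi.sgn_zero, one_mul, zero_sub, chi_congr e.toLinearEquiv]
  · intro i hi
    rw [Finset.coe_range, Set.mem_Iio]
    by_contra h
    haveI := tor_vanish_gt hdim N P (show d < i by omega)
    exact hi (show (-1 : ℤ) ^ i * _ = 0 by rw [chi_zero_right, mul_zero])
  · intro q hq
    by_contra h
    refine hq ?_
    have : IsZero (K.homology q) := by
      rcases hsplit q with h' | ⟨i, rfl⟩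
      · exact hpos q h'
      · exact hz _ (Or.inl (by
          by_contra h'
          exact h (Finset.mem_coe.2 (Finset.mem_image.2 ⟨i, Finset.mem_range.2 (by omega), rfl⟩))))
    haveI := ModuleCat.subsingleton_of_isZero this
    show sgn q * IntMult.chi A M (K.homology q) = 0
    rw [chi_zero_right, mul_zero]

/-- The associativity formula: both sides are the Euler characteristic of the triple derived tensor product. -/
theorem sum_chi_tor_eq (M N P : Type u) [AddCommGroup M] [Module A M] [Module.Finite A M] [AddCommGroup N]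
    [Module A N] [Module.Finite A N] [AddCommGroup P] [Module A P] [Module.Finite A P]
    (h₁ : ∀ i, SuppDisj A M (DRing.Tor A i N P)) (h₂ : ∀ i, SuppDisj A P (DRing.Tor A i M N)) :
    ∑ᶠ i : ℕ, (-1 : ℤ) ^ i * IntMult.chi A M (DRing.Tor A i N P) =
      ∑ᶠ i : ℕ, (-1 : ℤ) ^ i * IntMult.chi A P (DRing.Tor A i M N) := by
  rw [← (phi_res M N P h₁).2, ← (phi_res P M N h₂).2]
  let PM := Pc (ModuleCat.of A M)
  let PN := Pc (ModuleCat.of A N)
  let PP := Pc (ModuleCat.of A P)
  haveI : QuasiIso ((T2 PN).map (DRingKP.resToSingle (projectiveResolution (ModuleCat.of A P)))) := quasiIso_T2 _ _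
  haveI h1 : QuasiIso ((T2 PM).map ((T2 PN).map (DRingKP.resToSingle (projectiveResolution (ModuleCat.of A P))))) :=
    quasiIso_T2 _ _
  haveI : QuasiIso ((T2 PM).map (DRingKP.resToSingle (projectiveResolution (ModuleCat.of A N)))) := quasiIso_T2 _ _
  haveI h2 : QuasiIso ((T2 PP).map ((T2 PM).map (DRingKP.resToSingle (projectiveResolution (ModuleCat.of A N))))) :=
    quasiIso_T2 _ _
  let e : (T2 PM).obj ((T2 PN).obj PP) ≅ (T2 PP).obj ((T2 PM).obj PN) :=
    (MonoidalCategory.associator (C := DRing.Cx A) PM PN PP).symm ≪≫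
      KFlat.swapIso (tBraid A) ((T2 PM).obj PN) PP
  rw [← KChi.eul_congr ((T2 PM).map ((T2 PN).map (DRingKP.resToSingle (projectiveResolution (ModuleCat.of A P))))),
    ← KChi.eul_congr ((T2 PP).map ((T2 PM).map (DRingKP.resToSingle (projectiveResolution (ModuleCat.of A N)))))]
  exact KChi.eul_congr e.hom

end Groth.Agent.BivarOps
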