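import Groth.Agent.BivarOps.ChiAdd
import Groth.Agent.SopLen.Basic
import Groth.Agent.LenSum2.Basic

/-!
Dévissage of additive functions by primes.
-/

set_option autoImplicit false
set_option linter.style.haveILetI false

universe u

open IsLocalRing
open Groth.Agent.LenSum2 (lenAt lenAt_add' lenAt_congr' lenAt_self lenAt_of_not_le)

namespace Groth.Agent.BivarOps

variable {A : Type u} [CommRing A] [IsNoetherianRing A]

open Classical in
/-- An additive function on modules supported in `Z` is computed at the minimal primes `S` of `Z`, if it vanishes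
on `A/P` for the other primes of `Z`. -/
theorem devissage (φ : ∀ (M : Type u) [AddCommGroup M] [Module A M], ℤ) (Z : Set (PrimeSpectrum A))
    (S : Finset (PrimeSpectrum A))
    (hadd : ∀ (L M N : Type u) [AddCommGroup L] [Module A L] [AddCommGroup M] [Module A M] [AddCommGroup N]
      [Module A N] [Module.Finite A M] (f : L →ₗ[A] M) (g : M →ₗ[A] N), Function.Injective f →
      Function.Surjective g → Function.Exact f g → Module.support A M ⊆ Z → φ M = φ L + φ N)
    (hzero : ∀ P ∈ Z, P ∉ S → φ (A ⧸ P.asIdeal) = 0)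
    (hmin : ∀ P ∈ S, ∀ Q ∈ Z, Q ≤ P → Q = P)
    (M : Type u) [AddCommGroup M] [Module A M] [Module.Finite A M] (hM : Module.support A M ⊆ Z) :
    φ M = ∑ P ∈ S, ((lenAt P M).toNat : ℤ) * φ (A ⧸ P.asIdeal) := by
  suffices H : Module.support A M ⊆ Z → (∀ P ∈ S, lenAt P M ≠ ⊤) ∧
      φ M = ∑ P ∈ S, ((lenAt P M).toNat : ℤ) * φ (A ⧸ P.asIdeal) from (H hM).2
  clear hM
  refine IsNoetherianRing.induction_on_isQuotientEquivQuotientPrime (M := M)
    (motive := fun N _ _ _ => Module.support A N ⊆ Z → (∀ P ∈ S, lenAt P N ≠ ⊤) ∧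
      φ N = ∑ P ∈ S, ((lenAt P N).toNat : ℤ) * φ (A ⧸ P.asIdeal)) A inferInstance ?_ ?_ ?_
  · intro N _ _ _ _ hN
    have h0 : ∀ P : PrimeSpectrum A, lenAt P N = 0 := fun P =>
      (SopLen.lenAt_eq_zero_iff P N).2 fun m => ⟨1, P.asIdeal.one_notMem, Subsingleton.elim _ _⟩
    refine ⟨fun P _ => by rw [h0]; exact ENat.zero_ne_top, ?_⟩
    have h := hadd N N N (LinearMap.id) (0 : N →ₗ[A] N) (fun a b h => h) (Function.surjective_to_subsingleton _)
      (fun x => ⟨fun _ => ⟨x, rfl⟩, fun _ => rfl⟩) hN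
    simp only [h0, ENat.toNat_zero, Nat.cast_zero, zero_mul, Finset.sum_const_zero]
    omega
  · intro N _ _ _ q e hN
    have hqZ : q ∈ Z := hN (by
      rw [e.support_eq, Module.mem_support_iff_of_finite, Ideal.annihilator_quotient])
    have hφ : φ N = φ (A ⧸ q.asIdeal) := by
      have h := hadd N (A ⧸ q.asIdeal) PUnit.{u + 1} e.toLinearMap 0 e.injective
        (Function.surjective_to_subsingleton _) ((e.exact_zero_iff_surjective _).2 e.surjective)
        (e.support_eq ▸ hN)
      have h' := hadd PUnit.{u + 1} PUnit.{u + 1} PUnit.{u + 1} LinearMap.id 0 (fun a b h => h)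
        (Function.surjective_to_subsingleton _) (fun x => ⟨fun _ => ⟨x, rfl⟩, fun _ => rfl⟩)
        (by rw [Module.support_eq_empty]; exact Set.empty_subset _)
      omega
    have hlen : ∀ P ∈ S, lenAt P N = if P = q then 1 else 0 := fun P hP => by
      rw [lenAt_congr' P e]
      split
      · next h => subst h; exact lenAt_self P
      · next h => exact lenAt_of_not_le fun hle => h (hmin P hP q hqZ hle).symm
    refine ⟨fun P hP => by rw [hlen P hP]; split <;> simp, ?_⟩
    rw [hφ, Finset.sum_congr rfl fun P hP => show ((lenAt P N).toNat : ℤ) * φ (A ⧸ P.asIdeal) =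
      if P = q then φ (A ⧸ P.asIdeal) else 0 by rw [hlen P hP]; split <;> simp, Finset.sum_ite_eq']
    split
    · rfl
    · next h => exact hzero q hqZ h
  · intro N₁ _ _ _ N₂ _ _ _ N₃ _ _ _ f g hf hg hfg h₁ h₃ hN
    have hs := Module.support_of_exact hfg hf hg
    obtain ⟨a1, b1⟩ := h₁ (fun P hP => hN (hs ▸ Or.inl hP))
    obtain ⟨a3, b3⟩ := h₃ (fun P hP => hN (hs ▸ Or.inr hP))
    have hl : ∀ P, lenAt P N₂ = lenAt P N₁ + lenAt P N₃ := fun P => lenAt_add' P f g hf hg hfg
    refine ⟨fun P hP => by rw [hl]; exact WithTop.add_ne_top.2 ⟨a1 P hP, a3 P hP⟩, ?_⟩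
    rw [hadd N₁ N₂ N₃ f g hf hg hfg hN, b1, b3, ← Finset.sum_add_distrib]
    refine Finset.sum_congr rfl fun P hP => ?_
    rw [hl, ENat.toNat_add (a1 P hP) (a3 P hP), Nat.cast_add, add_mul]

end Groth.Agent.BivarOps
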