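import Groth.Agent.BivarOps.ChiAdd
import Groth.Agent.DiagTor.Localize
import Groth.Agent.KFlat.Pullback
import Mathlib.RingTheory.Length

/-!
The alternating sum of Tor lengths along a flat map of local rings.
-/

set_option autoImplicit false
set_option linter.style.haveILetI false
set_option backward.isDefEq.respectTransparency false

universe u

open CategoryTheory AlgebraicGeometry TensorProduct IsLocalRing

namespace Groth.Agent.BivarOps

theorem chi_baseChange (A B : Type u) [CommRing A] [CommRing B] [IsLocalRing A] [IsLocalRing B] [Algebra A B]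
    [IsLocalHom (algebraMap A B)] [Module.Flat A B] (M N : Type u) [AddCommGroup M] [Module A M] [AddCommGroup N]
    [Module A N] :
    IntMult.chi B (B ⊗[A] M) (B ⊗[A] N) = IntMult.chi A M N *
      ((Module.length B (B ⧸ (maximalIdeal A).map (algebraMap A B))).toNat : ℤ) := by
  rw [IntMult.chi, IntMult.chi, finsum_mul]
  refine finsum_congr fun i => ?_
  obtain ⟨e⟩ := Groth.Agent.S2428.result A B M N i
  rw [← e.length_eq, IsLocalRing.length_baseChange A B, ENat.toNat_mul, Nat.cast_mul, mul_assoc]

theorem chi_subsingleton_left {A : Type u} [CommRing A] (M N : Type u) [AddCommGroup M] [Module A M]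
    [AddCommGroup N] [Module A N] [Subsingleton M] : IntMult.chi A M N = 0 := by
  refine finsum_eq_zero_of_forall_eq_zero fun i => ?_
  haveI : Subsingleton (DRing.Tor A i M N) := by
    refine ⟨fun x y => ?_⟩
    have h := smul_tor_left (1 : A) (ModuleCat.of A M) (ModuleCat.of A N) (fun z => Subsingleton.elim _ _) i
    have hx : x = 0 := (one_smul A x).symm.trans congr($h x)
    have hy : y = 0 := (one_smul A y).symm.trans congr($h y)
    rw [hx, hy]
  rw [Module.length_eq_zero, ENat.toNat_zero, Nat.cast_zero, mul_zero]

theorem chi_subsingleton_right {A : Type u} [CommRing A] (M N : Type u) [AddCommGroup M] [Module A M]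
    [AddCommGroup N] [Module A N] [Subsingleton N] : IntMult.chi A M N = 0 := by
  rw [chi_flip]; exact chi_subsingleton_left N M

end Groth.Agent.BivarOps
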