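import Groth.Agent.BivarOps.Basic
import Groth.Agent.CycK0.GysSec
import Groth.Agent.CycPB.Degree

/-!
The Gysin map does not depend on the section cutting out the subscheme, nor on the fallback.
-/

set_option autoImplicit false
set_option linter.unusedSectionVars false
set_option linter.style.haveILetI false
set_option backward.isDefEq.respectTransparency false
set_option backward.isDefEq.respectTransparency.types false
set_option maxHeartbeats 400000

universe u

open CategoryTheory CategoryTheory.Limits AlgebraicGeometry TopologicalSpace Opposite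
open Groth.Agent.WeakAssLib (mgerm)
open Groth.Agent.RefStalk (msp msp_smul msp_germ)
open Groth.Agent.CycDim (spz)
open Groth.Agent.CycPB (Cy RZ pushF)

noncomputable section

namespace Groth.Agent.BivarOps

variable {X D : Scheme.{u}} [IsLocallyNoetherian X] {L : X.Modules} {i : D ⟶ X} [IsClosedImmersion i]

theorem secDivFun_indep (hL : PicF.IsInvertible L) {s s' : Γ(L, (⊤ : X.Opens))} (hD : Cyc.IsZeroSchemeOf i L s)
    (hD' : Cyc.IsZeroSchemeOf i L s') (w w' : (ξ : X) → Cyc.secFibre L ξ) (δ : X → ℤ) (ξ : X)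
    (hξ : ξ ∉ Set.range i) (d : D) :
    Cyc.secDivFun δ L ξ (Cyc.gysinChoice L s' w' ξ) (i d) = Cyc.secDivFun δ L ξ (Cyc.gysinChoice L s w ξ) (i d) := by
  unfold Cyc.secDivFun
  split
  swap
  · rfl
  rename_i h
  obtain ⟨hξd, -⟩ := h
  obtain ⟨A, e, hxA, he, c, hc⟩ := CycK0.exists_coefficient hL s (i d)
  obtain ⟨c', hc'⟩ := (RefDiv.bijective_germ_of_isGen he hxA).2
    (mgerm L (show i d ∈ (⊤ : X.Opens) from trivial) s')
  replace hc' : mgerm L (show i d ∈ (⊤ : X.Opens) from trivial) s' = c' • mgerm L hxA e := hc'.symm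
  have hspan : Ideal.span {c'} = Ideal.span {c} := by
    rw [← CycK0.ker_eq_span hD' d he hxA hc', ← CycK0.ker_eq_span hD d he hxA hc]
  obtain ⟨u, hu, hcu⟩ : ∃ u, IsUnit u ∧ c' = c * u := by
    obtain ⟨a, ha⟩ := Ideal.mem_span_singleton'.1 (hspan ▸ Ideal.mem_span_singleton_self c' : c' ∈ Ideal.span {c})
    obtain ⟨b, hb⟩ := Ideal.mem_span_singleton'.1 (hspan.symm ▸ Ideal.mem_span_singleton_self c : c ∈ Ideal.span {c'})
    by_cases hu : IsUnit a
    · exact ⟨a, hu, by rw [mul_comm, ha]⟩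
    · have h1 : IsUnit (1 - b * a) := (IsLocalRing.isUnit_or_isUnit_of_add_one
        (sub_add_cancel 1 (b * a))).resolve_right fun h => hu (isUnit_of_mul_isUnit_right h)
      have h2 : (1 - b * a) * c = 0 := by
        rw [sub_mul, one_mul, mul_assoc, ha, hb, sub_self]
      have h3 : c = 0 := h1.mul_right_eq_zero.1 h2
      exact ⟨1, isUnit_one, by rw [← ha, h3, mul_zero, zero_mul]⟩
  have hξA : ξ ∈ A := hξd.mem_open A.2 hxA
  have hsξ : mgerm L (show ξ ∈ (⊤ : X.Opens) from trivial) s = spz hξd c • mgerm L hξA e := by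
    have h1 := congrArg (msp L hξd) hc
    rw [msp_smul, msp_germ L hξd hxA e] at h1
    exact (msp_germ L _ (show i d ∈ (⊤ : X.Opens) from trivial) s).symm.trans h1
  have hsξ' : mgerm L (show ξ ∈ (⊤ : X.Opens) from trivial) s' = spz hξd c' • mgerm L hξA e := by
    have h1 := congrArg (msp L hξd) hc'
    rw [msp_smul, msp_germ L hξd hxA e] at h1
    exact (msp_germ L _ (show i d ∈ (⊤ : X.Opens) from trivial) s').symm.trans h1
  have h1 : Cyc.gysinChoice L s w ξ = spz hξd c • (Submodule.Quotient.mk (mgerm L hξA e) : Cyc.secFibre L ξ) := by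
    rw [← Submodule.Quotient.mk_smul, ← hsξ]
    unfold Cyc.gysinChoice
    exact if_pos fun h => hξ (by rw [hD.1]; exact h)
  have h2 : Cyc.gysinChoice L s' w' ξ = spz hξd c' • (Submodule.Quotient.mk (mgerm L hξA e) : Cyc.secFibre L ξ) := by
    rw [← Submodule.Quotient.mk_smul, ← hsξ']
    unfold Cyc.gysinChoice
    exact if_pos fun h => hξ (by rw [hD'.1]; exact h)
  refine (C1Cap.secOrdAt_eq he hξd hxA h2).trans (Eq.trans ?_ (C1Cap.secOrdAt_eq he hξd hxA h1).symm)
  subst hcu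
  refine Eq.trans (congrArg (fun z => Cyc.ordAt (i d) ξ hξd z) ((congrArg (C1Cap.rdu ξ) ((spz hξd).map_mul c u)).trans ((C1Cap.rdu ξ).map_mul _ _))) ?_
  exact C1Cap.ordAt_mul_unit hξd _ hu

theorem secDivFun_moduleIso (hL : PicF.IsInvertible L) {L' : X.Modules} (φ : L ≅ L') {s : Γ(L, (⊤ : X.Opens))}
    (hD : Cyc.IsZeroSchemeOf i L s) (w : (ξ : X) → Cyc.secFibre L ξ) (w' : (ξ : X) → Cyc.secFibre L' ξ) (δ : X → ℤ)
    (ξ : X) (hξ : ξ ∉ Set.range i) (d : D) :
    Cyc.secDivFun δ L' ξ (Cyc.gysinChoice L' (φ.hom.app ⊤ s) w' ξ) (i d) =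
      Cyc.secDivFun δ L ξ (Cyc.gysinChoice L s w ξ) (i d) := by
  unfold Cyc.secDivFun
  split
  swap
  · rfl
  rename_i h
  obtain ⟨hξd, -⟩ := h
  have hD' := CycPB.isZeroSchemeOf_moduleIso φ hD
  obtain ⟨A, e, hxA, he, c, hc⟩ := CycK0.exists_coefficient hL s (i d)
  have he' : TMul.IsGen (φ.hom.app A e) := MeroLib.IsGen.map_iso φ.hom he
  have hc' : mgerm L' (show i d ∈ (⊤ : X.Opens) from trivial) (φ.hom.app ⊤ s) = c • mgerm L' hxA (φ.hom.app A e) := by
    exact (KFlat.pstMap_germ (DCoh.toP.map φ.hom) (i d) (show i d ∈ (⊤ : X.Opens) from trivial) s).symm.trans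
      ((congrArg _ hc).trans ((map_smul _ c _).trans
        (congrArg (c • ·) (KFlat.pstMap_germ (DCoh.toP.map φ.hom) (i d) hxA e))))
  have hξA : ξ ∈ A := hξd.mem_open A.2 hxA
  have hsξ : mgerm L (show ξ ∈ (⊤ : X.Opens) from trivial) s = spz hξd c • mgerm L hξA e := by
    have h1 := congrArg (msp L hξd) hc
    rw [msp_smul, msp_germ L hξd hxA e] at h1
    exact (msp_germ L _ (show i d ∈ (⊤ : X.Opens) from trivial) s).symm.trans h1
  have hsξ' : mgerm L' (show ξ ∈ (⊤ : X.Opens) from trivial) (φ.hom.app ⊤ s) =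
      spz hξd c • mgerm L' hξA (φ.hom.app A e) := by
    have h1 := congrArg (msp L' hξd) hc'
    rw [msp_smul, msp_germ L' hξd hxA (φ.hom.app A e)] at h1
    exact (msp_germ L' _ (show i d ∈ (⊤ : X.Opens) from trivial) (φ.hom.app ⊤ s)).symm.trans h1
  have h1 : Cyc.gysinChoice L s w ξ = spz hξd c • (Submodule.Quotient.mk (mgerm L hξA e) : Cyc.secFibre L ξ) := by
    rw [← Submodule.Quotient.mk_smul, ← hsξ]
    unfold Cyc.gysinChoice
    exact if_pos fun h => hξ (by rw [hD.1]; exact h)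
  have h2 : Cyc.gysinChoice L' (φ.hom.app ⊤ s) w' ξ =
      spz hξd c • (Submodule.Quotient.mk (mgerm L' hξA (φ.hom.app A e)) : Cyc.secFibre L' ξ) := by
    rw [← Submodule.Quotient.mk_smul, ← hsξ']
    unfold Cyc.gysinChoice
    exact if_pos fun h => hξ (by rw [hD'.1]; exact h)
  exact (C1Cap.secOrdAt_eq he' hξd hxA h2).trans (C1Cap.secOrdAt_eq he hξd hxA h1).symm

/-- the Gysin coefficient functions of two sections with the same zero scheme agree up to rational equivalence -/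
theorem gysin_indep {δ : X → ℤ} (hX : Cyc.IsSetup X δ) (hL : PicF.IsInvertible L) {L' : X.Modules}
    (hL' : PicF.IsInvertible L') (φ : L ≅ L') {s : Γ(L, (⊤ : X.Opens))} {s' : Γ(L', (⊤ : X.Opens))}
    (hD : Cyc.IsZeroSchemeOf i L s) (hD' : Cyc.IsZeroSchemeOf i L' s') {w : (ξ : X) → Cyc.secFibre L ξ}
    {w' : (ξ : X) → Cyc.secFibre L' ξ} (hw : ∀ ξ, w ξ ≠ 0) (hw' : ∀ ξ, w' ξ ≠ 0) {k : ℤ} {a : X → ℤ}
    (ha : Cy δ (k + 1) a) :
    RZ (fun d => δ (i d)) k fun d => Cyc.c1CapFun δ L' a (Cyc.gysinChoice L' s' w') (i d) -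
      Cyc.c1CapFun δ L a (Cyc.gysinChoice L s w) (i d) := by
  have hv := CycK0.gysinChoice_ne_zero (L := L) (s := s) hw
  have hv' := CycK0.gysinChoice_ne_zero (L := L') (s := s') hw'
  choose v₂ hv₂ hdiv using fun ξ => CycPB.exists_secMap (δ := δ) hL φ ξ (Cyc.gysinChoice L s w ξ) (hv ξ)
  have e1 : Cyc.c1CapFun δ L a (Cyc.gysinChoice L s w) = Cyc.c1CapFun δ L' a v₂ :=
    funext fun x => finsum_congr fun ξ => congrArg _ (hdiv ξ x).symm
  obtain ⟨C, hC, hCk⟩ := ha.cap hX hL' hv₂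
  obtain ⟨C', hC', hC'k⟩ := ha.cap hX hL' hv'
  obtain ⟨γ, hγ⟩ := CycK0.exists_comap (i := i) C
  obtain ⟨γ', hγ'⟩ := CycK0.exists_comap (i := i) C'
  obtain ⟨A, rfl, hA⟩ := ha
  refine (CycPB.RZ.of_ratEquiv (δ := fun d => δ (i d)) (A := γ') (B := γ)
    (fun z hz => by rw [hγ']; exact hC'k _ hz) (fun z hz => by rw [hγ]; exact hCk _ hz)
    (CycK0.gysin_sections i hX.2.2 hL' A hA _ _ hv' hv₂ (fun ξ hξ d =>
      ((secDivFun_indep hL' (CycPB.isZeroSchemeOf_moduleIso φ hD) hD' w' w' δ ξ hξ d).trans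
        (secDivFun_moduleIso hL φ hD w w' δ ξ hξ d)).trans (hdiv ξ (i d)).symm) γ' γ
      (fun d => by rw [hγ', hC']) (fun d => by rw [hγ, hC]))).eq (funext fun d => ?_)
  rw [hγ', hγ, hC, hC', e1]

end Groth.Agent.BivarOps
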