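import Groth.Agent.BivarOps.Squares
import Groth.Agent.BivarOps.ProperPush
import Groth.Agent.BivarOps.Indep
import Groth.Agent.CycK0.GysRat
import Groth.Prelude.Def_W4stkchowbivarWeakCl

/-!
The relation on coefficient functions given by a rule which is compatible with push forward, pull back and the Gysin
maps of trivialised normal bundles.
-/

set_option autoImplicit false
set_option linter.unusedSectionVars false
set_option linter.style.haveILetI false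
set_option linter.unusedVariables false
set_option backward.isDefEq.respectTransparency false
set_option backward.isDefEq.respectTransparency.types false
set_option maxHeartbeats 800000

universe u

open CategoryTheory CategoryTheory.Limits AlgebraicGeometry Opposite
open Groth.Agent.CycPB (Cy RZ pushF)

noncomputable section

namespace Groth.Agent.BivarOps

variable {X Y : Scheme.{u}} {f : X ⟶ Y} {δX : X → ℤ} {δY : Y → ℤ} {p : ℤ}

/-- the map on `X`-sides induced by a map on `Y`-sides -/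
def morX (q t : Bivar.Sq f δX δY) (h : t.Y' ⟶ q.Y') (w : h ≫ q.g = t.g) : t.X' ⟶ q.X' :=
  q.isPullback.lift (t.f' ≫ h) t.g' (by rw [Category.assoc, w, t.isPullback.w])

variable {q t : Bivar.Sq f δX δY} {h : t.Y' ⟶ q.Y'} {w : h ≫ q.g = t.g}

theorem morX_f' : morX q t h w ≫ q.f' = t.f' ≫ h := q.isPullback.lift_fst _ _ _

theorem morX_g' : morX q t h w ≫ q.g' = t.g' := q.isPullback.lift_snd _ _ _

theorem morX_isPullback : IsPullback t.f' (morX q t h w) h q.f' := isPullback_mor w morX_f' morX_g'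

theorem morX_closed [IsClosedImmersion h] : IsClosedImmersion (morX q t h w) :=
  MorphismProperty.of_isPullback (morX_isPullback (q := q) (t := t) (h := h) (w := w)) ‹_›

theorem morX_flat [Flat h] : Flat (morX q t h w) :=
  MorphismProperty.of_isPullback (morX_isPullback (q := q) (t := t) (h := h) (w := w)) ‹_›

theorem morX_unique {m : t.X' ⟶ q.X'} (h1 : m ≫ q.f' = t.f' ≫ h) (h2 : m ≫ q.g' = t.g') : m = morX q t h w :=
  q.isPullback.hom_ext (by rw [h1, morX_f']) (by rw [h2, morX_g'])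

theorem morX_comp {r : Bivar.Sq f δX δY} {h' : r.Y' ⟶ t.Y'} {w' : h' ≫ t.g = r.g} {h'' : r.Y' ⟶ q.Y'}
    {w'' : h'' ≫ q.g = r.g} (e : h' ≫ h = h'') :
    morX t r h' w' ≫ morX q t h w = morX q r h'' w'' := by
  refine morX_unique ?_ ?_
  · rw [Category.assoc, morX_f', ← Category.assoc, morX_f', Category.assoc, e]
  · rw [Category.assoc, morX_g', morX_g']

theorem morX_id {q : Bivar.Sq f δX δY} {h : q.Y' ⟶ q.Y'} {w : h ≫ q.g = q.g} (e : h = 𝟙 q.Y') :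
    morX q q h w = 𝟙 q.X' := by
  subst e
  exact (morX_unique (Category.id_comp _ |>.trans (Category.comp_id _).symm) (Category.id_comp _)).symm

/-- the square on a scheme over the base -/
def sqOfY (hX : Cyc.IsSetup X δX) (hY : Cyc.IsSetup Y δY) {T : Scheme.{u}} (g : T ⟶ Y) [LocallyOfFiniteType g] :
    Bivar.Sq f δX δY :=
  ⟨T, pullback g f, g, pullback.fst g f, pullback.snd g f, IsPullback.of_hasPullback g f, ‹_›,
    (CycPB.exists_isSetup hY g).choose,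
    (haveI : LocallyOfFiniteType (pullback.snd g f) := inferInstance; (CycPB.exists_isSetup hX (pullback.snd g f)).choose),
    (CycPB.exists_isSetup hY g).choose_spec.2,
    (haveI : LocallyOfFiniteType (pullback.snd g f) := inferInstance;
      (CycPB.exists_isSetup hX (pullback.snd g f)).choose_spec.2)⟩

/-- the Gysin map descends -/
theorem gys_rz {T D : Scheme.{u}} {δ : T → ℤ} (hT : Cyc.IsSetup T δ) (i : D ⟶ T) [IsClosedImmersion i] {L : T.Modules}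
    (hL : PicF.IsInvertible L) {s : Γ(L, (⊤ : T.Opens))} (hD : Cyc.IsZeroSchemeOf i L s) {k : ℤ} {a : T → ℤ}
    (ha : RZ δ (k + 1) a) (w : (ξ : T) → Cyc.secFibre L ξ) (hw : ∀ ξ, w ξ ≠ 0) :
    RZ (fun d => δ (i d)) k fun d => Cyc.c1CapFun δ L a (Cyc.gysinChoice L s w) (i d) := by
  haveI := hT.1
  obtain ⟨C, hC, hCk⟩ := ha.cy.cap hT hL (v := Cyc.gysinChoice L s w) (CycK0.gysinChoice_ne_zero hw)
  obtain ⟨γ, hγ⟩ := CycK0.exists_comap (i := i) C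
  obtain ⟨A, rfl, hA, hA0⟩ := ha
  exact ⟨γ, funext fun d => by rw [hγ, hC], fun d hd => by rw [hγ]; exact hCk _ hd,
    CycK0.gysin_ratEquivZero hT hL hD hA0 w hw γ fun d => by rw [hγ, hC]⟩

theorem gys_cy {T D : Scheme.{u}} {δ : T → ℤ} (hT : Cyc.IsSetup T δ) (i : D ⟶ T) [IsClosedImmersion i] {L : T.Modules}
    (hL : PicF.IsInvertible L) {v : (ξ : T) → Cyc.secFibre L ξ} (hv : ∀ ξ, v ξ ≠ 0) {k : ℤ} {a : T → ℤ}
    (ha : Cy δ (k + 1) a) : Cy (fun d => δ (i d)) k fun d => Cyc.c1CapFun δ L a v (i d) := by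
  haveI := hT.1
  obtain ⟨C, hC, hCk⟩ := ha.cap hT hL hv
  obtain ⟨γ, hγ⟩ := CycK0.exists_comap (i := i) C
  exact ⟨γ, funext fun d => by rw [hγ, hC], fun d hd => by rw [hγ]; exact hCk _ hd⟩

variable (c : Bivar.WeakCl p f δX δY)

/-- `c ∩ [a] = [b]` -/
def Rel (q : Bivar.Sq f δX δY) (k : ℤ) (a : q.Y' → ℤ) (b : q.X' → ℤ) : Prop :=
  ∃ (A : AlgebraicCycle q.Y' ℤ) (hA : A ∈ Cyc.Zk q.Y' q.δY' k) (B : AlgebraicCycle q.X' ℤ)
    (hB : B ∈ Cyc.Zk q.X' q.δX' (k - p)), ⇑A = a ∧ ⇑B = b ∧ c.op q k (ChowOps.cl A hA) = ChowOps.cl B hB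

variable {c}

namespace Rel

variable {k : ℤ} {a a' : q.Y' → ℤ} {b b' : q.X' → ℤ}

theorem cyA (h : Rel c q k a b) : Cy q.δY' k a := let ⟨A, hA, _, _, e, _, _⟩ := h; ⟨A, e, hA⟩
theorem cyB (h : Rel c q k a b) : Cy q.δX' (k - p) b := let ⟨_, _, B, hB, _, e, _⟩ := h; ⟨B, e, hB⟩

theorem exists_rel (ha : Cy q.δY' k a) : ∃ b, Rel c q k a b := by
  obtain ⟨A, rfl, hA⟩ := ha
  obtain ⟨B, hB, e⟩ := Bivar.exists_rep (c.op q k (ChowOps.cl A hA))
  exact ⟨⇑B, A, hA, B, hB, rfl, rfl, e.symm⟩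

theorem congr (h : Rel c q k a b) (ha' : Cy q.δY' k a') (hb' : Cy q.δX' (k - p) b')
    (ha : RZ q.δY' k fun x => a x - a' x) (hb : RZ q.δX' (k - p) fun x => b x - b' x) : Rel c q k a' b' := by
  obtain ⟨A, hA, B, hB, rfl, rfl, e⟩ := h
  obtain ⟨A', rfl, hA'⟩ := ha'
  obtain ⟨B', rfl, hB'⟩ := hb'
  exact ⟨A', hA', B', hB', rfl, rfl, by rw [← cl_eq hA hA' ha, e, cl_eq hB hB' hb]⟩

theorem unique (h : Rel c q k a b) (h' : Rel c q k a b') : RZ q.δX' (k - p) fun x => b x - b' x := by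
  obtain ⟨A, hA, B, hB, rfl, rfl, e⟩ := h
  obtain ⟨A', hA', B', hB', eA, rfl, e'⟩ := h'
  have : A' = A := DFunLike.ext' eA
  subst this
  exact rz_of_cl_eq hB' hB (e'.symm.trans e)

theorem add (h : Rel c q k a b) (h' : Rel c q k a' b') : Rel c q k (fun x => a x + a' x) fun x => b x + b' x := by
  obtain ⟨A, hA, B, hB, rfl, rfl, e⟩ := h
  obtain ⟨A', hA', B', hB', rfl, rfl, e'⟩ := h'
  exact ⟨A + A', (ChowOps.zk _ _ k).add_mem hA hA', B + B', (ChowOps.zk _ _ _).add_mem hB hB', rfl, rfl, by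
    rw [Bivar.cl_add A A' hA hA', map_add, e, e', ← Bivar.cl_add B B' hB hB']⟩

theorem push (hX : Cyc.IsSetup X δX) (hY : Cyc.IsSetup Y δY) (q : Bivar.Sq f δX δY) {t : Bivar.Sq f δX δY}
    (h : t.Y' ⟶ q.Y') [IsProper h] (h' : t.X' ⟶ q.X') [IsProper h'] (w₁ : h ≫ q.g = t.g)
    (w₂ : h' ≫ q.f' = t.f' ≫ h) (w₃ : h' ≫ q.g' = t.g') {k : ℤ} {a : t.Y' → ℤ} {b : t.X' → ℤ}
    (hr : Rel c t k a b) : Rel c q k (pushF h t.δY' q.δY' a) (pushF h' t.δX' q.δX' b) := by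
  obtain ⟨A, hA, B, hB, rfl, rfl, e⟩ := hr
  obtain ⟨B₀, hB₀, e0, e1⟩ := c.push q t h h' w₁ w₂ w₃ k A hA
  haveI := (isSetup_sqX hX q).1
  refine Rel.congr (q := q) ⟨_, Bivar.cycMap_mem_Zk h t.δY' q.δY' k hA, _, Bivar.cycMap_mem_Zk h' t.δX' q.δX' _ hB₀,
    rfl, rfl, e1⟩ ⟨_, rfl, Bivar.cycMap_mem_Zk h t.δY' q.δY' k hA⟩
    ⟨_, rfl, Bivar.cycMap_mem_Zk h' t.δX' q.δX' _ hB⟩ (CycPB.RZ.refl _) ?_
  have hz := rz_of_cl_eq hB hB₀ (e.symm.trans e0)
  have h2 := CycPB.RZ.push h' (isSetup_sqX hX q) (isSetup_sqX hX t)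
    (deltaCompat_of_comp w₃ q.compatX t.compatX) hz
  rw [CycPB.pushF_sub' h' q.δX' ⟨B₀, rfl, hB₀⟩ ⟨B, rfl, hB⟩] at h2
  exact h2

theorem pull (hX : Cyc.IsSetup X δX) (hY : Cyc.IsSetup Y δY) (t : Bivar.Sq f δX δY) {q : Bivar.Sq f δX δY}
    (h : t.Y' ⟶ q.Y') [Flat h] (h' : t.X' ⟶ q.X') [Flat h'] (r : ℕ) (hr : Cyc.HasRelDim h r)
    (hr' : Cyc.HasRelDim h' r) (w₁ : h ≫ q.g = t.g)
    (w₂ : h' ≫ q.f' = t.f' ≫ h) (w₃ : h' ≫ q.g' = t.g') {k l : ℤ} (hl : k + r = l) {a : q.Y' → ℤ}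
    {b : q.X' → ℤ} (hrel : Rel c q k a b) :
    Rel c t l (Cyc.pullFun h t.δY' q.δY' r a) (Cyc.pullFun h' t.δX' q.δX' r b) := by
  subst hl
  obtain ⟨A, hA, B, hB, rfl, rfl, e⟩ := hrel
  obtain ⟨B₀, hB₀, e0, H⟩ := c.pull q t h h' r hr hr' w₁ w₂ w₃ k A hA
  haveI := q.lft; haveI := t.lft
  haveI := lft_g' q; haveI := lft_g' t
  haveI : LocallyOfFiniteType (h ≫ q.g) := by rw [w₁]; infer_instance
  haveI : LocallyOfFiniteType h := locallyOfFiniteType_of_comp h q.g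
  haveI : LocallyOfFiniteType (h' ≫ q.g') := by rw [w₃]; infer_instance
  haveI : LocallyOfFiniteType h' := locallyOfFiniteType_of_comp h' q.g'
  haveI := (isSetup_sqY hY q).1; haveI := (isSetup_sqX hX q).1
  obtain ⟨A₁, hA₁, hA₁k⟩ := (CycPB.Cy.mk hA).pullR (isSetup_sqY hY t) h (deltaCompat_of_comp w₁ q.compatY t.compatY) hr
  obtain ⟨B₁, hB₁, hB₁e, e1⟩ := H A₁ hA₁ hA₁k
  have hd' := deltaCompat_of_comp w₃ q.compatX t.compatX
  refine Rel.congr (q := t) ⟨A₁, hA₁k, B₁, hB₁, hA₁, hB₁e, e1⟩ ⟨A₁, hA₁, hA₁k⟩ ?_ (CycPB.RZ.refl _) ?_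
  · rw [show k + (r : ℤ) - p = k - p + r by ring]
    exact (CycPB.Cy.mk hB).pullR (isSetup_sqX hX t) h' hd' hr'
  · have hz := (rz_of_cl_eq hB hB₀ (e.symm.trans e0)).pullR (isSetup_sqX hX q) (isSetup_sqX hX t) h' hd' hr'
    rw [CycPB.pullFun_sub (p := h'), show k - p + (r : ℤ) = k + r - p by ring] at hz
    exact hz

theorem gysinTriv (hX : Cyc.IsSetup X δX) (hY : Cyc.IsSetup Y δY) (t : Bivar.Sq f δX δY) {q : Bivar.Sq f δX δY}
    (i : t.Y' ⟶ q.Y') [IsClosedImmersion i] (i' : t.X' ⟶ q.X') [IsClosedImmersion i']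
    (w₁ : i ≫ q.g = t.g) (w₂ : i' ≫ q.f' = t.f' ≫ i) (w₃ : i' ≫ q.g' = t.g') {L : q.Y'.Modules}
    (hL : PicF.IsInvertible L) (htriv : Nonempty ((Scheme.Modules.pullback i).obj L ≅ Coh.structureModule t.Y'))
    {σ : Γ(L, (⊤ : q.Y'.Opens))} (hσ : Cyc.IsZeroSchemeOf i L σ)
    {τ : Γ((Scheme.Modules.pullback q.f').obj L, (⊤ : q.X'.Opens))}
    (hτ : Cyc.IsZeroSchemeOf i' ((Scheme.Modules.pullback q.f').obj L) τ) {k m : ℤ} (hk : k = m + 1)
    {a : q.Y' → ℤ} {b : q.X' → ℤ} (hrel : Rel c q k a b) (w : (ξ : q.Y') → Cyc.secFibre L ξ) (hw : ∀ ξ, w ξ ≠ 0)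
    (w' : (ξ : q.X') → Cyc.secFibre ((Scheme.Modules.pullback q.f').obj L) ξ) (hw' : ∀ ξ, w' ξ ≠ 0) :
    Rel c t m (fun d => Cyc.c1CapFun q.δY' L a (Cyc.gysinChoice L σ w) (i d))
      fun d => Cyc.c1CapFun q.δX' ((Scheme.Modules.pullback q.f').obj L) b
        (Cyc.gysinChoice ((Scheme.Modules.pullback q.f').obj L) τ w') (i' d) := by
  obtain rfl : m = k - 1 := by omega
  obtain ⟨A, hA, B, hB, rfl, rfl, e⟩ := hrel
  obtain ⟨B₀, hB₀, e0, H⟩ := c.gysinTriv q t i i' w₁ w₂ w₃ L hL htriv σ hσ τ hτ k A hA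
  have hqY := isSetup_sqY hY q
  have hqX := isSetup_sqX hX q
  haveI := hqX.1
  have eδY := delta_closed i (deltaCompat_of_comp w₁ q.compatY t.compatY)
  have eδX := delta_closed i' (deltaCompat_of_comp w₃ q.compatX t.compatX)
  have hL' := PicLoc.isInvertible_pullback q.f' hL
  obtain ⟨γ, hγ, hγk⟩ := gys_cy hqY i hL (v := Cyc.gysinChoice L σ w) (CycK0.gysinChoice_ne_zero hw)
    (show Cy q.δY' (k - 1 + 1) ⇑A by rw [sub_add_cancel]; exact CycPB.Cy.mk hA)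
  rw [← eδY] at hγk
  obtain ⟨ζ, hζ, hζe, e1⟩ := H w hw γ (fun d => congrFun hγ d) hγk w' hw'
  have hk' : k - 1 - p + 1 = k - p := by ring
  have hBc : Cy q.δX' (k - 1 - p + 1) ⇑B := by rw [hk']; exact CycPB.Cy.mk hB
  have hB₀c : Cy q.δX' (k - 1 - p + 1) ⇑B₀ := by rw [hk']; exact CycPB.Cy.mk hB₀
  refine Rel.congr (q := t) ⟨γ, hγk, ζ, hζ, hγ, funext hζe, e1⟩ ⟨γ, hγ, hγk⟩ ?_ (CycPB.RZ.refl _) ?_
  · rw [eδX]
    exact gys_cy hqX i' hL' (CycK0.gysinChoice_ne_zero hw') hBc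
  · have hz := gys_rz hqX i' hL' hτ (k := k - 1 - p) (a := fun x => B₀ x - B x)
      (by rw [hk']; exact rz_of_cl_eq hB hB₀ (e.symm.trans e0)) w' hw'
    rw [eδX]
    exact hz.eq (funext fun d => hB₀c.cap_sub hBc _ _)

end Rel

end Groth.Agent.BivarOps
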