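import Groth.Agent.BivarOps.PushHom
import Groth.Agent.BivarOps.WeakRel
import Groth.Agent.CycPB.ChernOp

/-!
Flat pull back and Gysin maps on Chow groups; functoriality of push forward.
-/

set_option autoImplicit false
set_option linter.unusedSectionVars false
set_option linter.style.haveILetI false
set_option backward.isDefEq.respectTransparency false
set_option backward.isDefEq.respectTransparency.types false

universe u

open CategoryTheory CategoryTheory.Limits AlgebraicGeometry Opposite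
open Groth.Agent.CycPB (Cy RZ pushF)

noncomputable section

namespace Groth.Agent.BivarOps

variable {A B C : Scheme.{u}} {δA : A → ℤ} {δB : B → ℤ} {δC : C → ℤ}

/-- classes determine the values of additive maps -/
theorem ch_hom_ext {M : Type*} [AddCommGroup M] {k : ℤ} {f g : ChowOps.CH A δA k →+ M}
    (h : ∀ (α : AlgebraicCycle A ℤ) (hα : α ∈ Cyc.Zk A δA k), f (ChowOps.cl α hα) = g (ChowOps.cl α hα)) : f = g :=
  AddMonoidHom.ext fun x => by
    obtain ⟨α, hα, rfl⟩ := Bivar.exists_rep x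
    exact h α hα

/-- flat pull back of classes -/
def pullHom (hA : Cyc.IsSetup A δA) (hB : Cyc.IsSetup B δB) (h : A ⟶ B) [Flat h] [LocallyOfFiniteType h] {r : ℕ}
    (hr : Cyc.HasRelDim h r) (hd : Cyc.DeltaCompat h δA δB) {k l : ℤ} (hl : k + r = l) :
    ChowOps.CH B δB k →+ ChowOps.CH A δA l :=
  mkHom (fun a => Cyc.pullFun h δA δB r a)
    (fun _ ha => by haveI := hB.1; exact hl ▸ ha.pullR hA h hd hr)
    (fun a b _ _ => CycPB.pullFun_add h δA r a b)
    (fun _ ha => by haveI := hB.1; exact hl ▸ ha.pullR hB hA h hd hr)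

theorem pullHom_cl (hA : Cyc.IsSetup A δA) (hB : Cyc.IsSetup B δB) (h : A ⟶ B) [Flat h] [LocallyOfFiniteType h] {r : ℕ}
    (hr : Cyc.HasRelDim h r) (hd : Cyc.DeltaCompat h δA δB) {k l : ℤ} (hl : k + r = l)
    (α : AlgebraicCycle B ℤ) (hα : α ∈ Cyc.Zk B δB k) (γ : AlgebraicCycle A ℤ) (hγ : γ ∈ Cyc.Zk A δA l)
    (e : ⇑γ = Cyc.pullFun h δA δB r ⇑α) :
    pullHom hA hB h hr hd hl (ChowOps.cl α hα) = ChowOps.cl γ hγ :=
  mkHom_cl _ _ _ _ α hα γ hγ (CycPB.RZ.zero.eq (funext fun y => by rw [e, sub_self]))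

/-- Gysin maps of classes -/
def gysHom (hB : Cyc.IsSetup B δB) (i : A ⟶ B) [IsClosedImmersion i] (hd : δA = fun a => δB (i a)) {L : B.Modules}
    (hL : PicF.IsInvertible L) {σ : Γ(L, (⊤ : B.Opens))} (hσ : Cyc.IsZeroSchemeOf i L σ)
    (w : (ξ : B) → Cyc.secFibre L ξ) (hw : ∀ ξ, w ξ ≠ 0) {k l : ℤ} (hl : l + 1 = k) :
    ChowOps.CH B δB k →+ ChowOps.CH A δA l :=
  mkHom (fun a d => Cyc.c1CapFun δB L a (Cyc.gysinChoice L σ w) (i d))
    (fun _ ha => by subst hd hl; exact gys_cy hB i hL (CycK0.gysinChoice_ne_zero hw) ha)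
    (fun a b ha hb => by haveI := hB.1; funext d; exact congrFun (ha.cap_add hb _) (i d))
    (fun _ ha => by subst hd hl; exact gys_rz hB i hL hσ ha w hw)

theorem gysHom_cl (hB : Cyc.IsSetup B δB) (i : A ⟶ B) [IsClosedImmersion i] (hd : δA = fun a => δB (i a))
    {L : B.Modules} (hL : PicF.IsInvertible L) {σ : Γ(L, (⊤ : B.Opens))} (hσ : Cyc.IsZeroSchemeOf i L σ)
    (w : (ξ : B) → Cyc.secFibre L ξ) (hw : ∀ ξ, w ξ ≠ 0) {k l : ℤ} (hl : l + 1 = k)
    (α : AlgebraicCycle B ℤ) (hα : α ∈ Cyc.Zk B δB k) (γ : AlgebraicCycle A ℤ) (hγ : γ ∈ Cyc.Zk A δA l)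
    (e : RZ δA l fun d => Cyc.c1CapFun δB L ⇑α (Cyc.gysinChoice L σ w) (i d) - γ d) :
    gysHom hB i hd hL hσ w hw hl (ChowOps.cl α hα) = ChowOps.cl γ hγ :=
  mkHom_cl _ _ _ _ α hα γ hγ e

theorem pushHom_comp (hA : Cyc.IsSetup A δA) (hB : Cyc.IsSetup B δB) (hC : Cyc.IsSetup C δC) (f : A ⟶ B) (g : B ⟶ C)
    (h : A ⟶ C) [IsProper f] [IsProper g] [IsProper h] (w : f ≫ g = h) (hf : Cyc.DeltaCompat f δA δB)
    (hg : Cyc.DeltaCompat g δB δC) (hh : Cyc.DeltaCompat h δA δC) (k : ℤ) (x : ChowOps.CH A δA k) :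
    pushHom hB hC g hg k (pushHom hA hB f hf k x) = pushHom hA hC h hh k x := by
  subst w
  obtain ⟨α, hα, rfl⟩ := Bivar.exists_rep x
  rw [pushHom_map hA hB f hf α hα, pushHom_map hB hC g hg, pushHom_map hA hC (f ≫ g) hh α hα]
  exact Bivar.cl_congr (S1859.result A B C δA δB δC hA hB hC f g hf hg k α hα) _ _

end Groth.Agent.BivarOps
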