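import Groth.Agent.BivarOps.Clopen

/-!
Bivariant classes along a decomposition of the base into open and closed subschemes.
-/

set_option autoImplicit false
set_option linter.unusedSectionVars false
set_option linter.style.haveILetI false
set_option backward.isDefEq.respectTransparency false
set_option backward.isDefEq.respectTransparency.types false
set_option maxHeartbeats 1000000

universe u

open CategoryTheory CategoryTheory.Limits AlgebraicGeometry Opposite
open Groth.Agent.CycPB (Cy RZ pushF)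

noncomputable section

namespace Groth.Agent.BivarOps

/-- the hypotheses -/
structure Part {X Y : Scheme.{u}} (f : X ⟶ Y) (δX : X → ℤ) (δY : Y → ℤ) (J : Type u) : Type (u + 1) where
  sq : J → Bivar.Sq f δX δY
  hX : Cyc.IsSetup X δX
  hY : Cyc.IsSetup Y δY
  hopen : ∀ j, IsOpenImmersion (sq j).g
  hdisj : ∀ j j' : J, j ≠ j' → Disjoint (Set.range (sq j).g.base) (Set.range (sq j').g.base)
  hcov : ∀ y : Y, ∃ j, y ∈ Set.range (sq j).g.base

attribute [instance] Part.hopen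

namespace Part

variable {X Y : Scheme.{u}} {f : X ⟶ Y} {δX : X → ℤ} {δY : Y → ℤ} {J : Type u} (P : Part f δX δY J)
  (s : Bivar.Sq f δX δY) (j : J)

/-- the piece of the test scheme -/
abbrev Yp : Scheme.{u} := pullback s.g (P.sq j).g
/-- the inclusion of the piece -/
abbrev eY : P.Yp s j ⟶ s.Y' := pullback.fst s.g (P.sq j).g
/-- the piece of the fibre product -/
abbrev Xp : Scheme.{u} := pullback (pullback.snd s.g (P.sq j).g) (P.sq j).f'

/-- the dimension function on a piece -/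
abbrev δYp : P.Yp s j → ℤ := fun u => s.δY' (P.eY s j u)

theorem g_eq : P.eY s j ≫ s.g = pullback.snd s.g (P.sq j).g ≫ (P.sq j).g := pullback.condition

theorem compat_Yp : Cyc.DeltaCompat (pullback.snd s.g (P.sq j).g) (P.δYp s j) (P.sq j).δY' :=
  CycPB.deltaCompat_square (f := s.g) (π := (P.sq j).g) (π' := P.eY s j) pullback.condition.symm s.compatY
    (P.sq j).compatY (CycPush.deltaCompat_preimmersion _ _)

/-- the inclusion of the piece of the fibre product -/
abbrev eX : P.Xp s j ⟶ s.X' :=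
  s.isPullback.lift (pullback.fst _ _ ≫ P.eY s j) (pullback.snd _ _ ≫ (P.sq j).g')
    (by rw [Category.assoc, P.g_eq, pullback.condition_assoc, (P.sq j).isPullback.w, Category.assoc])

theorem eX_f' : P.eX s j ≫ s.f' = pullback.fst _ _ ≫ P.eY s j := s.isPullback.lift_fst _ _ _
theorem eX_g' : P.eX s j ≫ s.g' = pullback.snd _ _ ≫ (P.sq j).g' := s.isPullback.lift_snd _ _ _

theorem isPullback_eX :
    IsPullback (pullback.fst (pullback.snd s.g (P.sq j).g) (P.sq j).f') (P.eX s j) (P.eY s j) s.f' :=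
  IsPullback.of_bot (by
    rw [P.eX_g', P.g_eq]
    exact (IsPullback.of_hasPullback _ _).paste_vert (P.sq j).isPullback) (P.eX_f' s j).symm s.isPullback

instance : IsOpenImmersion (P.eX s j) := MorphismProperty.of_isPullback (P.isPullback_eX s j) inferInstance

/-- the dimension function on a piece of the fibre product -/
abbrev δXp : P.Xp s j → ℤ := fun u => s.δX' (P.eX s j u)

theorem compat_Xp : Cyc.DeltaCompat (pullback.snd (pullback.snd s.g (P.sq j).g) (P.sq j).f') (P.δXp s j) (P.sq j).δX' :=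
  CycPB.deltaCompat_square (f := s.g') (π := (P.sq j).g') (π' := P.eX s j) (P.eX_g' s j).symm s.compatX
    (P.sq j).compatX (CycPush.deltaCompat_preimmersion _ _)

/-- the square on a piece -/
abbrev t0 : Bivar.Sq (P.sq j).f' (P.sq j).δX' (P.sq j).δY' :=
  ⟨P.Yp s j, P.Xp s j, pullback.snd s.g (P.sq j).g, pullback.fst _ _, pullback.snd _ _,
    IsPullback.of_hasPullback _ _, (haveI := s.lft; inferInstance), P.δYp s j, P.δXp s j, P.compat_Yp s j,
    P.compat_Xp s j⟩

theorem setupYp : Cyc.IsSetup (P.Yp s j) (P.δYp s j) := isSetup_sqY (isSetup_sqY P.hY (P.sq j)) (P.t0 s j)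
theorem setupXp : Cyc.IsSetup (P.Xp s j) (P.δXp s j) := isSetup_sqX (isSetup_sqX P.hX (P.sq j)) (P.t0 s j)

theorem mem_eX (x : s.X') : x ∈ Set.range (P.eX s j) ↔ s.f' x ∈ Set.range (P.eY s j) := by
  constructor
  · rintro ⟨z, rfl⟩
    exact ⟨pullback.fst (pullback.snd s.g (P.sq j).g) (P.sq j).f' z,
      (congr($(P.eX_f' s j) z)).symm⟩
  · rintro ⟨y, hy⟩
    obtain ⟨z₀, -, hz⟩ := Scheme.Pullback.exists_preimage_pullback (f := P.eY s j) (g := s.f') y x hy
    refine ⟨(P.isPullback_eX s j).isoPullback.inv z₀, ?_⟩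
    rw [← Scheme.Hom.comp_apply, (P.isPullback_eX s j).isoPullback_inv_snd, hz]

theorem mem_eY (y : s.Y') : y ∈ Set.range (P.eY s j) ↔ s.g y ∈ Set.range (P.sq j).g.base := by
  rw [Scheme.Pullback.range_fst]
  rfl

theorem eY_uniq {y : s.Y'} {j j' : J} (h : y ∈ Set.range (P.eY s j)) (h' : y ∈ Set.range (P.eY s j')) : j = j' :=
  by_contra fun hne => (P.hdisj j j' hne).le_bot ⟨(P.mem_eY s j y).1 h, (P.mem_eY s j' y).1 h'⟩

/-- the decomposition of the test scheme -/
def decY : Decomp s.Y' s.δY' J where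
  piece := P.Yp s
  e := P.eY s
  open_ := fun _ => inferInstance
  disj j j' hne := Set.disjoint_left.2 fun y h h' => hne (P.eY_uniq s h h')
  cover y := (P.hcov (s.g y)).imp fun j hj => (P.mem_eY s j y).2 hj
  δp := P.δYp s
  compat j := CycPush.deltaCompat_preimmersion _ _
  setup := isSetup_sqY P.hY s
  setupP := P.setupYp s

/-- the decomposition of the fibre product -/
def decX : Decomp s.X' s.δX' J where
  piece := P.Xp s
  e := P.eX s
  open_ := fun _ => inferInstance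
  disj j j' hne := Set.disjoint_left.2 fun x h h' => hne (P.eY_uniq s ((P.mem_eX s j x).1 h) ((P.mem_eX s j' x).1 h'))
  cover x := (P.hcov (s.g (s.f' x))).imp fun j hj => (P.mem_eX s j x).2 ((P.mem_eY s j _).2 hj)
  δp := P.δXp s
  compat j := CycPush.deltaCompat_preimmersion _ _
  setup := isSetup_sqX P.hX s
  setupP := P.setupXp s

variable {p : ℤ}

/-- a class restricted to the pieces -/
theorem res_op (c : Bivar.Cl p f δX δY) {k : ℤ} (α : AlgebraicCycle s.Y' ℤ) (hα : α ∈ Cyc.Zk s.Y' s.δY' k) :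
    (P.decX s).resHom (k - p) (c.op s k (ChowOps.cl α hα)) j =
      (c.res (P.sq j)).op (P.t0 s j) k ((P.decY s).resHom k (ChowOps.cl α hα) j) := by
  have hsY := isSetup_sqY P.hY s
  have hsX := isSetup_sqX P.hX s
  haveI := hsY.1; haveI := hsX.1
  obtain ⟨β, hβ, e1, H⟩ := c.pull s ((P.sq j).paste (P.t0 s j)) (P.eY s j) (P.eX s j) 0
    (hasRelDim_openImm _) (hasRelDim_openImm _) (P.g_eq s j) (P.eX_f' s j) (P.eX_g' s j) k α hα
  obtain ⟨A, hA, hAk⟩ := cy_restrict hsY (P.eY s j) (P.setupYp s j) (CycPush.deltaCompat_preimmersion _ _)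
    (CycPB.Cy.mk hα)
  have hA0 : A ∈ Cyc.Zk (P.Yp s j) (P.δYp s j) (k + ((0 : ℕ) : ℤ)) := by simpa using hAk
  obtain ⟨β₁, hβ₁, hβ₁e, e2⟩ := H A (by
    rw [hA]; exact (pullFun_openImm (P.eY s j) (CycPush.deltaCompat_preimmersion _ _) ⇑α).symm) hA0
  have hβ₁k : β₁ ∈ Cyc.Zk (P.Xp s j) (P.δXp s j) (k - p) := by
    simpa using hβ₁
  have hk : k + ((0 : ℕ) : ℤ) = k := by simp
  have tr : ∀ (l : ℤ) (_ : l = k) (hA' : A ∈ Cyc.Zk (P.Yp s j) (P.δYp s j) l)
      (hb : β₁ ∈ Cyc.Zk (P.Xp s j) (P.δXp s j) (l - p)) (hA'' : A ∈ Cyc.Zk (P.Yp s j) (P.δYp s j) k)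
      (hb' : β₁ ∈ Cyc.Zk (P.Xp s j) (P.δXp s j) (k - p)),
      c.op ((P.sq j).paste (P.t0 s j)) l (ChowOps.cl A hA') = ChowOps.cl β₁ hb →
      c.op ((P.sq j).paste (P.t0 s j)) k (ChowOps.cl A hA'') = ChowOps.cl β₁ hb' := by
    rintro l rfl hA' hb hA'' hb' h
    exact h
  rw [e1, (P.decY s).resHom_cl α hα j A hAk (CycPB.RZ.zero.eq (funext fun u => (sub_eq_zero.2 (congrFun hA u).symm).symm))]
  refine ((P.decX s).resHom_cl β hβ j β₁ hβ₁k (CycPB.RZ.zero.eq (funext fun u => ?_))).trans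
    (tr _ hk hA0 hβ₁ hAk hβ₁k e2).symm
  refine (sub_eq_zero.2 ((congrFun hβ₁e u).trans ?_).symm).symm
  exact congrFun (pullFun_openImm (P.eX s j) (CycPush.deltaCompat_preimmersion _ _) ⇑β) u

/-- restriction is injective -/
theorem res_injective (P : Part f δX δY J) :
    Function.Injective fun c : Bivar.Cl p f δX δY => fun j => c.res (P.sq j) := by
  intro c c' h
  refine Bivar.Cl.ext (funext fun s => funext fun k => AddMonoidHom.ext fun x => ?_)
  obtain ⟨α, hα, rfl⟩ := Bivar.exists_rep x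
  refine ((P.decX s).resHom_bijective (k - p)).1 (funext fun j => ?_)
  rw [P.res_op, P.res_op, show c.res (P.sq j) = c'.res (P.sq j) from congrFun h j]

variable (d : (j : J) → Bivar.Cl p (P.sq j).f' (P.sq j).δX' (P.sq j).δY')

/-- the glued operation -/
def glueOp (k : ℤ) : ChowOps.CH s.Y' s.δY' k →+ ChowOps.CH s.X' s.δX' (k - p) :=
  ((AddEquiv.ofBijective ((P.decX s).resHom (k - p)) ((P.decX s).resHom_bijective (k - p))).symm.toAddMonoidHom).comp
    ((AddMonoidHom.pi fun j => ((d j).op (P.t0 s j) k).comp (Pi.evalAddMonoidHom _ j)).comp ((P.decY s).resHom k))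

theorem resHom_glueOp (k : ℤ) (x : ChowOps.CH s.Y' s.δY' k) :
    (P.decX s).resHom (k - p) (P.glueOp s d k x) j = (d j).op (P.t0 s j) k ((P.decY s).resHom k x j) :=
  congrFun (AddEquiv.apply_symm_apply
    (AddEquiv.ofBijective ((P.decX s).resHom (k - p)) ((P.decX s).resHom_bijective (k - p)))
    ((AddMonoidHom.pi fun j => ((d j).op (P.t0 s j) k).comp (Pi.evalAddMonoidHom _ j)) ((P.decY s).resHom k x))) j

theorem glueOp_cl {k : ℤ} (α : AlgebraicCycle s.Y' ℤ) (hα : α ∈ Cyc.Zk s.Y' s.δY' k) (C : AlgebraicCycle s.X' ℤ)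
    (hC : C ∈ Cyc.Zk s.X' s.δX' (k - p))
    (h : ∀ j, (d j).op (P.t0 s j) k ((P.decY s).resHom k (ChowOps.cl α hα) j) =
      (P.decX s).resHom (k - p) (ChowOps.cl C hC) j) :
    P.glueOp s d k (ChowOps.cl α hα) = ChowOps.cl C hC :=
  ((P.decX s).resHom_bijective (k - p)).1 (funext fun j => by rw [P.resHom_glueOp, h])

variable {s} (t : Bivar.Sq f δX δY)

/-- a morphism of squares on a piece -/
abbrev hYp (h : t.Y' ⟶ s.Y') (w₁ : h ≫ s.g = t.g) : P.Yp t j ⟶ P.Yp s j :=
  pullback.lift (P.eY t j ≫ h) (pullback.snd t.g (P.sq j).g) (by rw [Category.assoc, w₁, P.g_eq])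

/-- a morphism of squares on a piece of the fibre product -/
abbrev hXp (h : t.Y' ⟶ s.Y') (w₁ : h ≫ s.g = t.g) : P.Xp t j ⟶ P.Xp s j :=
  pullback.lift (pullback.fst _ _ ≫ P.hYp j t h w₁) (pullback.snd _ _)
    (by rw [Category.assoc, pullback.lift_snd, pullback.condition])

theorem isPullback_hYp (h : t.Y' ⟶ s.Y') (w₁ : h ≫ s.g = t.g) :
    IsPullback (P.eY t j) (P.hYp j t h w₁) h (P.eY s j) :=
  IsPullback.of_bot (by
    rw [pullback.lift_snd, w₁]
    exact IsPullback.of_hasPullback t.g (P.sq j).g) (pullback.lift_fst _ _ _).symm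
    (IsPullback.of_hasPullback s.g (P.sq j).g)

theorem hXp_eX {h : t.Y' ⟶ s.Y'} {h' : t.X' ⟶ s.X'} (w₁ : h ≫ s.g = t.g) (w₂ : h' ≫ s.f' = t.f' ≫ h)
    (w₃ : h' ≫ s.g' = t.g') : P.hXp j t h w₁ ≫ P.eX s j = P.eX t j ≫ h' := by
  refine s.isPullback.hom_ext ?_ ?_
  · rw [Category.assoc, P.eX_f', pullback.lift_fst_assoc, Category.assoc, pullback.lift_fst, Category.assoc, w₂,
      ← Category.assoc (P.eX t j), P.eX_f', Category.assoc]
  · rw [Category.assoc, P.eX_g', pullback.lift_snd_assoc, Category.assoc, w₃, P.eX_g']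

theorem isPullback_hXp {h : t.Y' ⟶ s.Y'} {h' : t.X' ⟶ s.X'} (w₁ : h ≫ s.g = t.g) (w₂ : h' ≫ s.f' = t.f' ≫ h)
    (w₃ : h' ≫ s.g' = t.g') : IsPullback (P.eX t j) (P.hXp j t h w₁) h' (P.eX s j) :=
  IsPullback.of_bot (h₂₁ := P.eX s j) (v₂₁ := pullback.fst _ _) (v₂₂ := s.f') (h₃₁ := P.eY s j) (by
    rw [pullback.lift_fst, w₂]
    exact (P.isPullback_eX t j).flip.paste_vert (P.isPullback_hYp j t h w₁)) (P.hXp_eX j t w₁ w₂ w₃).symm
    (P.isPullback_eX s j).flip

theorem hXp_fst (h : t.Y' ⟶ s.Y') (w₁ : h ≫ s.g = t.g) :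
    P.hXp j t h w₁ ≫ pullback.fst _ _ = pullback.fst _ _ ≫ P.hYp j t h w₁ := pullback.lift_fst _ _ _

end Part

end Groth.Agent.BivarOps
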