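import Groth.Agent.BivarOps.Squares
import Groth.Agent.BivarOps.Indep
import Groth.Agent.CycK0.GysGys

/-!
The Gysin class of the zero scheme of a section of an invertible module.
-/

set_option autoImplicit false
set_option linter.unusedSectionVars false
set_option linter.style.haveILetI false
set_option backward.isDefEq.respectTransparency false
set_option backward.isDefEq.respectTransparency.types false
set_option maxHeartbeats 800000

universe u

open CategoryTheory CategoryTheory.Limits AlgebraicGeometry Opposite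
open Groth.Agent.CycPB (Cy RZ pushF)
open Groth.Agent.CycSec (secPull secPull_ne_zero)

noncomputable section

namespace Groth.Agent.BivarOps

variable {X Y T D : Scheme.{u}}

/-- push forward on the inverse image of a closed subscheme, on any fibre product -/
theorem pushF_sq (f : Y ⟶ X) [IsProper f] {i : D ⟶ X} [IsClosedImmersion i] {j : T ⟶ Y} [IsClosedImmersion j]
    {gD : T ⟶ D} [IsProper gD] (hsq : IsPullback j gD f i) (δ : X → ℤ) (δ' : Y → ℤ) (c : Y → ℤ) (d : D) :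
    pushF gD (fun z => δ' (j z)) (fun d => δ (i d)) (fun z => c (j z)) d = pushF f δ' δ c (i d) := by
  classical
  have hcond : ∀ z, f (j z) = i (gD z) := fun z => by
    show (j ≫ f) z = (gD ≫ i) z
    rw [hsq.w]
  have himg : j '' (gD ⁻¹' {d}) = f ⁻¹' {i d} := by
    refine Set.ext fun x => ⟨?_, fun hx => ?_⟩
    · rintro ⟨z, hz, rfl⟩
      show f (j z) = i d
      rw [hcond]
      exact congrArg i hz
    · obtain ⟨z₀, rfl⟩ : x ∈ Set.range (pullback.fst f i) := by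
        rw [Scheme.Pullback.range_fst]
        exact ⟨d, hx.symm⟩
      have e : j (hsq.isoPullback.inv z₀) = (pullback.fst f i) z₀ := by
        rw [← Scheme.Hom.comp_apply, hsq.isoPullback_inv_fst]
      refine ⟨hsq.isoPullback.inv z₀, i.isClosedEmbedding.injective ?_, e⟩
      rw [← hcond, e]
      exact hx
  have hres : ∀ z, gD.residueDegree z = f.residueDegree (j z) := fun z => by
    rw [← CycPush.residueDegree_comp_closedImmersion j f z, hsq.w, CycDeg.residueDegree_comp,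
      CycDeg.residueDegree_eq_one i (CycPush.residueFieldMap_surjective_pre i _), one_mul]
  unfold pushF
  rw [← himg, finsum_mem_image j.isClosedEmbedding.injective.injOn]
  refine finsum_mem_congr rfl fun z _ => congrArg (c (j z) * ·) (congrArg Nat.cast ?_)
  unfold AlgebraicCycle.mapCoeff
  show (if δ' (j z) = δ (i (gD z)) then _ else 0) = if δ' (j z) = δ (f (j z)) then _ else 0
  rw [hcond, hres]

/-- the Gysin map commutes with proper push forward, on any fibre product -/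
theorem gysin_push_sq {δ : X → ℤ} {δ' : Y → ℤ} {k : ℤ}
    (hX : Cyc.IsSetup X δ) (hY : Cyc.IsSetup Y δ') (f : Y ⟶ X) [IsProper f] (hδ : Cyc.DeltaCompat f δ' δ)
    {L : X.Modules} (hL : PicF.IsInvertible L) {s : Γ(L, (⊤ : X.Opens))} {i : D ⟶ X} [IsClosedImmersion i]
    (hD : Cyc.IsZeroSchemeOf i L s) {j : T ⟶ Y} [IsClosedImmersion j] {gD : T ⟶ D} [IsProper gD]
    (hsq : IsPullback j gD f i) {s' : ((Scheme.Modules.pullback f).obj L).presheaf.obj (op ⊤)}
    (hD' : Cyc.IsZeroSchemeOf j ((Scheme.Modules.pullback f).obj L) s')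
    (α : AlgebraicCycle Y ℤ) (hα : α ∈ Cyc.Zk Y δ' (k + 1))
    (w : (ξ : X) → Cyc.secFibre L ξ) (hw : ∀ ξ, w ξ ≠ 0)
    (w' : (ξ : Y) → Cyc.secFibre ((Scheme.Modules.pullback f).obj L) ξ) (hw' : ∀ ξ, w' ξ ≠ 0) :
    RZ (fun d => δ (i d)) k fun d => Cyc.c1CapFun δ L (pushF f δ' δ ⇑α) (Cyc.gysinChoice L s w) (i d) -
      pushF gD (fun z => δ' (j z)) (fun d => δ (i d)) (fun z => Cyc.c1CapFun δ' ((Scheme.Modules.pullback f).obj L) ⇑α
        (Cyc.gysinChoice ((Scheme.Modules.pullback f).obj L) s' w') (j z)) d := by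
  haveI := hX.1
  haveI := hY.1
  have hL' := PicLoc.isInvertible_pullback f hL
  obtain ⟨A, hA, hAk⟩ := (CycPB.Cy.mk (Bivar.cycMap_mem_Zk f δ' δ (k + 1) hα)).cap hX hL
    (v := Cyc.gysinChoice L s w) (CycK0.gysinChoice_ne_zero hw)
  obtain ⟨B, hB, hBk⟩ := (CycPB.Cy.mk hα).cap hY hL' (v := Cyc.gysinChoice _ s' w') (CycK0.gysinChoice_ne_zero hw')
  obtain ⟨γ, hγ⟩ := CycK0.exists_comap (i := i) A
  obtain ⟨γ', hγ'⟩ := CycK0.exists_comap (i := pullback.fst f i) B
  have hz : Cyc.IsZeroSchemeOf (pullback.fst f i) ((Scheme.Modules.pullback f).obj L) s' := by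
    have h := CycK0.isZeroSchemeOf_iso hsq.isoPullback.symm hD'
    rwa [show hsq.isoPullback.symm.hom ≫ j = pullback.fst f i from hsq.isoPullback_inv_fst] at h
  have key := CycK0.gysin_push hX hY f hδ hL hD hz α hα w hw w' hw' γ (fun d => by rw [hγ, hA]) γ'
    (fun z => by rw [hγ', hB])
  refine (CycPB.RZ.of_ratEquiv (δ := fun d => δ (i d)) (fun z hz => by rw [hγ]; exact hAk _ hz)
    (Bivar.cycMap_mem_Zk _ _ _ _ fun z hz => by rw [hγ']; exact hBk _ hz) key).eq (funext fun d => ?_)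
  rw [hγ, hA, pushF_sq f hsq δ δ' _ d]
  refine congrArg₂ (· - ·) rfl ?_
  refine Eq.trans ?_ (CycK0.finsum_snd f i δ δ' _ d)
  refine finsum_mem_congr rfl fun z _ => ?_
  rw [hγ', hB]

/-- pullback of a pulled back module along a morphism over the base -/
def pullIso {S : Scheme.{u}} {g : X ⟶ S} {h : Y ⟶ X} {g' : Y ⟶ S} (w : h ≫ g = g') (L : S.Modules) :
    (Scheme.Modules.pullback g').obj L ≅ (Scheme.Modules.pullback h).obj ((Scheme.Modules.pullback g).obj L) :=
  (eqToIso (congrArg (fun q => (Scheme.Modules.pullback q).obj L) w.symm)) ≪≫ ((Scheme.Modules.pullbackComp h g).app L).symm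

variable {δX : X → ℤ} {δD : D → ℤ} (hX : Cyc.IsSetup X δX) (hDs : Cyc.IsSetup D δD)
  {i : D ⟶ X} [IsClosedImmersion i] (hδ : Cyc.DeltaCompat i δD δX)
  {L : X.Modules} (hL : PicF.IsInvertible L) {σ : L.presheaf.obj (op ⊤)} (hσ : Cyc.IsZeroSchemeOf i L σ)

theorem closed_f' (s : Bivar.Sq i δD δX) : IsClosedImmersion s.f' :=
  MorphismProperty.of_isPullback s.isPullback.flip ‹_›

theorem isInvM (hL : PicF.IsInvertible L) (s : Bivar.Sq i δD δX) :
    PicF.IsInvertible ((Scheme.Modules.pullback s.g).obj L) := PicLoc.isInvertible_pullback _ hL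

/-- the chosen section on a square -/
def gSec (s : Bivar.Sq i δD δX) : Γ((Scheme.Modules.pullback s.g).obj L, (⊤ : s.Y'.Opens)) :=
  haveI := (isSetup_sqY hX s).1
  (CycPB.isZeroSchemeOf_pullback s.g s.isPullback hL hσ).choose

theorem gSec_zero (s : Bivar.Sq i δD δX) :
    Cyc.IsZeroSchemeOf s.f' ((Scheme.Modules.pullback s.g).obj L) (gSec hX hL hσ s) :=
  haveI := (isSetup_sqY hX s).1
  (CycPB.isZeroSchemeOf_pullback s.g s.isPullback hL hσ).choose_spec.1

/-- the chosen fallback -/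
def gFall (s : Bivar.Sq i δD δX) : (ξ : s.Y') → Cyc.secFibre ((Scheme.Modules.pullback s.g).obj L) ξ :=
  (CycPB.exists_sections (isInvM hL s)).choose

theorem gFall_ne (s : Bivar.Sq i δD δX) (ξ : s.Y') : gFall hL s ξ ≠ 0 :=
  (CycPB.exists_sections (isInvM hL s)).choose_spec ξ

theorem delta_f' (hδ : Cyc.DeltaCompat i δD δX) (s : Bivar.Sq i δD δX) : s.δX' = fun d => s.δY' (s.f' d) :=
  haveI := closed_f' s
  delta_closed s.f' (deltaCompat_f' hδ s)

theorem exists_gys (hX : Cyc.IsSetup X δX) (hδ : Cyc.DeltaCompat i δD δX) (s : Bivar.Sq i δD δX) {M : s.Y'.Modules}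
    (hM : PicF.IsInvertible M) (v : (ξ : s.Y') → Cyc.secFibre M ξ) (hv : ∀ ξ, v ξ ≠ 0) {k : ℤ} {a : s.Y' → ℤ}
    (ha : Cy s.δY' k a) : Cy s.δX' (k - 1) fun d => Cyc.c1CapFun s.δY' M a v (s.f' d) := by
  haveI := closed_f' s
  have ha' : Cy s.δY' (k - 1 + 1) a := by rwa [sub_add_cancel]
  obtain ⟨C, hC, hCk⟩ := ha'.cap (isSetup_sqY hX s) hM hv
  obtain ⟨ζ, hζ⟩ := CycK0.exists_comap (i := s.f') C
  exact ⟨ζ, funext fun d => by rw [hζ, hC], fun d hd => by
    rw [hζ]; exact hCk _ fun e => hd (by rw [delta_f' hδ s]; exact e)⟩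

/-- the operation on a square -/
def gysOp (s : Bivar.Sq i δD δX) (k : ℤ) : ChowOps.CH s.Y' s.δY' k →+ ChowOps.CH s.X' s.δX' (k - 1) :=
  mkHom (fun a d => Cyc.c1CapFun s.δY' ((Scheme.Modules.pullback s.g).obj L) a
      (Cyc.gysinChoice _ (gSec hX hL hσ s) (gFall hL s)) (s.f' d))
    (fun a ha => exists_gys hX hδ s (isInvM hL s) _ (CycK0.gysinChoice_ne_zero (gFall_ne hL s)) ha)
    (fun a b ha hb => by
      haveI := (isSetup_sqY hX s).1
      funext d
      exact congrFun (ha.cap_add hb _) (s.f' d))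
    (fun a ha => by
      haveI := closed_f' s
      have hs := isSetup_sqY hX s
      haveI := hs.1
      obtain ⟨C, hC, hCk⟩ := exists_gys hX hδ s (isInvM hL s) _ (CycK0.gysinChoice_ne_zero (s := gSec hX hL hσ s)
        (gFall_ne hL s)) ha.cy
      obtain ⟨A, rfl, hA, hA'⟩ := ha
      refine ⟨C, hC, hCk, ?_⟩
      rw [← sub_add_cancel k 1] at hA'
      have := CycK0.gysin_ratEquivZero hs (isInvM hL s) (gSec_zero hX hL hσ s) hA' _ (gFall_ne hL s) C
        (fun d => by rw [hC])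
      rwa [← delta_f' hδ s] at this)

theorem gysOp_cl (s : Bivar.Sq i δD δX) (k : ℤ) (A : AlgebraicCycle s.Y' ℤ) (hA : A ∈ Cyc.Zk s.Y' s.δY' k)
    {M : s.Y'.Modules} (hM : PicF.IsInvertible M) (e : (Scheme.Modules.pullback s.g).obj L ≅ M)
    (τ : Γ(M, (⊤ : s.Y'.Opens))) (hτ : Cyc.IsZeroSchemeOf s.f' M τ)
    (w : (ξ : s.Y') → Cyc.secFibre M ξ) (hw : ∀ ξ, w ξ ≠ 0)
    (C : AlgebraicCycle s.X' ℤ) (hC : C ∈ Cyc.Zk s.X' s.δX' (k - 1))
    (h : RZ s.δX' (k - 1) fun d => Cyc.c1CapFun s.δY' M ⇑A (Cyc.gysinChoice M τ w) (s.f' d) - C d) :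
    gysOp hX hδ hL hσ s k (ChowOps.cl A hA) = ChowOps.cl C hC := by
  haveI := closed_f' s
  haveI := (isSetup_sqY hX s).1
  refine mkHom_cl _ _ _ _ A hA C hC (CycPB.RZ.trans ?_ h)
  have := gysin_indep (k := k - 1) (isSetup_sqY hX s) (isInvM hL s) hM e (gSec_zero hX hL hσ s) hτ (gFall_ne hL s) hw
    (a := ⇑A) (by rw [sub_add_cancel]; exact CycPB.Cy.mk hA)
  rw [← delta_f' hδ s] at this
  exact this.neg_diff

/-- **The Gysin class.** -/
def gysClass : Bivar.Cl 1 i δD δX where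
  op := gysOp hX hδ hL hσ
  push s t h _ h' _ w₁ w₂ w₃ k := by
    intro α hα
    haveI := closed_f' s
    haveI := closed_f' t
    have hs := isSetup_sqY hX s
    have ht := isSetup_sqY hX t
    haveI := hs.1; haveI := ht.1
    have hsq := isPullback_mor w₁ w₂ w₃
    have hd : Cyc.DeltaCompat h t.δY' s.δY' := deltaCompat_of_comp w₁ s.compatY t.compatY
    have hd' : Cyc.DeltaCompat h' t.δX' s.δX' := deltaCompat_of_comp w₃ s.compatX t.compatX
    obtain ⟨τ, hτ, -⟩ := CycPB.isZeroSchemeOf_pullback h hsq (isInvM hL s) (gSec_zero hX hL hσ s)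
    have hM := PicLoc.isInvertible_pullback h (isInvM hL s)
    obtain ⟨w, hw⟩ := CycPB.exists_sections hM
    obtain ⟨β, hβe, hβ⟩ := exists_gys hX hδ t hM (Cyc.gysinChoice _ τ w) (CycK0.gysinChoice_ne_zero hw)
      (CycPB.Cy.mk hα)
    refine ⟨β, hβ, gysOp_cl hX hδ hL hσ t k α hα hM (pullIso w₁ L) τ hτ w hw β hβ
      (CycPB.RZ.zero.eq (funext fun y => by rw [hβe, sub_self])), ?_⟩
    refine gysOp_cl hX hδ hL hσ s k _ _ (isInvM hL s) (Iso.refl _) _ (gSec_zero hX hL hσ s) _ (gFall_ne hL s) _ _ ?_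
    have key := gysin_push_sq (k := k - 1) hs ht h hd (isInvM hL s) (gSec_zero hX hL hσ s) hsq hτ α
      (by rw [sub_add_cancel]; exact hα) _ (gFall_ne hL s) w hw
    rw [← delta_f' hδ s, ← delta_f' hδ t, ← hβe] at key
    exact key
  pull s t h _ h' _ e he he' w₁ w₂ w₃ k := by
    intro α hα
    haveI := closed_f' s
    haveI := closed_f' t
    haveI := s.lft
    haveI := t.lft
    haveI : LocallyOfFiniteType (h ≫ s.g) := by rw [w₁]; infer_instance
    haveI : LocallyOfFiniteType h := locallyOfFiniteType_of_comp h s.g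
    have hsq := isPullback_mor w₁ w₂ w₃
    haveI : LocallyOfFiniteType h' := MorphismProperty.of_isPullback hsq ‹_›
    have hs := isSetup_sqY hX s
    have ht := isSetup_sqY hX t
    have htX : Cyc.IsSetup t.X' t.δX' := by
      rw [delta_f' hδ t]
      exact CycK0.isSetup_closed t.f' ht
    have hsX : Cyc.IsSetup s.X' s.δX' := by
      rw [delta_f' hδ s]
      exact CycK0.isSetup_closed s.f' hs
    haveI := hs.1; haveI := ht.1; haveI := htX.1; haveI := hsX.1
    have hd : Cyc.DeltaCompat h t.δY' s.δY' := deltaCompat_of_comp w₁ s.compatY t.compatY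
    have hd' : Cyc.DeltaCompat h' t.δX' s.δX' := deltaCompat_of_comp w₃ s.compatX t.compatX
    obtain ⟨β, hβe, hβ⟩ := exists_gys hX hδ s (isInvM hL s) (Cyc.gysinChoice _ (gSec hX hL hσ s) (gFall hL s))
      (CycK0.gysinChoice_ne_zero (gFall_ne hL s)) (CycPB.Cy.mk hα)
    refine ⟨β, hβ, gysOp_cl hX hδ hL hσ s k α hα (isInvM hL s) (Iso.refl _) _ (gSec_zero hX hL hσ s) _
      (gFall_ne hL s) β hβ (CycPB.RZ.zero.eq (funext fun y => by rw [hβe, sub_self])), fun α₁ hα₁e hα₁ => ?_⟩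
    obtain ⟨β₁, hβ₁e, hβ₁⟩ := (CycPB.Cy.mk hβ).pullR htX h' hd' he'
    have hk : k - 1 + (e : ℤ) = k + e - 1 := by ring
    refine ⟨β₁, hk ▸ hβ₁, hβ₁e, ?_⟩
    obtain ⟨τ, hτ, -⟩ := CycPB.isZeroSchemeOf_pullback h hsq (isInvM hL s) (gSec_zero hX hL hσ s)
    have hM := PicLoc.isInvertible_pullback h (isInvM hL s)
    obtain ⟨w, hw⟩ := CycPB.exists_sections hM
    refine gysOp_cl hX hδ hL hσ t (k + e) α₁ hα₁ hM (pullIso w₁ L) τ hτ w hw β₁ _ ?_
    have key := gysin_pull_sq (k := k - 1) hs ht h he hd (isInvM hL s) (gSec_zero hX hL hσ s) hsq hτ α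
      (by rw [sub_add_cancel]; exact hα) _ (gFall_ne hL s) w hw
    rw [← delta_f' hδ s, ← delta_f' hδ t, ← hβe, ← hβ₁e, ← hα₁e, hk] at key
    exact key.neg_diff
  gysin s t i₁ _ j _ w₁ w₂ w₃ N hN σ₁ hσ₁ τ₁ hτ₁ k := by
    intro α hα
    haveI := closed_f' s
    haveI := closed_f' t
    have hsq := isPullback_mor w₁ w₂ w₃
    have hs := isSetup_sqY hX s
    have ht := isSetup_sqY hX t
    haveI := hs.1; haveI := ht.1
    have hdi : Cyc.DeltaCompat i₁ t.δY' s.δY' := deltaCompat_of_comp w₁ s.compatY t.compatY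
    have hdj : Cyc.DeltaCompat j t.δX' s.δX' := deltaCompat_of_comp w₃ s.compatX t.compatX
    obtain ⟨β, hβe, hβ⟩ := exists_gys hX hδ s (isInvM hL s) (Cyc.gysinChoice _ (gSec hX hL hσ s) (gFall hL s))
      (CycK0.gysinChoice_ne_zero (gFall_ne hL s)) (CycPB.Cy.mk hα)
    refine ⟨β, hβ, gysOp_cl hX hδ hL hσ s k α hα (isInvM hL s) (Iso.refl _) _ (gSec_zero hX hL hσ s) _
      (gFall_ne hL s) β hβ (CycPB.RZ.zero.eq (funext fun y => by rw [hβe, sub_self])),
      fun w hw γ hγe hγ w' hw' => ?_⟩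
    have hsX : Cyc.IsSetup s.X' s.δX' := by
      rw [delta_f' hδ s]
      exact CycK0.isSetup_closed s.f' hs
    haveI := hsX.1
    have hN' := PicLoc.isInvertible_pullback s.f' hN
    have hβ' : Cy s.δX' (k - 1 - 1 + 1) ⇑β := by
      rw [sub_add_cancel]
      exact CycPB.Cy.mk hβ
    obtain ⟨C, hCe, hC⟩ := hβ'.cap hsX hN' (v := Cyc.gysinChoice _ τ₁ w') (CycK0.gysinChoice_ne_zero hw')
    obtain ⟨ζ, hζe⟩ := CycK0.exists_comap (i := j) C
    have hδj := delta_closed j hdj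
    have hδi := delta_closed i₁ hdi
    have hζk : ζ ∈ Cyc.Zk t.X' t.δX' (k - 1 - 1) := fun d hd => by
      rw [hζe]
      exact hC _ (fun e => hd (by rw [hδj]; exact e))
    refine ⟨ζ, hζk, fun d => by rw [hζe, hCe], ?_⟩
    obtain ⟨τ, hτ, -⟩ := CycPB.isZeroSchemeOf_pullback i₁ hsq (isInvM hL s) (gSec_zero hX hL hσ s)
    have hM := PicLoc.isInvertible_pullback i₁ (isInvM hL s)
    obtain ⟨u₁, hu₁⟩ := CycPB.exists_sections hM
    refine gysOp_cl hX hδ hL hσ t (k - 1) γ hγ hM (pullIso w₁ L) τ hτ u₁ hu₁ ζ hζk ?_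
    obtain ⟨G, hGe, hG⟩ := exists_gys hX hδ t hM (Cyc.gysinChoice _ τ u₁) (CycK0.gysinChoice_ne_zero hu₁)
      (CycPB.Cy.mk hγ)
    have hα2 : α ∈ Cyc.Zk s.Y' s.δY' (k - 1 - 1 + 2) := by
      rwa [show k - 1 - 1 + 2 = k by ring]
    have key := CycK0.gysin_gysin_comm (k := k - 1 - 1) hs hN hσ₁ (isInvM hL s) (gSec_zero hX hL hσ s) hsq hτ hτ₁
      α hα2 w hw _ (gFall_ne hL s) u₁ hu₁ w' hw' G ζ
      (fun z => by rw [hGe, ← hδi, funext hγe])
      (fun z => by rw [hζe, hCe, ← delta_f' hδ s, hβe])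
    have e : (fun z => s.δY' (i₁ (t.f' z))) = t.δX' := by
      rw [delta_f' hδ t, hδi]
    rw [e] at key
    exact (CycPB.RZ.of_ratEquiv hG hζk key).eq (funext fun d => by rw [hGe])

theorem isGysinClass_gysClass : Bivar.IsGysinClass i L σ (gysClass hX hδ hL hσ) :=
  ⟨hL, hσ, hδ, fun s τ hτ k α hα w hw γ hγe hγ => gysOp_cl hX hδ hL hσ s k α hα (isInvM hL s) (Iso.refl _) τ hτ w hw
    γ hγ (CycPB.RZ.zero.eq (funext fun y => by rw [hγe, sub_self]))⟩

end Groth.Agent.BivarOps
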