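import Groth.Agent.BivarOps.ClopenCl
import Groth.Agent.BivarOps.FlatPull
import Groth.Agent.BivarOps.Gysin

/-!
Gluing bivariant classes along a decomposition of the base into open and closed subschemes.
-/

set_option autoImplicit false
set_option linter.unusedSectionVars false
set_option linter.unusedVariables false
set_option linter.style.haveILetI false
set_option backward.isDefEq.respectTransparency false
set_option backward.isDefEq.respectTransparency.types false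
set_option maxHeartbeats 1000000

universe u

open CategoryTheory CategoryTheory.Limits AlgebraicGeometry Opposite
open Groth.Agent.CycPB (Cy RZ pushF)

noncomputable section

namespace Groth.Agent.BivarOps

/-- the shift on points maximal in their fibres for an open immersion -/
theorem hc_open {W T : Scheme.{u}} (e : W ⟶ T) [IsOpenImmersion e] {δ : T → ℤ} :
    ∀ x, EquidimPt.IsFibMax e x → (fun u => δ (e u)) x = δ (e x) + 0 := fun x _ => (add_zero _).symm

namespace Part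

variable {X Y : Scheme.{u}} {f : X ⟶ Y} {δX : X → ℤ} {δY : Y → ℤ} {J : Type u} (P : Part f δX δY J)
  {p : ℤ} (d : (j : J) → Bivar.Cl p (P.sq j).f' (P.sq j).δX' (P.sq j).δY')

theorem decY_cl {s : Bivar.Sq f δX δY} {k : ℤ} (α : AlgebraicCycle s.Y' ℤ) (hα : α ∈ Cyc.Zk s.Y' s.δY' k) (j : J)
    (A : AlgebraicCycle (P.Yp s j) ℤ) (hA : A ∈ Cyc.Zk (P.Yp s j) (P.δYp s j) k)
    (h : RZ (P.δYp s j) k fun u => α (P.eY s j u) - A u) :
    (P.decY s).resHom k (ChowOps.cl α hα) j = ChowOps.cl A hA := (P.decY s).resHom_cl α hα j A hA h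

theorem decX_cl {s : Bivar.Sq f δX δY} {k : ℤ} (β : AlgebraicCycle s.X' ℤ) (hβ : β ∈ Cyc.Zk s.X' s.δX' k) (j : J)
    (B : AlgebraicCycle (P.Xp s j) ℤ) (hB : B ∈ Cyc.Zk (P.Xp s j) (P.δXp s j) k)
    (h : RZ (P.δXp s j) k fun u => β (P.eX s j u) - B u) :
    (P.decX s).resHom k (ChowOps.cl β hβ) j = ChowOps.cl B hB := (P.decX s).resHom_cl β hβ j B hB h

/-- a cycle on a piece -/
theorem exists_resY {s : Bivar.Sq f δX δY} {k : ℤ} (α : AlgebraicCycle s.Y' ℤ) (hα : α ∈ Cyc.Zk s.Y' s.δY' k) (j : J) :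
    ∃ A : AlgebraicCycle (P.Yp s j) ℤ, (∀ u, A u = α (P.eY s j u)) ∧ A ∈ Cyc.Zk (P.Yp s j) (P.δYp s j) k :=
  let ⟨A, hA, hAk⟩ := cy_restrict (isSetup_sqY P.hY s) (P.eY s j) (P.setupYp s j)
    (CycPush.deltaCompat_preimmersion _ _) (CycPB.Cy.mk hα)
  ⟨A, congrFun hA, hAk⟩

/-- **The glued class.** -/
def glueClass : Bivar.Cl p f δX δY where
  op s k := P.glueOp s d k
  push s t h _ h' _ w₁ w₂ w₃ k := by
    intro α hα
    have hsY := isSetup_sqY P.hY s
    have htY := isSetup_sqY P.hY t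
    have hsX := isSetup_sqX P.hX s
    have htX := isSetup_sqX P.hX t
    haveI := hsY.1; haveI := htY.1; haveI := hsX.1; haveI := htX.1
    have hd : Cyc.DeltaCompat h t.δY' s.δY' := deltaCompat_of_comp w₁ s.compatY t.compatY
    have hd' : Cyc.DeltaCompat h' t.δX' s.δX' := deltaCompat_of_comp w₃ s.compatX t.compatX
    choose A hA hAk using P.exists_resY α hα
    have hp : ∀ j, ∃ (β : AlgebraicCycle (P.Xp t j) ℤ) (hβ : β ∈ Cyc.Zk (P.Xp t j) (P.δXp t j) (k - p)),
        (d j).op (P.t0 t j) k (ChowOps.cl (A j) (hAk j)) = ChowOps.cl β hβ ∧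
        ∀ (C : AlgebraicCycle (P.Yp s j) ℤ) (hC : C ∈ Cyc.Zk (P.Yp s j) (P.δYp s j) k)
          (C' : AlgebraicCycle (P.Xp s j) ℤ) (hC' : C' ∈ Cyc.Zk (P.Xp s j) (P.δXp s j) (k - p)),
          (∀ u, C u = pushF (P.hYp j t h w₁) (P.δYp t j) (P.δYp s j) ⇑(A j) u) →
          (∀ u, C' u = pushF (P.hXp j t h w₁) (P.δXp t j) (P.δXp s j) ⇑β u) →
          (d j).op (P.t0 s j) k (ChowOps.cl C hC) = ChowOps.cl C' hC' := fun j => by
      haveI : IsProper (P.hYp j t h w₁) := MorphismProperty.of_isPullback (P.isPullback_hYp j t h w₁) ‹_›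
      haveI : IsProper (P.hXp j t h w₁) := MorphismProperty.of_isPullback (P.isPullback_hXp j t w₁ w₂ w₃) ‹_›
      obtain ⟨β, hβ, e1, e2⟩ := (d j).push (P.t0 s j) (P.t0 t j) (P.hYp j t h w₁) (P.hXp j t h w₁)
        (pullback.lift_snd _ _ _) (P.hXp_fst j t h w₁) (pullback.lift_snd _ _ _) k (A j) (hAk j)
      refine ⟨β, hβ, e1, fun C hC C' hC' h1 h2 => ?_⟩
      have e : C = AlgebraicCycle.map (P.hYp j t h w₁) (P.δYp t j) (P.δYp s j) (A j) := DFunLike.ext _ _ h1
      have e' : C' = AlgebraicCycle.map (P.hXp j t h w₁) (P.δXp t j) (P.δXp s j) β := DFunLike.ext _ _ h2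
      subst e e'
      exact e2
    choose β hβ e1 e2 using hp
    obtain ⟨B, hB, hBe⟩ := (P.decX t).exists_glue (k := k - p) β hβ
    refine ⟨B, hB, P.glueOp_cl t d α hα B hB fun j => ?_, P.glueOp_cl s d _ _ _ _ fun j => ?_⟩
    · rw [P.decY_cl α hα j (A j) (hAk j) (CycPB.RZ.zero.eq (funext fun u => by rw [hA, sub_self])), e1 j]
      exact (P.decX_cl B hB j (β j) (hβ j)
        (CycPB.RZ.zero.eq (funext fun u => (sub_eq_zero.2 (hBe j u)).symm))).symm
    · haveI : IsProper (P.hYp j t h w₁) := MorphismProperty.of_isPullback (P.isPullback_hYp j t h w₁) ‹_›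
      haveI : IsProper (P.hXp j t h w₁) := MorphismProperty.of_isPullback (P.isPullback_hXp j t w₁ w₂ w₃) ‹_›
      have hdY : Cyc.DeltaCompat (P.hYp j t h w₁) (P.δYp t j) (P.δYp s j) :=
        deltaCompat_of_comp (pullback.lift_snd _ _ _) (P.compat_Yp s j) (P.compat_Yp t j)
      have hdX : Cyc.DeltaCompat (P.hXp j t h w₁) (P.δXp t j) (P.δXp s j) :=
        deltaCompat_of_comp (pullback.lift_snd _ _ _) (P.compat_Xp s j) (P.compat_Xp t j)
      haveI := (P.setupYp s j).1; haveI := (P.setupXp s j).1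
      have hC := Bivar.cycMap_mem_Zk (P.hYp j t h w₁) (P.δYp t j) (P.δYp s j) k (hAk j)
      have hC' := Bivar.cycMap_mem_Zk (P.hXp j t h w₁) (P.δXp t j) (P.δXp s j) (k - p) (hβ j)
      rw [P.decY_cl _ _ j _ hC (CycPB.RZ.zero.eq (funext fun u => (sub_eq_zero.2 ?_).symm)),
        e2 j _ hC _ hC' (fun u => rfl) (fun u => rfl)]
      · refine (P.decX_cl _ _ j _ hC' (CycPB.RZ.zero.eq (funext fun u => (sub_eq_zero.2 ?_).symm))).symm
        show pushF h' t.δX' s.δX' ⇑B (P.eX s j u) = pushF (P.hXp j t h w₁) (P.δXp t j) (P.δXp s j) ⇑(β j) u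
        have e := CycFin.push_pull (p := P.eX s j) (q := P.eX t j) (P.isPullback_hXp j t w₁ w₂ w₃)
          (P.setupXp s j).2.2 (P.setupXp t j).2.2 hd' hdX
          (hc_open (P.eX s j)) (hc_open (P.eX t j)) B u
        rw [show Cyc.pullFun (P.eX t j) (P.δXp t j) t.δX' 0 ⇑B = ⇑(β j) from funext fun z =>
          (congrFun (pullFun_openImm (P.eX t j) (CycPush.deltaCompat_preimmersion _ _) ⇑B) z).trans (hBe j z)] at e
        exact (congrFun (pullFun_openImm (P.eX s j) (CycPush.deltaCompat_preimmersion (P.eX s j) s.δX') _) u).symm.trans e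
      · show pushF h t.δY' s.δY' ⇑α (P.eY s j u) = pushF (P.hYp j t h w₁) (P.δYp t j) (P.δYp s j) ⇑(A j) u
        have e := CycFin.push_pull (p := P.eY s j) (q := P.eY t j) (P.isPullback_hYp j t h w₁)
          (P.setupYp s j).2.2 (P.setupYp t j).2.2 hd hdY
          (hc_open (P.eY s j)) (hc_open (P.eY t j)) α u
        rw [show Cyc.pullFun (P.eY t j) (P.δYp t j) t.δY' 0 ⇑α = ⇑(A j) from funext fun z =>
          (congrFun (pullFun_openImm (P.eY t j) (CycPush.deltaCompat_preimmersion _ _) ⇑α) z).trans (hA j z).symm] at e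
        exact (congrFun (pullFun_openImm (P.eY s j) (CycPush.deltaCompat_preimmersion (P.eY s j) s.δY') _) u).symm.trans e
  pull s t h _ h' _ r hr hr' w₁ w₂ w₃ k := by
    intro α hα
    haveI := s.lft; haveI := t.lft
    haveI := lft_g' s; haveI := lft_g' t
    haveI : LocallyOfFiniteType (h ≫ s.g) := by rw [w₁]; infer_instance
    haveI : LocallyOfFiniteType h := locallyOfFiniteType_of_comp h s.g
    haveI : LocallyOfFiniteType (h' ≫ s.g') := by rw [w₃]; infer_instance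
    haveI : LocallyOfFiniteType h' := locallyOfFiniteType_of_comp h' s.g'
    have hsY := isSetup_sqY P.hY s
    have htY := isSetup_sqY P.hY t
    have hsX := isSetup_sqX P.hX s
    have htX := isSetup_sqX P.hX t
    haveI := hsY.1; haveI := htY.1; haveI := hsX.1; haveI := htX.1
    have hd : Cyc.DeltaCompat h t.δY' s.δY' := deltaCompat_of_comp w₁ s.compatY t.compatY
    have hd' : Cyc.DeltaCompat h' t.δX' s.δX' := deltaCompat_of_comp w₃ s.compatX t.compatX
    choose A hA hAk using P.exists_resY α hα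
    have hp : ∀ j, ∃ (β : AlgebraicCycle (P.Xp s j) ℤ) (hβ : β ∈ Cyc.Zk (P.Xp s j) (P.δXp s j) (k - p)),
        (d j).op (P.t0 s j) k (ChowOps.cl (A j) (hAk j)) = ChowOps.cl β hβ ∧
        ∀ (C : AlgebraicCycle (P.Yp t j) ℤ) (_ : ⇑C = Cyc.pullFun (P.hYp j t h w₁) (P.δYp t j) (P.δYp s j) r ⇑(A j))
          (hC : C ∈ Cyc.Zk (P.Yp t j) (P.δYp t j) (k + r)),
          ∃ (C' : AlgebraicCycle (P.Xp t j) ℤ) (hC' : C' ∈ Cyc.Zk (P.Xp t j) (P.δXp t j) (k + r - p)),
            ⇑C' = Cyc.pullFun (P.hXp j t h w₁) (P.δXp t j) (P.δXp s j) r ⇑β ∧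
            (d j).op (P.t0 t j) (k + r) (ChowOps.cl C hC) = ChowOps.cl C' hC' := fun j => by
      haveI : Flat (P.hYp j t h w₁) := MorphismProperty.of_isPullback (P.isPullback_hYp j t h w₁) ‹_›
      haveI : Flat (P.hXp j t h w₁) := MorphismProperty.of_isPullback (P.isPullback_hXp j t w₁ w₂ w₃) ‹_›
      exact (d j).pull (P.t0 s j) (P.t0 t j) (P.hYp j t h w₁) (P.hXp j t h w₁) r
        ((S9358.result h (P.eY s j) (P.eY t j) (P.hYp j t h w₁) (P.isPullback_hYp j t h w₁) r).2.2 hr)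
        ((S9358.result h' (P.eX s j) (P.eX t j) (P.hXp j t h w₁) (P.isPullback_hXp j t w₁ w₂ w₃) r).2.2 hr')
        (pullback.lift_snd _ _ _) (P.hXp_fst j t h w₁) (pullback.lift_snd _ _ _) k (A j) (hAk j)
    choose β hβ e1 e2 using hp
    obtain ⟨B, hB, hBe⟩ := (P.decX s).exists_glue (k := k - p) β hβ
    refine ⟨B, hB, P.glueOp_cl s d α hα B hB fun j => ?_, fun α₁ hα₁e hα₁ => ?_⟩
    · rw [P.decY_cl α hα j (A j) (hAk j) (CycPB.RZ.zero.eq (funext fun u => by rw [hA, sub_self])), e1 j]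
      exact (P.decX_cl B hB j (β j) (hβ j)
        (CycPB.RZ.zero.eq (funext fun u => (sub_eq_zero.2 (hBe j u)).symm))).symm
    obtain ⟨B₁, hB₁e, hB₁⟩ := (CycPB.Cy.mk hB).pullR htX h' hd' hr'
    have hk : k - p + (r : ℤ) = k + r - p := by ring
    refine ⟨B₁, hk ▸ hB₁, hB₁e, P.glueOp_cl t d α₁ hα₁ B₁ _ fun j => ?_⟩
    haveI : Flat (P.hYp j t h w₁) := MorphismProperty.of_isPullback (P.isPullback_hYp j t h w₁) ‹_›
    haveI : Flat (P.hXp j t h w₁) := MorphismProperty.of_isPullback (P.isPullback_hXp j t w₁ w₂ w₃) ‹_›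
    haveI : LocallyOfFiniteType (P.hYp j t h w₁) := MorphismProperty.of_isPullback (P.isPullback_hYp j t h w₁) ‹_›
    haveI : LocallyOfFiniteType (P.hXp j t h w₁) :=
      MorphismProperty.of_isPullback (P.isPullback_hXp j t w₁ w₂ w₃) ‹_›
    have hdY : Cyc.DeltaCompat (P.hYp j t h w₁) (P.δYp t j) (P.δYp s j) :=
      deltaCompat_of_comp (pullback.lift_snd _ _ _) (P.compat_Yp s j) (P.compat_Yp t j)
    have hdX : Cyc.DeltaCompat (P.hXp j t h w₁) (P.δXp t j) (P.δXp s j) :=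
      deltaCompat_of_comp (pullback.lift_snd _ _ _) (P.compat_Xp s j) (P.compat_Xp t j)
    haveI := (P.setupYp t j).1; haveI := (P.setupXp t j).1; haveI := (P.setupYp s j).1; haveI := (P.setupXp s j).1
    obtain ⟨C, hC, hCk⟩ := P.exists_resY α₁ hα₁ j
    have hYr := hc_of hdY ((S9358.result h (P.eY s j) (P.eY t j) (P.hYp j t h w₁) (P.isPullback_hYp j t h w₁) r).2.2 hr)
    have hXr := hc_of hdX
      ((S9358.result h' (P.eX s j) (P.eX t j) (P.hXp j t h w₁) (P.isPullback_hXp j t w₁ w₂ w₃) r).2.2 hr')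
    obtain ⟨C', hC', hC'e, e3⟩ := e2 j C (funext fun u => by
      rw [hC u, hα₁e, show ⇑(A j) = Cyc.pullFun (P.eY s j) (P.δYp s j) s.δY' 0 ⇑α from
        (funext (hA j)).trans (pullFun_openImm (P.eY s j) (CycPush.deltaCompat_preimmersion _ _) ⇑α).symm,
        ← CycPull.pullFun_comp (P.eY s j) (P.hYp j t h w₁) (P.setupYp t j).2.2 (hc_open (P.eY s j)) hYr ⇑α]
      refine (congrFun (pullFun_openImm (P.eY t j) (CycPush.deltaCompat_preimmersion (P.eY t j) t.δY') _) u).symm.trans ?_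
      rw [← CycPull.pullFun_comp h (P.eY t j) (P.setupYp t j).2.2 (hc_of hd hr) (hc_open (P.eY t j)) ⇑α,
        (P.isPullback_hYp j t h w₁).w, add_comm]) hCk
    rw [P.decY_cl α₁ hα₁ j C hCk (CycPB.RZ.zero.eq (funext fun u => by rw [hC, sub_self])), e3]
    refine (P.decX_cl B₁ _ j C' hC' (CycPB.RZ.zero.eq (funext fun u => (sub_eq_zero.2 ?_).symm))).symm
    rw [hC'e, hB₁e, show ⇑(β j) = Cyc.pullFun (P.eX s j) (P.δXp s j) s.δX' 0 ⇑B from
      (funext fun z => (hBe j z).symm).trans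
        (pullFun_openImm (P.eX s j) (CycPush.deltaCompat_preimmersion _ _) ⇑B).symm,
      ← CycPull.pullFun_comp (P.eX s j) (P.hXp j t h w₁) (P.setupXp t j).2.2 (hc_open (P.eX s j)) hXr ⇑B]
    refine (congrFun (pullFun_openImm (P.eX t j) (CycPush.deltaCompat_preimmersion (P.eX t j) t.δX') _) u).symm.trans ?_
    rw [← CycPull.pullFun_comp h' (P.eX t j) (P.setupXp t j).2.2 (hc_of hd' hr') (hc_open (P.eX t j)) ⇑B,
      (P.isPullback_hXp j t w₁ w₂ w₃).w, add_comm]
  gysin s t i _ i' _ w₁ w₂ w₃ N hN σ hσ τ hτ k := by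
    intro α hα
    haveI := s.lft; haveI := t.lft
    have hsY := isSetup_sqY P.hY s
    have htY := isSetup_sqY P.hY t
    have hsX := isSetup_sqX P.hX s
    have htX := isSetup_sqX P.hX t
    haveI := hsY.1; haveI := htY.1; haveI := hsX.1; haveI := htX.1
    have hδi := delta_closed i (deltaCompat_of_comp w₁ s.compatY t.compatY)
    have hδi' := delta_closed i' (deltaCompat_of_comp w₃ s.compatX t.compatX)
    have hNX := PicLoc.isInvertible_pullback s.f' hN
    choose A hA hAk using P.exists_resY α hα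
    have hclY : ∀ j, IsClosedImmersion (P.hYp j t i w₁) := fun j =>
      MorphismProperty.of_isPullback (P.isPullback_hYp j t i w₁) ‹_›
    have hclX : ∀ j, IsClosedImmersion (P.hXp j t i w₁) := fun j =>
      MorphismProperty.of_isPullback (P.isPullback_hXp j t w₁ w₂ w₃) ‹_›
    have hNj : ∀ j, PicF.IsInvertible ((Scheme.Modules.pullback (P.eY s j)).obj N) := fun j =>
      PicLoc.isInvertible_pullback _ hN
    have hs' : ∀ j, ∃ σj : Γ((Scheme.Modules.pullback (P.eY s j)).obj N, (⊤ : (P.Yp s j).Opens)),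
        Cyc.IsZeroSchemeOf (P.hYp j t i w₁) ((Scheme.Modules.pullback (P.eY s j)).obj N) σj := fun j => by
      haveI := (P.setupYp s j).1
      obtain ⟨σj, h, -⟩ := CycPB.isZeroSchemeOf_pullback (P.eY s j) (P.isPullback_hYp j t i w₁).flip hN hσ
      exact ⟨σj, h⟩
    choose σj hσj using hs'
    have hφ : ∀ j, Nonempty ((Scheme.Modules.pullback (P.eX s j)).obj ((Scheme.Modules.pullback s.f').obj N) ≅
        (Scheme.Modules.pullback (P.t0 s j).f').obj ((Scheme.Modules.pullback (P.eY s j)).obj N)) := fun j =>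
      ⟨(Scheme.Modules.pullbackComp (P.eX s j) s.f').app N ≪≫ pullIso (P.eX_f' s j).symm N⟩
    let φ := fun j => (hφ j).some
    have ht' : ∀ j, ∃ τ₀ : Γ((Scheme.Modules.pullback (P.eX s j)).obj ((Scheme.Modules.pullback s.f').obj N),
          (⊤ : (P.Xp s j).Opens)),
        Cyc.IsZeroSchemeOf (P.hXp j t i w₁)
          ((Scheme.Modules.pullback (P.eX s j)).obj ((Scheme.Modules.pullback s.f').obj N)) τ₀ := fun j => by
      haveI := (P.setupXp s j).1
      obtain ⟨τ₀, h, -⟩ := CycPB.isZeroSchemeOf_pullback (P.eX s j) (P.isPullback_hXp j t w₁ w₂ w₃).flip hNX hτ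
      exact ⟨τ₀, h⟩
    choose τ₀ hτ₀ using ht'
    have hg : ∀ j, Bivar.GysinOK (P.t0 s j).δY' (P.t0 t j).δY' (P.t0 s j).δX' (P.t0 t j).δX' (P.hYp j t i w₁)
        ((Scheme.Modules.pullback (P.eY s j)).obj N) (σj j) (P.hXp j t i w₁)
        ((Scheme.Modules.pullback (P.t0 s j).f').obj ((Scheme.Modules.pullback (P.eY s j)).obj N))
        ((φ j).hom.app ⊤ (τ₀ j)) ((d j).op (P.t0 s j) k) ((d j).op (P.t0 t j) (k - 1)) := fun j => by
      haveI := hclY j
      haveI := hclX j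
      exact (d j).gysin (P.t0 s j) (P.t0 t j) (P.hYp j t i w₁) (P.hXp j t i w₁) (pullback.lift_snd _ _ _)
        (P.hXp_fst j t i w₁) (pullback.lift_snd _ _ _) _ (hNj j) (σj j) (hσj j) _
        (CycPB.isZeroSchemeOf_moduleIso (φ j) (hτ₀ j)) k
    choose β hβ e1 e2 using fun j => hg j (A j) (hAk j)
    obtain ⟨B, hB, hBe⟩ := (P.decX s).exists_glue (k := k - p) β hβ
    refine ⟨B, hB, P.glueOp_cl s d α hα B hB fun j => ?_, fun w hw γ hγe hγ w' hw' => ?_⟩
    · rw [P.decY_cl α hα j (A j) (hAk j) (CycPB.RZ.zero.eq (funext fun u => by rw [hA, sub_self])), e1 j]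
      exact (P.decX_cl B hB j (β j) (hβ j)
        (CycPB.RZ.zero.eq (funext fun u => (sub_eq_zero.2 (hBe j u)).symm))).symm
    obtain ⟨C, hCe, hC⟩ := (show Cy s.δX' (k - 1 - p + 1) ⇑B by
      rw [show k - 1 - p + 1 = k - p by ring]; exact CycPB.Cy.mk hB).cap hsX hNX (v := Cyc.gysinChoice _ τ w')
        (CycK0.gysinChoice_ne_zero hw')
    obtain ⟨ζ, hζe⟩ := CycK0.exists_comap (i := i') C
    have hζ : ζ ∈ Cyc.Zk t.X' t.δX' (k - 1 - p) := fun z hz => by
      rw [hζe]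
      exact hC _ fun e => hz (by rw [hδi']; exact e)
    refine ⟨ζ, hζ, fun z => by rw [hζe, hCe], P.glueOp_cl t d γ hγ ζ hζ fun j => ?_⟩
    haveI := hclY j
    haveI := hclX j
    have hsYp := P.setupYp s j
    have hsXp := P.setupXp s j
    haveI := hsYp.1; haveI := hsXp.1
    have hδY : P.δYp t j = fun u => P.δYp s j (P.hYp j t i w₁ u) :=
      delta_closed _ (deltaCompat_of_comp (pullback.lift_snd _ _ _) (P.compat_Yp s j) (P.compat_Yp t j))
    have hδX : P.δXp t j = fun u => P.δXp s j (P.hXp j t i w₁ u) :=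
      delta_closed _ (deltaCompat_of_comp (pullback.lift_snd _ _ _) (P.compat_Xp s j) (P.compat_Xp t j))
    obtain ⟨wj, hwj⟩ := CycPB.exists_sections (hNj j)
    have hAk' : Cy (P.δYp s j) (k - 1 + 1) ⇑(A j) := by rw [sub_add_cancel]; exact CycPB.Cy.mk (hAk j)
    obtain ⟨G₀, hG₀e, hG₀⟩ := hAk'.cap hsYp (hNj j) (v := Cyc.gysinChoice _ (σj j) wj)
      (CycK0.gysinChoice_ne_zero hwj)
    obtain ⟨G, hGe⟩ := CycK0.exists_comap (i := P.hYp j t i w₁) G₀
    have hG : G ∈ Cyc.Zk (P.Yp t j) (P.δYp t j) (k - 1) := fun z hz => by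
      rw [hGe]
      exact hG₀ _ fun e => hz (by rw [hδY]; exact e)
    have hNf := PicLoc.isInvertible_pullback (P.t0 s j).f' (hNj j)
    obtain ⟨wx, hwx⟩ := CycPB.exists_sections hNf
    have hNe := PicLoc.isInvertible_pullback (P.eX s j) hNX
    obtain ⟨w₀, hw₀⟩ := CycPB.exists_sections hNe
    obtain ⟨Z, hZ, hZe, e3⟩ := e2 j wj hwj G (fun z => by rw [hGe, hG₀e]) hG wx hwx
    have kY := gysin_pull_sq (r := 0) (k := k - 1) hsY hsYp (P.eY s j) (hasRelDim_openImm _)
      (CycPush.deltaCompat_preimmersion _ _) hN hσ (P.isPullback_hYp j t i w₁).flip (hσj j) α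
      (by rw [sub_add_cancel]; exact hα) w hw wj hwj
    rw [← hδY, ← hδi, ← funext hγe] at kY
    simp only [Nat.cast_zero, add_zero] at kY
    rw [pullFun_openImm (P.eY t j) (CycPush.deltaCompat_preimmersion _ _) ⇑γ,
      pullFun_openImm (P.eY s j) (CycPush.deltaCompat_preimmersion _ _) ⇑α, ← funext (hA j)] at kY
    have kX := gysin_pull_sq (r := 0) (k := k - 1 - p) hsX hsXp (P.eX s j) (hasRelDim_openImm _)
      (CycPush.deltaCompat_preimmersion _ _) hNX hτ (P.isPullback_hXp j t w₁ w₂ w₃).flip (hτ₀ j) B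
      (by rw [show k - 1 - p + 1 = k - p by ring]; exact hB) w' hw' w₀ hw₀
    have hζf : (fun d => Cyc.c1CapFun s.δX' ((Scheme.Modules.pullback s.f').obj N) ⇑B (Cyc.gysinChoice _ τ w') (i' d)) =
        ⇑ζ := funext fun z => by rw [hζe, hCe]
    rw [← hδX, ← hδi', hζf] at kX
    simp only [Nat.cast_zero, add_zero] at kX
    rw [pullFun_openImm (P.eX t j) (CycPush.deltaCompat_preimmersion _ _) ⇑ζ,
      pullFun_openImm (P.eX s j) (CycPush.deltaCompat_preimmersion _ _) ⇑B,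
      show (fun z => B (P.eX s j z)) = ⇑(β j) from funext fun z => hBe j z] at kX
    have kI := gysin_indep (i := P.hXp j t i w₁) (k := k - 1 - p) hsXp hNe hNf (φ j) (hτ₀ j)
      (CycPB.isZeroSchemeOf_moduleIso (φ j) (hτ₀ j)) hw₀ hwx (a := ⇑(β j))
      (by rw [show k - 1 - p + 1 = k - p by ring]; exact CycPB.Cy.mk (hβ j))
    rw [← hδX] at kI
    rw [P.decY_cl γ hγ j G hG (kY.eq (funext fun z => by rw [hGe, hG₀e])), e3]
    refine (P.decX_cl ζ hζ j Z hZ ((kX.sub kI).eq (funext fun z => ?_))).symm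
    rw [hZe]
    exact sub_sub_sub_cancel_right _ _ _

/-- the restriction of the glued class to a piece -/
theorem res_glueClass (j : J) : (P.glueClass d).res (P.sq j) = d j := by
  refine Bivar.Cl.ext (funext fun u => funext fun k => AddMonoidHom.ext fun x => ?_)
  obtain ⟨α, hα, rfl⟩ := Bivar.exists_rep x
  obtain ⟨C, hC, hCe⟩ := Bivar.exists_rep ((d j).op u k (ChowOps.cl α hα))
  rw [← hCe]
  refine P.glueOp_cl ((P.sq j).paste u) d α hα C hC fun j' => ?_
  let q := (P.sq j).paste u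
  haveI : IsOpenImmersion (P.eX q j') := P.instIsOpenImmersionEX q j'
  by_cases hj : j' = j
  swap
  · haveI : IsEmpty (P.Yp q j') := ⟨fun y => (P.hdisj j' j hj).le_bot
      ⟨⟨pullback.snd q.g (P.sq j').g y, (congr($(P.g_eq q j') y)).symm⟩, ⟨u.g (P.eY q j' y), rfl⟩⟩⟩
    haveI : IsEmpty (P.Xp q j') := ⟨fun x => IsEmpty.false (pullback.fst (pullback.snd q.g (P.sq j').g) (P.sq j').f' x)⟩
    refine ((congrArg _ (?_ : (P.decY q).resHom k (ChowOps.cl α hα) j' = ChowOps.cl 0 (ChowOps.zk _ _ k).zero_mem)).trans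
      (map_zero ((d j').op (P.t0 q j') k))).trans ?_
    · exact P.decY_cl (s := q) α hα j' 0 _ (CycPB.RZ.zero.eq (funext fun z => isEmptyElim z))
    · exact (P.decX_cl (s := q) C hC j' 0 (ChowOps.zk _ _ (k - p)).zero_mem
        (CycPB.RZ.zero.eq (funext fun z => isEmptyElim z))).symm
  subst hj
  haveI := u.lft
  haveI := lft_g' u
  have huY : Cyc.IsSetup u.Y' u.δY' := isSetup_sqY (isSetup_sqY P.hY _) u
  have huX : Cyc.IsSetup u.X' u.δX' := isSetup_sqX (isSetup_sqX P.hX _) u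
  haveI := huY.1; haveI := huX.1
  have hw1 : P.eY q j' ≫ u.g = pullback.snd q.g (P.sq j').g := by
    rw [← cancel_mono (P.sq j').g, Category.assoc]
    exact P.g_eq q j'
  have hw3 : P.eX q j' ≫ u.g' = pullback.snd _ (P.sq j').f' := by
    refine (P.sq j').isPullback.hom_ext ?_ ?_
    · rw [Category.assoc, ← u.isPullback.w, ← Category.assoc,
        show P.eX q j' ≫ u.f' = pullback.fst _ _ ≫ P.eY q j' from P.eX_f' q j', Category.assoc, hw1,
        pullback.condition]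
    · rw [Category.assoc]
      exact P.eX_g' q j'
  obtain ⟨A, hA, hAk⟩ := P.exists_resY (s := q) α hα j'
  obtain ⟨β, hβ, e1, H⟩ := (d j').pull u (P.t0 q j') (P.eY q j') (P.eX q j') 0
    (@hasRelDim_openImm _ _ huY.1 _ _) (@hasRelDim_openImm _ _ huX.1 _ _) hw1 (P.eX_f' q j') hw3 k α hα
  obtain ⟨β₁, hβ₁, hβ₁e, e2⟩ := H A (by
    rw [funext hA]
    exact (pullFun_openImm (P.eY q j') (CycPush.deltaCompat_preimmersion _ _) ⇑α).symm) (by simpa using hAk)
  have hβ₁k : β₁ ∈ Cyc.Zk (P.Xp q j') (P.δXp q j') (k - p) := by simpa using hβ₁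
  have tr : ∀ (l : ℤ) (_ : l = k) (hA' : A ∈ Cyc.Zk (P.Yp q j') (P.δYp q j') l)
      (hb : β₁ ∈ Cyc.Zk (P.Xp q j') (P.δXp q j') (l - p)),
      (d j').op (P.t0 q j') l (ChowOps.cl A hA') = ChowOps.cl β₁ hb →
      (d j').op (P.t0 q j') k (ChowOps.cl A hAk) = ChowOps.cl β₁ hβ₁k := by
    rintro l rfl hA' hb h
    exact h
  rw [P.decY_cl (s := q) α hα j' A hAk (CycPB.RZ.zero.eq (funext fun z => (sub_eq_zero.2 (hA z).symm).symm)),
    tr _ (by simp) _ hβ₁ e2]
  refine (P.decX_cl (s := q) C hC j' β₁ hβ₁k ?_).symm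
  have hr := rz_restrict huX (P.eX q j') (P.setupXp q j') (CycPush.deltaCompat_preimmersion _ _)
    (rz_of_cl_eq hβ hC (e1.symm.trans hCe.symm))
  refine hr.eq (funext fun z => ?_)
  rw [hβ₁e]
  show C (P.eX q j' z) - β (P.eX q j' z) = C (P.eX q j' z) -
    Cyc.pullFun (P.eX q j') (P.δXp q j') u.δX' ((0 : ℕ) : ℤ) ⇑β z
  rw [Nat.cast_zero, congrFun (pullFun_openImm (P.eX q j') (CycPush.deltaCompat_preimmersion _ _) ⇑β) z]

theorem res_bijective (P : Part f δX δY J) :
    Function.Bijective fun c : Bivar.Cl p f δX δY => fun j => c.res (P.sq j) :=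
  ⟨P.res_injective, fun d => ⟨P.glueClass d, funext fun j => P.res_glueClass d j⟩⟩

end Part

end Groth.Agent.BivarOps
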