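import Groth.Agent.BivarOps.SectionDiv
import Groth.Agent.BivarOps.ProperPush
import Groth.Agent.CycPB.TrivDiv

/-!
Bivariant classes commute with first Chern classes.
-/

set_option autoImplicit false
set_option linter.unusedSectionVars false
set_option linter.style.haveILetI false
set_option backward.isDefEq.respectTransparency false
set_option backward.isDefEq.respectTransparency.types false
set_option maxHeartbeats 1000000

universe u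

open CategoryTheory CategoryTheory.Limits AlgebraicGeometry Opposite
open Groth.Agent.CycPB (Cy RZ pushF)
open Groth.Agent.CycSec (secPull secPull_ne_zero)

noncomputable section

namespace Groth.Agent.BivarOps

variable {X P D : Scheme.{u}}

/-- on cycles of the closed subscheme, capping upstairs is capping downstairs -/
theorem selfInt {δ : P → ℤ} (hP : Cyc.IsSetup P δ) (i : D ⟶ P) [IsClosedImmersion i] {N : P.Modules}
    (hN : PicF.IsInvertible N) (v : (ξ : P) → Cyc.secFibre N ξ) (hv : ∀ ξ, v ξ ≠ 0) (a : AlgebraicCycle D ℤ) (d : D) :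
    Cyc.c1CapFun (fun d => δ (i d)) ((Scheme.Modules.pullback i).obj N) ⇑a (fun ξ => secPull i ξ (v (i ξ))) d =
      Cyc.c1CapFun δ N (pushF i (fun d => δ (i d)) δ ⇑a) v (i d) := by
  haveI := hP.1
  have hD := CycK0.isSetup_closed i hP
  haveI := hD.1
  refine Eq.trans ?_ (CycK0.push_c1CapFun i hD.2.2 hP.2.2 (CycPush.deltaCompat_preimmersion i δ) hN a v hv (i d))
  exact (CycPB.pushF_closed i δ _ d).symm

theorem rz_of_eq {δ : X → ℤ} {k : ℤ} {a b : X → ℤ} (h : ∀ x, a x = b x) : RZ δ k fun x => a x - b x :=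
  CycPB.RZ.zero.eq (funext fun x => (sub_eq_zero.2 (h x)).symm)

/-- the cap does not see the difference of rationally equivalent cycles -/
theorem cap_congr {δ : X → ℤ} (hX : Cyc.IsSetup X δ) {L : X.Modules} (hL : PicF.IsInvertible L)
    {v : (x : X) → Cyc.secFibre L x} (hv : ∀ x, v x ≠ 0) {k : ℤ} {a b : X → ℤ} (ha : Cy δ (k + 1) a)
    (hb : Cy δ (k + 1) b) (h : RZ δ (k + 1) fun x => a x - b x) :
    RZ δ k fun x => Cyc.c1CapFun δ L a v x - Cyc.c1CapFun δ L b v x :=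
  haveI := hX.1
  (h.cap hX hL hv).eq (funext fun x => ha.cap_sub hb v x)

variable {X' : Scheme.{u}} {δ : X → ℤ} {δ' : X' → ℤ}

/-- **A bivariant class commutes with the first Chern class of a module on the test scheme.** -/
theorem comm_c1 (hX : Cyc.IsSetup X δ) (hX' : Cyc.IsSetup X' δ') {f : X' ⟶ X} (hδ : Cyc.DeltaCompat f δ' δ) {p : ℤ}
    (c : Bivar.Cl p f δ' δ) (s : Bivar.Sq f δ' δ) {M : s.Y'.Modules} (hM : PicF.IsInvertible M) (k : ℤ)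
    (α : AlgebraicCycle s.Y' ℤ) (hα : α ∈ Cyc.Zk s.Y' s.δY' k)
    (v : (ξ : s.Y') → Cyc.secFibre M ξ) (hv : ∀ ξ, v ξ ≠ 0)
    (γ : AlgebraicCycle s.Y' ℤ) (hγe : ⇑γ = Cyc.c1CapFun s.δY' M ⇑α v) (hγ : γ ∈ Cyc.Zk s.Y' s.δY' (k - 1))
    (β : AlgebraicCycle s.X' ℤ) (hβ : β ∈ Cyc.Zk s.X' s.δX' (k - p))
    (hc : c.op s k (ChowOps.cl α hα) = ChowOps.cl β hβ)
    {M' : s.X'.Modules} (hM' : PicF.IsInvertible M') (φM : (Scheme.Modules.pullback s.f').obj M ≅ M')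
    (v' : (ξ : s.X') → Cyc.secFibre M' ξ) (hv' : ∀ ξ, v' ξ ≠ 0)
    (ζ : AlgebraicCycle s.X' ℤ) (hζe : ⇑ζ = Cyc.c1CapFun s.δX' M' ⇑β v')
    (hζ : ζ ∈ Cyc.Zk s.X' s.δX' (k - 1 - p)) :
    c.op s (k - 1) (ChowOps.cl γ hγ) = ChowOps.cl ζ hζ := by
  haveI := s.lft
  haveI := lft_g' s
  have hsY := isSetup_sqY hX s
  have hsX := isSetup_sqX hX' s
  haveI := hsY.1; haveI := hsX.1
  obtain ⟨P, π, hπ, i, hi, hiπ, N, hN, σ, hσ, ⟨φ⟩⟩ := exists_sectionDiv hM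
  haveI := hi; haveI := hπ
  let g₁ : P ⟶ X := π ≫ s.g
  obtain ⟨δP, hP, hgP⟩ := CycPB.exists_isSetup hX g₁
  haveI : LocallyOfFiniteType (pullback.snd g₁ f) := inferInstance
  obtain ⟨δQ, hQ, hgQ⟩ := CycPB.exists_isSetup hX' (pullback.snd g₁ f)
  haveI := hP.1; haveI := hQ.1
  let sP : Bivar.Sq f δ' δ := ⟨P, pullback g₁ f, g₁, pullback.fst g₁ f, pullback.snd g₁ f,
    IsPullback.of_hasPullback g₁ f, inferInstance, δP, δQ, hgP, hgQ⟩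
  have wY : i ≫ g₁ = s.g := by rw [← Category.assoc, hiπ, Category.id_comp]
  let j : s.X' ⟶ pullback g₁ f := pullback.lift (s.f' ≫ i) s.g' (by rw [Category.assoc, wY, s.isPullback.w])
  have w2 : j ≫ sP.f' = s.f' ≫ i := pullback.lift_fst _ _ _
  have w3 : j ≫ sP.g' = s.g' := pullback.lift_snd _ _ _
  have hsq := isPullback_mor (s := sP) (t := s) wY w2 w3
  haveI : IsClosedImmersion j := MorphismProperty.of_isPullback hsq ‹_›
  have hdi : Cyc.DeltaCompat i s.δY' δP := deltaCompat_of_comp wY hgP s.compatY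
  have hdj : Cyc.DeltaCompat j s.δX' δQ := deltaCompat_of_comp w3 hgQ s.compatX
  have eδY := delta_closed i hdi
  have eδX := delta_closed j hdj
  have hNQ := PicLoc.isInvertible_pullback sP.f' hN
  obtain ⟨τ, hτ, -⟩ := CycPB.isZeroSchemeOf_pullback (Q := pullback g₁ f) sP.f' hsq.flip hN hσ
  -- push forward
  obtain ⟨β₀, hβ₀, e1, e2⟩ := c.push sP s i j wY w2 w3 k α hα
  -- Gysin
  let α' := AlgebraicCycle.map i s.δY' δP α
  obtain ⟨β₁, hβ₁, e3, H⟩ := c.gysin sP s i j wY w2 w3 N hN σ hσ τ hτ k α' (Bivar.cycMap_mem_Zk i s.δY' δP k hα)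
  obtain ⟨w, hw⟩ := CycPB.exists_sections hN
  obtain ⟨w', hw'⟩ := CycPB.exists_sections hNQ
  let vP := Cyc.gysinChoice N σ w
  have hvP : ∀ ξ, vP ξ ≠ 0 := CycK0.gysinChoice_ne_zero hw
  have hNi := PicLoc.isInvertible_pullback i hN
  let v₁ : (ξ : s.Y') → Cyc.secFibre ((Scheme.Modules.pullback i).obj N) ξ := fun ξ => secPull i ξ (vP (i ξ))
  have hv₁ : ∀ ξ, v₁ ξ ≠ 0 := fun ξ => secPull_ne_zero i hN ξ (hvP _)
  obtain ⟨γ₁, hγ₁e, hγ₁⟩ := (show Cy s.δY' (k - 1 + 1) ⇑α by rw [sub_add_cancel]; exact CycPB.Cy.mk hα).cap hsY hNi hv₁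
  obtain ⟨ζ₁, hζ₁, hζ₁e, e4⟩ := H w hw γ₁ (fun d => by
    rw [hγ₁e]
    show _ = Cyc.c1CapFun δP N (pushF i s.δY' δP ⇑α) vP (i d)
    rw [eδY]
    exact selfInt hP i hN vP hvP α d) hγ₁ w' hw'
  have eγ : ChowOps.cl γ hγ = ChowOps.cl γ₁ hγ₁ := by
    refine cl_eq hγ hγ₁ ((CycPB.cap_iso (k := k - 1) hsY hNi hM φ hv₁ hv
      (show Cy s.δY' (k - 1 + 1) ⇑α by rw [sub_add_cancel]; exact CycPB.Cy.mk hα)).neg_diff.eq (funext fun y => ?_))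
    rw [hγe, hγ₁e]
  rw [eγ]
  refine e4.trans (cl_eq hζ₁ hζ ?_)
  -- compare
  let vQ := Cyc.gysinChoice ((Scheme.Modules.pullback sP.f').obj N) τ w'
  have hvQ : ∀ ξ, vQ ξ ≠ 0 := CycK0.gysinChoice_ne_zero hw'
  have hk : k - 1 - p + 1 = k - p := by ring
  have hb₁ : Cy δQ (k - 1 - p + 1) ⇑β₁ := by rw [hk]; exact CycPB.Cy.mk hβ₁
  have hb₀ : Cy δQ (k - 1 - p + 1) (pushF j s.δX' δQ ⇑β₀) := by
    rw [hk]
    exact ⟨_, rfl, Bivar.cycMap_mem_Zk j s.δX' δQ (k - p) hβ₀⟩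
  have r1 : RZ δQ (k - 1 - p + 1) fun x => β₁ x - pushF j s.δX' δQ ⇑β₀ x := by
    rw [hk]
    exact rz_of_cl_eq _ hβ₁ (e2.symm.trans e3)
  have r2 := cap_congr hQ hNQ hvQ hb₁ hb₀ r1
  obtain ⟨C, hCe, hC⟩ := r2.cy
  have r3 : RZ s.δX' (k - 1 - p) fun d => Cyc.c1CapFun δQ ((Scheme.Modules.pullback sP.f').obj N) ⇑β₁ vQ (j d) -
      Cyc.c1CapFun δQ ((Scheme.Modules.pullback sP.f').obj N) (pushF j s.δX' δQ ⇑β₀) vQ (j d) := by
    obtain ⟨G, hG⟩ := CycK0.exists_comap (i := j) C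
    obtain ⟨A, hA, hA'k, hA'⟩ := r1
    have key := CycK0.gysin_ratEquivZero hQ hNQ hτ hA' w' hw' G (fun d => by
      rw [hG, hCe, hA]
      exact (hb₁.cap_sub hb₀ vQ (j d)).symm)
    rw [← eδX] at key
    refine ⟨G, funext fun d => by rw [hG, hCe], fun d hd => ?_, key⟩
    rw [hG]
    exact hC _ fun e => hd (by rw [eδX]; exact e)
  have hNj := PicLoc.isInvertible_pullback j hNQ
  let v₂ : (ξ : s.X') → Cyc.secFibre ((Scheme.Modules.pullback j).obj ((Scheme.Modules.pullback sP.f').obj N)) ξ :=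
    fun ξ => secPull j ξ (vQ (j ξ))
  have hv₂ : ∀ ξ, v₂ ξ ≠ 0 := fun ξ => secPull_ne_zero j hNQ ξ (hvQ _)
  let ψ : (Scheme.Modules.pullback j).obj ((Scheme.Modules.pullback sP.f').obj N) ≅ M' :=
    (Scheme.Modules.pullbackComp j sP.f').app N ≪≫ pullIso (w2.symm) N ≪≫
      (Scheme.Modules.pullback s.f').mapIso φ ≪≫ φM
  have hβk : Cy s.δX' (k - 1 - p + 1) ⇑β := by rw [hk]; exact CycPB.Cy.mk hβ
  have hβ₀k : Cy s.δX' (k - 1 - p + 1) ⇑β₀ := by rw [hk]; exact CycPB.Cy.mk hβ₀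
  have r4 : RZ s.δX' (k - 1 - p) fun d => Cyc.c1CapFun s.δX' M' ⇑β₀ v' d - Cyc.c1CapFun s.δX' M' ⇑β v' d := by
    refine cap_congr hsX hM' hv' hβ₀k hβk ?_
    rw [hk]
    exact rz_of_cl_eq hβ hβ₀ (hc.symm.trans e1)
  have r5 := CycPB.cap_iso (k := k - 1 - p) hsX hNj hM' ψ hv₂ hv' hβ₀k
  refine ((r3.add r5).add r4).eq (funext fun d => ?_)
  have e5 : Cyc.c1CapFun δQ ((Scheme.Modules.pullback sP.f').obj N) (pushF j s.δX' δQ ⇑β₀) vQ (j d) =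
      Cyc.c1CapFun s.δX' ((Scheme.Modules.pullback j).obj ((Scheme.Modules.pullback sP.f').obj N)) ⇑β₀ v₂ d := by
    rw [eδX]
    exact (selfInt hQ j hNQ vQ hvQ β₀ d).symm
  rw [hζ₁e, hζe, e5]
  ring

/-- **An operational class commutes with the first Chern class of a module on the test scheme.** -/
theorem comm_c1_op (hX : Cyc.IsSetup X δ) {p : ℤ} (c : Bivar.OpCl p X δ) (s : Bivar.OSq X δ) {M : s.Y.Modules}
    (hM : PicF.IsInvertible M) (k : ℤ) (α : AlgebraicCycle s.Y ℤ) (hα : α ∈ Cyc.Zk s.Y s.δ k)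
    (v : (ξ : s.Y) → Cyc.secFibre M ξ) (hv : ∀ ξ, v ξ ≠ 0)
    (γ : AlgebraicCycle s.Y ℤ) (hγe : ⇑γ = Cyc.c1CapFun s.δ M ⇑α v) (hγ : γ ∈ Cyc.Zk s.Y s.δ (k - 1))
    (β : AlgebraicCycle s.Y ℤ) (hβ : β ∈ Cyc.Zk s.Y s.δ (k - p))
    (hc : c.op s k (ChowOps.cl α hα) = ChowOps.cl β hβ)
    (v' : (ξ : s.Y) → Cyc.secFibre M ξ) (hv' : ∀ ξ, v' ξ ≠ 0)
    (ζ : AlgebraicCycle s.Y ℤ) (hζe : ⇑ζ = Cyc.c1CapFun s.δ M ⇑β v') (hζ : ζ ∈ Cyc.Zk s.Y s.δ (k - 1 - p)) :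
    c.op s (k - 1) (ChowOps.cl γ hγ) = ChowOps.cl ζ hζ := by
  haveI := s.lft
  have hsY : Cyc.IsSetup s.Y s.δ := isSetup_test hX s.g s.compat
  haveI := hsY.1
  obtain ⟨P, π, hπ, i, hi, hiπ, N, hN, σ, hσ, ⟨φ⟩⟩ := exists_sectionDiv hM
  haveI := hi; haveI := hπ
  let g₁ : P ⟶ X := π ≫ s.g
  obtain ⟨δP, hP, hgP⟩ := CycPB.exists_isSetup hX g₁
  haveI := hP.1
  let sP : Bivar.OSq X δ := ⟨P, g₁, inferInstance, δP, hgP⟩
  have wY : i ≫ sP.g = s.g := by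
    show i ≫ π ≫ s.g = s.g
    rw [← Category.assoc, hiπ, Category.id_comp]
  have hdi : Cyc.DeltaCompat i s.δ δP := deltaCompat_of_comp wY hgP s.compat
  have eδY := delta_closed i hdi
  obtain ⟨β₀, hβ₀, e1, e2⟩ := c.push sP s i wY k α hα
  let α' := AlgebraicCycle.map i s.δ δP α
  obtain ⟨β₁, hβ₁, e3, H⟩ := c.gysin sP s i wY N hN σ hσ k α' (Bivar.cycMap_mem_Zk i s.δ δP k hα)
  obtain ⟨w, hw⟩ := CycPB.exists_sections hN
  let vP := Cyc.gysinChoice N σ w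
  have hvP : ∀ ξ, vP ξ ≠ 0 := CycK0.gysinChoice_ne_zero hw
  have hNi := PicLoc.isInvertible_pullback i hN
  let v₁ : (ξ : s.Y) → Cyc.secFibre ((Scheme.Modules.pullback i).obj N) ξ := fun ξ => secPull i ξ (vP (i ξ))
  have hv₁ : ∀ ξ, v₁ ξ ≠ 0 := fun ξ => secPull_ne_zero i hN ξ (hvP _)
  obtain ⟨γ₁, hγ₁e, hγ₁⟩ := (show Cy s.δ (k - 1 + 1) ⇑α by rw [sub_add_cancel]; exact CycPB.Cy.mk hα).cap hsY hNi hv₁
  obtain ⟨ζ₁, hζ₁, hζ₁e, e4⟩ := H w hw γ₁ (fun d => by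
    rw [hγ₁e]
    show _ = Cyc.c1CapFun δP N (pushF i s.δ δP ⇑α) vP (i d)
    rw [eδY]
    exact selfInt hP i hN vP hvP α d) hγ₁
  have eγ : ChowOps.cl γ hγ = ChowOps.cl γ₁ hγ₁ := by
    refine cl_eq hγ hγ₁ ((CycPB.cap_iso (k := k - 1) hsY hNi hM φ hv₁ hv
      (show Cy s.δ (k - 1 + 1) ⇑α by rw [sub_add_cancel]; exact CycPB.Cy.mk hα)).neg_diff.eq (funext fun y => ?_))
    rw [hγe, hγ₁e]
  rw [eγ]
  refine e4.trans (cl_eq hζ₁ hζ ?_)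
  have hk : k - 1 - p + 1 = k - p := by ring
  have hb₁ : Cy δP (k - 1 - p + 1) ⇑β₁ := by rw [hk]; exact CycPB.Cy.mk hβ₁
  have hb₀ : Cy δP (k - 1 - p + 1) (pushF i s.δ δP ⇑β₀) := by
    rw [hk]
    exact ⟨_, rfl, Bivar.cycMap_mem_Zk i s.δ δP (k - p) hβ₀⟩
  have r1 : RZ δP (k - 1 - p + 1) fun x => β₁ x - pushF i s.δ δP ⇑β₀ x := by
    rw [hk]
    exact rz_of_cl_eq _ hβ₁ (e2.symm.trans e3)
  obtain ⟨C, hCe, hC⟩ := (cap_congr hP hN hvP hb₁ hb₀ r1).cy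
  have r3 : RZ s.δ (k - 1 - p) fun d => Cyc.c1CapFun δP N ⇑β₁ vP (i d) -
      Cyc.c1CapFun δP N (pushF i s.δ δP ⇑β₀) vP (i d) := by
    obtain ⟨G, hG⟩ := CycK0.exists_comap (i := i) C
    obtain ⟨A, hA, hA'k, hA'⟩ := r1
    have key := CycK0.gysin_ratEquivZero hP hN hσ hA' w hw G (fun d => by
      rw [hG, hCe, hA]
      exact (hb₁.cap_sub hb₀ vP (i d)).symm)
    rw [← eδY] at key
    refine ⟨G, funext fun d => by rw [hG, hCe], fun d hd => ?_, key⟩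
    rw [hG]
    exact hC _ fun e => hd (by rw [eδY]; exact e)
  have hβk : Cy s.δ (k - 1 - p + 1) ⇑β := by rw [hk]; exact CycPB.Cy.mk hβ
  have hβ₀k : Cy s.δ (k - 1 - p + 1) ⇑β₀ := by rw [hk]; exact CycPB.Cy.mk hβ₀
  have r4 : RZ s.δ (k - 1 - p) fun d => Cyc.c1CapFun s.δ M ⇑β₀ v' d - Cyc.c1CapFun s.δ M ⇑β v' d := by
    refine cap_congr hsY hM hv' hβ₀k hβk ?_
    rw [hk]
    exact rz_of_cl_eq hβ hβ₀ (hc.symm.trans e1)
  have r5 := CycPB.cap_iso (k := k - 1 - p) hsY hNi hM φ hv₁ hv' hβ₀k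
  refine ((r3.add r5).add r4).eq (funext fun d => ?_)
  have e5 : Cyc.c1CapFun δP N (pushF i s.δ δP ⇑β₀) vP (i d) =
      Cyc.c1CapFun s.δ ((Scheme.Modules.pullback i).obj N) ⇑β₀ v₁ d := by
    rw [eδY]
    exact (selfInt hP i hN vP hvP β₀ d).symm
  rw [hζ₁e, hζe, e5]
  ring

end Groth.Agent.BivarOps
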