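import Groth.Agent.BivarOps.Clopen
import Groth.Agent.BivarOps.SigmaFinite
import Groth.Agent.BivarOps.BiratVanish

/-!
Cycles on all schemes locally of finite type over a base are generated by fundamental cycles of integral schemes
under finite push forward and open and closed gluing.
-/

set_option autoImplicit false
set_option linter.unusedSectionVars false
set_option linter.unusedVariables false
set_option linter.style.haveILetI false
set_option backward.isDefEq.respectTransparency false
set_option backward.isDefEq.respectTransparency.types false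
set_option maxHeartbeats 1000000

universe u

open CategoryTheory CategoryTheory.Limits AlgebraicGeometry Opposite
open Groth.Agent.CycPB (Cy RZ pushF ptF)

noncomputable section

namespace Groth.Agent.BivarOps

/-- a scheme locally of finite type over a base with its dimension function -/
structure LSch (S : Scheme.{u}) (δS : S → ℤ) : Type (u + 1) where
  Y : Scheme.{u}
  g : Y ⟶ S
  lft : LocallyOfFiniteType g
  δ : Y → ℤ
  compat : Cyc.DeltaCompat g δ δS
  setup : Cyc.IsSetup Y δ

variable {S : Scheme.{u}} {δS : S → ℤ}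

/-- the scheme over the base along a morphism -/
def LSch.mor (hS : Cyc.IsSetup S δS) (s : LSch S δS) {T : Scheme.{u}} (h : T ⟶ s.Y) [LocallyOfFiniteType h] :
    LSch S δS :=
  haveI := s.lft
  ⟨T, h ≫ s.g, inferInstance, (CycPB.exists_isSetup hS (h ≫ s.g)).choose,
    (CycPB.exists_isSetup hS (h ≫ s.g)).choose_spec.2, (CycPB.exists_isSetup hS (h ≫ s.g)).choose_spec.1⟩

theorem LSch.mor_compat (hS : Cyc.IsSetup S δS) (s : LSch S δS) {T : Scheme.{u}} (h : T ⟶ s.Y) [LocallyOfFiniteType h] :
    Cyc.DeltaCompat h (s.mor hS h).δ s.δ :=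
  deltaCompat_of_comp rfl s.compat (s.mor hS h).compat

/-- **The induction principle.** -/
theorem cy_induct (hS : Cyc.IsSetup S δS) {k : ℤ} (Q : (s : LSch S δS) → (s.Y → ℤ) → Prop)
    (hpush : ∀ (s t : LSch S δS) (h : t.Y ⟶ s.Y) [IsFinite h], h ≫ s.g = t.g →
      ∀ a, Cy t.δ k a → Q t a → Q s (pushF h t.δ s.δ a))
    (hglue : ∀ (t : LSch S δS) (J : Type u) (s : J → LSch S δS) (e : ∀ j, (s j).Y ⟶ t.Y)
      [∀ j, IsOpenImmersion (e j)], (∀ j, e j ≫ t.g = (s j).g) →
      (∀ j j', j ≠ j' → Disjoint (Set.range (e j)) (Set.range (e j'))) → (∀ x : t.Y, ∃ j, x ∈ Set.range (e j)) →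
      ∀ a, Cy t.δ k a → (∀ j, Q (s j) fun v => a (e j v)) → Q t a)
    (hgen : ∀ (s : LSch S δS) [AlgebraicGeometry.IsIntegral s.Y] (n : ℤ), s.δ (genericPoint s.Y) = k →
      Q s fun v => n * ptF (genericPoint s.Y) v)
    (s : LSch S δS) (A : AlgebraicCycle s.Y ℤ) (hA : A ∈ Cyc.Zk s.Y s.δ k) : Q s ⇑A := by
  classical
  haveI := s.lft
  haveI := s.setup.1
  let J : Type u := {y : s.Y // A y ≠ 0}
  let V : J → Scheme.{u} := fun j => (FlatFunLib.closureSub j.1).subscheme
  let ι : ∀ j, V j ⟶ s.Y := fun j => (FlatFunLib.closureSub j.1).subschemeι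
  haveI : ∀ j, IsClosedImmersion (ι j) := fun j => inferInstance
  have hlf : LocallyFinite fun j : J => Set.range (ι j) := fun x => by
    obtain ⟨U, hU, hfin⟩ := A.supportLocallyFiniteWithinDomain' x (Set.mem_univ x)
    refine ⟨interior U, interior_mem_nhds.2 hU, ?_⟩
    refine (hfin.preimage (Subtype.val_injective.injOn (s := _))).subset fun j hj => ?_
    obtain ⟨z, hz, hzU⟩ := hj
    exact ⟨interior_subset ((specializes_iff_mem_closure.2
      ((FlatFunLib.range_closureSub j.1).le hz)).mem_open isOpen_interior hzU), j.2⟩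
  let D : ∐ V ⟶ s.Y := Sigma.desc ι
  have hDι : ∀ j, Sigma.ι V j ≫ D = ι j := fun j => Sigma.ι_desc _ _
  haveI : IsFinite D := isFinite_sigmaDesc V ι hlf
  let t : LSch S δS := s.mor hS D
  have eta : ∀ j : J, ∃ η : V j, ι j η = j.1 := fun j =>
    (FlatFunLib.range_closureSub j.1).ge (subset_closure rfl)
  choose η hη using eta
  have hint : ∀ j, AlgebraicGeometry.IsIntegral (V j) := fun j => by
    haveI : IsReduced (V j) := DvrDom.isReduced_vanishingIdeal_subscheme _
    haveI : IrreducibleSpace (V j) := by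
      haveI : Nonempty (V j) := ⟨η j⟩
      haveI : PreirreducibleSpace (V j) := ⟨by
        have h : closure {η j} = Set.univ := Set.eq_univ_of_forall fun z =>
          (closureSub_irreducible j.1 (η j) (hη j) z).mem_closure
        exact h ▸ isIrreducible_singleton.closure.2⟩
      constructor; infer_instance
    exact isIntegral_of_irreducibleSpace_of_isReduced _
  haveI : ∀ j, LocallyOfFiniteType (Sigma.ι V j ≫ D) := fun j => by rw [hDι]; infer_instance
  let pj : J → LSch S δS := fun j => t.mor hS (T := V j) (Sigma.ι V j)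
  let eY : ∀ j, (pj j).Y ⟶ t.Y := fun j => Sigma.ι V j
  haveI heY : ∀ j, IsOpenImmersion (eY j) := fun j => inferInstanceAs (IsOpenImmersion (Sigma.ι V j))
  let ηY : ∀ j, (pj j).Y := η
  haveI hintY : ∀ j, AlgebraicGeometry.IsIntegral (pj j).Y := hint
  have hgenY : ∀ j, genericPoint (pj j).Y = ηY j := fun j =>
    ((genericPoint_spec (pj j).Y).specializes trivial).antisymm
      (closureSub_irreducible j.1 (η j) (hη j) _) |>.eq
  have hDe : ∀ j, eY j ≫ D = (ι j : (pj j).Y ⟶ s.Y) := hDι
  have hdisj : ∀ j j', j ≠ j' → Disjoint (Set.range (eY j)) (Set.range (eY j')) := fun j j' hne =>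
    Set.disjoint_left.2 fun z h h' => (disjoint_opensRange_sigmaι V j j' hne).le_bot
      (⟨h, h'⟩ : z ∈ (Sigma.ι V j).opensRange ⊓ (Sigma.ι V j').opensRange)
  have hcov : ∀ z : t.Y, ∃ j, z ∈ Set.range (eY j) := fun z => by
    obtain ⟨j, v, hv⟩ := (sigmaOpenCover V).exists_eq z
    exact ⟨j, v, hv⟩
  let DY : Decomp t.Y t.δ J := ⟨fun j => (pj j).Y, eY, heY, hdisj, hcov, fun j => (pj j).δ,
    fun j => t.mor_compat hS (T := V j) (Sigma.ι V j), t.setup, fun j => (pj j).setup⟩
  let a : t.Y → ℤ := fun z => if z ∈ Set.range (fun j => eY j (ηY j)) then A (D z) else 0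
  have hDη : ∀ j, D (eY j (ηY j)) = j.1 := fun j =>
    ((Scheme.Hom.comp_apply (Sigma.ι V j) D (η j)).symm.trans
      (congrArg (fun m : V j ⟶ s.Y => m (η j)) (hDι j))).trans (hη j)
  have hδη : ∀ j, t.δ (eY j (ηY j)) = s.δ (D (eY j (ηY j))) := fun j => by
    have h1 := Bivar.deltaCompat_comp (eY j) D _ _ _
      (CycPush.deltaCompat_preimmersion (eY j) t.δ) (s.mor_compat hS D)
    rw [hDe] at h1
    rw [CycPush.deltaCompat_unique (X := (pj j).Y) (ι j) h1 (CycPush.deltaCompat_preimmersion (ι j) s.δ) (ηY j)]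
    exact congrArg s.δ ((hη j).trans (hDη j).symm)
  have haj : ∀ j, (fun v => a (eY j v)) = fun v => A j.1 * ptF (ηY j) v := fun j => funext fun v => by
    show a (eY j v) = A j.1 * ptF (ηY j) v
    rw [CycPB.ptF_apply]
    by_cases hv : v = ηY j
    · subst hv
      rw [if_pos rfl, mul_one]
      show (if _ then _ else _) = _
      rw [if_pos ⟨j, rfl⟩, hDη]
    · rw [if_neg hv, mul_zero]
      refine if_neg ?_
      rintro ⟨i, hi⟩
      obtain rfl : i = j := DY.uniq ⟨_, hi⟩ ⟨v, rfl⟩
      exact hv ((eY i).isOpenEmbedding.injective hi.symm)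
  have hkj : ∀ j, (pj j).δ (ηY j) = k := fun j => by
    have e : (pj j).δ (ηY j) = t.δ (eY j (ηY j)) :=
      congrFun (delta_open (eY j) (t.mor_compat hS (T := V j) (Sigma.ι V j))) (ηY j)
    rw [e, hδη, hDη]
    exact by_contra fun h => j.2 (hA _ h)
  have ha : Cy t.δ k a := DY.cy_glue fun j => by
    show Cy (pj j).δ k fun v => a (eY j v)
    rw [haj]
    have := (CycPB.cy_ptF (pj j).δ (ηY j)).smul (A j.1)
    rw [hkj] at this
    exact this
  have hsupp : ∀ z, a z ≠ 0 → ∃ j, eY j (ηY j) = z := fun z hz => by_contra fun h => hz (if_neg h)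
  have hP : pushF D t.δ s.δ a = ⇑A := by
    refine pushF_points D _ _ (fun z hz => ?_) (fun z z' hz hz' he => ?_) (fun z hz => ?_) fun y hy => ?_
    · obtain ⟨j, rfl⟩ := hsupp z hz
      refine mapCoeff_one D _ ?_ (hδη j)
      have h2 := CycPush.residueFieldMap_surjective_pre (ι j) (η j)
      have h2' : Function.Surjective ((eY j ≫ D).residueFieldMap (ηY j)).hom := by rw [hDe]; exact h2
      rw [Scheme.residueFieldMap_comp] at h2'
      intro r
      obtain ⟨b, hb⟩ := h2' (((eY j).residueFieldMap (ηY j)).hom r)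
      exact ⟨b, ((eY j).residueFieldMap (ηY j)).hom.injective hb⟩
    · obtain ⟨j, rfl⟩ := hsupp z hz
      obtain ⟨j', rfl⟩ := hsupp z' hz'
      rw [hDη, hDη] at he
      obtain rfl : j = j' := Subtype.ext he
      rfl
    · exact (if_pos (hsupp z hz)).symm
    · refine ⟨_, hDη ⟨y, hy⟩, ?_⟩
      show (if _ then _ else _) ≠ _
      rw [if_pos ⟨⟨y, hy⟩, rfl⟩, hDη]
      exact hy
  rw [← hP]
  refine hpush s t D rfl a ha (hglue t J pj eY (fun j => rfl) hdisj hcov a ha fun j => ?_)
  rw [haj, ← hgenY j]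
  exact hgen (pj j) _ ((congrArg (pj j).δ (hgenY j)).trans (hkj j))

end Groth.Agent.BivarOps
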