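import Groth.Agent.BivarOps.Basic
import Groth.Agent.BivarOps.Clopen
import Groth.Agent.CycDim.PushPull
import Groth.Agent.CycDim.RelDim
import Groth.Agent.CycPB.LinCls
import Groth.Agent.AlgSpLib.FibreNoeth
import Groth.Agent.FibCrit.Scheme
import Groth.Agent.S9358

/-!
Exterior products of cycles over a field.
-/

set_option autoImplicit false
set_option linter.unusedSectionVars false
set_option linter.unusedVariables false
set_option linter.style.haveILetI false
set_option backward.isDefEq.respectTransparency false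
set_option backward.isDefEq.respectTransparency.types false
set_option maxHeartbeats 800000

universe u

open CategoryTheory CategoryTheory.Limits AlgebraicGeometry Opposite
open Groth.Agent.CycPB (Cy RZ pushF ptF)
open Groth.Agent.EquidimPt (IsFibMax)

noncomputable section

namespace Groth.Agent.BivarOps

variable {X Y P : Scheme.{u}}

/-- the coefficients of an exterior product -/
def extF (q₁ : P ⟶ X) (q₂ : P ⟶ Y) (δX : X → ℤ) (δY : Y → ℤ) (δP : P → ℤ) (u : X → ℤ) (v : Y → ℤ) (t : P) : ℤ :=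
  if δP t = δX (q₁ t) + δY (q₂ t) then
    u (q₁ t) * v (q₂ t) *
      ((Module.length (P.presheaf.stalk t) (P.presheaf.stalk t ⧸
        (Ideal.map (q₁.stalkMap t).hom (IsLocalRing.maximalIdeal (X.presheaf.stalk (q₁ t))) ⊔
          Ideal.map (q₂.stalkMap t).hom (IsLocalRing.maximalIdeal (Y.presheaf.stalk (q₂ t)))))).toNat : ℤ)
  else 0

variable (q₁ : P ⟶ X) (q₂ : P ⟶ Y) (δX : X → ℤ) (δY : Y → ℤ) (δP : P → ℤ)

theorem extF_symm (u : X → ℤ) (v : Y → ℤ) : extF q₁ q₂ δX δY δP u v = extF q₂ q₁ δY δX δP v u := funext fun t => by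
  unfold extF
  rw [add_comm (δX (q₁ t)), mul_comm (u (q₁ t)), sup_comm]

theorem extF_add_left (u u' : X → ℤ) (v : Y → ℤ) :
    extF q₁ q₂ δX δY δP (fun x => u x + u' x) v =
      fun t => extF q₁ q₂ δX δY δP u v t + extF q₁ q₂ δX δY δP u' v t := funext fun t => by
  unfold extF
  split_ifs <;> ring

theorem extF_smul_left (n : ℤ) (u : X → ℤ) (v : Y → ℤ) :
    extF q₁ q₂ δX δY δP (fun x => n * u x) v = fun t => n * extF q₁ q₂ δX δY δP u v t := funext fun t => by
  unfold extF
  split_ifs <;> ring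

theorem extF_smul_right (n : ℤ) (u : X → ℤ) (v : Y → ℤ) :
    extF q₁ q₂ δX δY δP u (fun y => n * v y) = fun t => n * extF q₁ q₂ δX δY δP u v t := funext fun t => by
  unfold extF
  split_ifs <;> ring

theorem extF_zero_left (v : Y → ℤ) : extF q₁ q₂ δX δY δP (fun _ => 0) v = fun _ => 0 := funext fun t => by
  unfold extF
  split_ifs <;> ring

theorem extF_congr_right (u : X → ℤ) {v v' : Y → ℤ} (t : P) (h : v (q₂ t) = v' (q₂ t)) :
    extF q₁ q₂ δX δY δP u v t = extF q₁ q₂ δX δY δP u v' t := by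
  unfold extF
  rw [h]

/-- a closed point of the spectrum of the residue field at a point of a subscheme -/
theorem exists_residueLift {V : Scheme.{u}} (j : V ⟶ Y) [IsClosedImmersion j] (η : V) :
    ∃ e : Spec (Y.residueField (j η)) ⟶ V, e ≫ j = Y.fromSpecResidueField (j η) := by
  haveI : IsIso (j.residueFieldMap η) := (ConcreteCategory.isIso_iff_bijective _).2
    ⟨RingHom.injective _, CycPush.residueFieldMap_surjective_pre j η⟩
  refine ⟨Spec.map (inv (j.residueFieldMap η)) ≫ V.fromSpecResidueField η, ?_⟩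
  rw [Category.assoc, ← Scheme.Hom.SpecMap_residueFieldMap_fromSpecResidueField, ← Spec.map_comp_assoc,
    IsIso.hom_inv_id, Spec.map_id, Category.id_comp]

variable {K : Type u} [Field K] {pX : X ⟶ Spec (.of K)} {pY : Y ⟶ Spec (.of K)}
  {V W : Scheme.{u}} [AlgebraicGeometry.IsIntegral V] {j : V ⟶ Y} [IsClosedImmersion j]
  {jW : W ⟶ P} [IsClosedImmersion jW] {rV : W ⟶ V}

/-- the kernel on local rings of the inverse image of an integral subscheme at its generic point -/
theorem ker_stalk_generic (hsq : IsPullback rV jW j q₂) (w : W) (hw : rV w = genericPoint V) :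
    RingHom.ker (jW.stalkMap w).hom =
      Ideal.map (q₂.stalkMap (jW w)).hom (IsLocalRing.maximalIdeal (Y.presheaf.stalk (q₂ (jW w)))) := by
  have hp : q₂ (jW w) = j (genericPoint V) := by
    rw [← Scheme.Hom.comp_apply, ← hsq.w, Scheme.Hom.comp_apply, hw]
  refine le_antisymm ?_ ?_
  · obtain ⟨z, hz⟩ : jW w ∈ Set.range (q₂.fiberι (j (genericPoint V))) := by
      rw [Scheme.Hom.range_fiberι]
      exact hp
    obtain ⟨e, he⟩ := exists_residueLift j (genericPoint V)
    obtain ⟨b, -, hb⟩ : ∃ b, b ≫ rV = q₂.fiberToSpecResidueField (j (genericPoint V)) ≫ e ∧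
        b ≫ jW = q₂.fiberι (j (genericPoint V)) :=
      ⟨hsq.lift _ _ (by rw [Category.assoc, he]; exact (q₂.fiber_fac _).symm), hsq.lift_fst _ _ _, hsq.lift_snd _ _ _⟩
    have hbz : b z = w := jW.isClosedEmbedding.injective (by rw [← Scheme.Hom.comp_apply, hb, hz])
    subst hbz
    have key : ∀ (m : q₂.fiber (j (genericPoint V)) ⟶ P), m = q₂.fiberι (j (genericPoint V)) →
        RingHom.ker (m.stalkMap z).hom ≤
          Ideal.map (q₂.stalkMap (m z)).hom (IsLocalRing.maximalIdeal (Y.presheaf.stalk (q₂ (m z)))) := by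
      rintro _ rfl
      exact (FibCrit.fiberι_stalkMap q₂ _ z).2.le
    intro c hc
    refine key (b ≫ jW) hb ?_
    show ((b ≫ jW).stalkMap z).hom c = 0
    rw [Scheme.Hom.stalkMap_comp]
    show (b.stalkMap z).hom ((jW.stalkMap (b z)).hom c) = 0
    rw [show (jW.stalkMap (b z)).hom c = 0 from hc, map_zero]
  · rw [Ideal.map_le_iff_le_comap]
    intro m hm
    rw [Ideal.mem_comap, RingHom.mem_ker]
    suffices H : ∀ (g : W ⟶ Y), g = rV ≫ j → ∀ m' : Y.presheaf.stalk (g w),
        m' ∈ IsLocalRing.maximalIdeal _ → (g.stalkMap w).hom m' = 0 by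
      have := H (jW ≫ q₂) hsq.w.symm m hm
      rw [Scheme.Hom.stalkMap_comp] at this
      exact this
    rintro _ rfl m' hm'
    rw [Scheme.Hom.stalkMap_comp]
    show (rV.stalkMap w).hom ((j.stalkMap (rV w)).hom m') = 0
    have hf : IsField (V.presheaf.stalk (rV w)) := by
      rw [hw]
      exact (inferInstance : Field V.functionField).toIsField
    have h0 : (j.stalkMap (rV w)).hom m' ∈ IsLocalRing.maximalIdeal (V.presheaf.stalk (rV w)) :=
      fun hu => hm' (isUnit_of_map_unit (j.stalkMap (rV w)).hom _ hu)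
    rw [IsLocalRing.isField_iff_maximalIdeal_eq.1 hf, Ideal.mem_bot] at h0
    rw [h0, map_zero]

theorem length_quot_map {A B : Type u} [CommRing A] [CommRing B] (φ : A →+* B) (hφ : Function.Surjective φ)
    (I : Ideal A) : Module.length B (B ⧸ Ideal.map φ I) = Module.length A (A ⧸ (I ⊔ RingHom.ker φ)) := by
  letI := φ.toAlgebra
  rw [← Module.length_eq_of_surjective (R := B) (M := B ⧸ Ideal.map φ I) (S := A) hφ]
  let f : A →ₗ[A] B ⧸ Ideal.map φ I := ((Ideal.Quotient.mkₐ A (Ideal.map φ I)).comp (Algebra.ofId A B)).toLinearMap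
  have hs : Function.Surjective f := Ideal.Quotient.mk_surjective.comp hφ
  have hk : LinearMap.ker f = I ⊔ RingHom.ker φ := by
    ext a
    rw [RingHom.ker_eq_comap_bot, ← Ideal.comap_map_of_surjective φ hφ, Ideal.mem_comap, LinearMap.mem_ker]
    exact Ideal.Quotient.eq_zero_iff_mem
  rw [← hk]
  exact ((f.quotKerEquivOfSurjective hs).length_eq).symm

variable [LocallyOfFiniteType pX] [LocallyOfFiniteType pY]
  (hP : IsPullback q₁ q₂ pX pY) (hX : Cyc.IsSetup X δX) (hPs : Cyc.IsSetup P δP)
  (hδY : Cyc.DeltaCompat pY δY fun _ => 0) (hδP : Cyc.DeltaCompat q₁ δP δX)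

omit [LocallyOfFiniteType pX] in
theorem piece_square (hP : IsPullback q₁ q₂ pX pY) (hsq : IsPullback rV jW j q₂) :
    IsPullback (jW ≫ q₁) rV pX (j ≫ pY) :=
  (hsq.paste_vert hP.flip).flip

/-- the relative dimension of a piece -/
theorem piece_relDim (hP : IsPullback q₁ q₂ pX pY) (hδY : Cyc.DeltaCompat pY δY fun _ => 0)
    (hsq : IsPullback rV jW j q₂) {d : ℕ} (hd : δY (j (genericPoint V)) = d) :
    Cyc.HasRelDim (jW ≫ q₁) d := by
  haveI : IsLocallyNoetherian (Spec (CommRingCat.of K)) := inferInstance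
  have h1 : Cyc.HasRelDim (j ≫ pY) d := by
    refine CycDim.hasRelDim_of_trdeg _ d fun x hx => ?_
    obtain rfl : genericPoint V = x := hx _ (by
      haveI : Subsingleton (Spec (CommRingCat.of K)) := inferInstanceAs (Subsingleton (PrimeSpectrum K))
      exact Subsingleton.elim _ _) ((genericPoint_spec V).specializes trivial)
    have hc := Bivar.deltaCompat_comp j pY _ _ _ (CycPush.deltaCompat_preimmersion j δY) hδY
    obtain ⟨n, hn, hn'⟩ := hc (genericPoint V)
    have : n = d := by
      simp only [hd, zero_add] at hn'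
      exact_mod_cast hn'.symm
    subst this
    exact hn
  exact (S9358.result (j ≫ pY) pX rV (jW ≫ q₁) (piece_square q₁ q₂ hP hsq).flip d).2.2 h1

theorem piece_flat (hP : IsPullback q₁ q₂ pX pY) (hsq : IsPullback rV jW j q₂) : Flat (jW ≫ q₁) :=
  MorphismProperty.of_isPullback (piece_square q₁ q₂ hP hsq).flip (AlgSpLib.flat_of_field (j ≫ pY))

/-- maximal points of the fibres of a piece are generic -/
theorem piece_generic (hP : IsPullback q₁ q₂ pX pY) (hsq : IsPullback rV jW j q₂) {w : W}
    (hw : IsFibMax (jW ≫ q₁) w) : rV w = genericPoint V := by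
  let g := jW ≫ q₁
  obtain ⟨z, hz⟩ : w ∈ Set.range (g.fiberι (g w)) := by
    rw [Scheme.Hom.range_fiberι]
    exact rfl
  have h1 : IsPullback (g.fiberι (g w)) (g.fiberToSpecResidueField (g w)) g (X.fromSpecResidueField (g w)) :=
    .of_hasPullback _ _
  haveI : Flat (g.fiberι (g w) ≫ rV) := MorphismProperty.of_isPullback
    (h1.paste_horiz (piece_square q₁ q₂ hP hsq).flip).flip (AlgSpLib.flat_of_field (X.fromSpecResidueField (g w) ≫ pX))
  obtain ⟨z', hz', hgen⟩ := Flat.generalizingMap (g.fiberι (g w) ≫ rV)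
    (show genericPoint V ⤳ (g.fiberι (g w) ≫ rV) z from (genericPoint_spec V).specializes trivial)
  have e : g.fiberι (g w) z' = w := hw _ (by
    have := (Set.mem_range_self (f := g.fiberι (g w)) z')
    rw [Scheme.Hom.range_fiberι] at this
    exact this) ((hz'.map (g.fiberι (g w)).continuous).trans (specializes_of_eq hz))
  rw [← hgen, Scheme.Hom.comp_apply, e]

/-- **The exterior product with the class of an integral subscheme.** -/
theorem extF_pt (hP : IsPullback q₁ q₂ pX pY) (hX : Cyc.IsSetup X δX)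
    (hδY : Cyc.DeltaCompat pY δY fun _ => 0) (hδP : Cyc.DeltaCompat q₁ δP δX)
    (hsq : IsPullback rV jW j q₂) {d : ℕ} (hd : δY (j (genericPoint V)) = d) (u : X → ℤ) :
    extF q₁ q₂ δX δY δP u (ptF (j (genericPoint V))) =
      pushF jW (fun z => δP (jW z)) δP (Cyc.pullFun (jW ≫ q₁) (fun z => δP (jW z)) δX d u) := funext fun t => by
  classical
  haveI := hX.1
  haveI : LocallyOfFiniteType q₁ := MorphismProperty.of_isPullback hP.flip ‹LocallyOfFiniteType pY›
  by_cases ht : t ∈ Set.range jW
  · obtain ⟨w, rfl⟩ := ht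
    rw [CycPB.pushF_closed]
    have hq : q₂ (jW w) = j (rV w) := by rw [← Scheme.Hom.comp_apply, ← hsq.w, Scheme.Hom.comp_apply]
    have hdl := CycDim.delta_le (jW ≫ q₁)
      (Bivar.deltaCompat_comp jW q₁ _ _ _ (CycPush.deltaCompat_preimmersion jW δP) hδP)
      (piece_relDim q₁ q₂ δY hP hδY hsq hd) w
    by_cases hc : δP (jW w) = δX ((jW ≫ q₁) w) + (d : ℤ)
    · have hgen := piece_generic q₁ q₂ hP hsq (hdl.2.1 hc)
      have hc' : δP (jW w) = δX (q₁ (jW w)) + (d : ℤ) := hc
      show extF q₁ q₂ δX δY δP u _ _ = if _ then _ else _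
      rw [if_pos hc]
      unfold extF
      rw [if_pos (by rw [hq, hgen, hd]; exact hc'), CycPB.ptF_apply, if_pos (by rw [hq, hgen]), mul_one]
      refine congrArg₂ (· * ·) rfl (congrArg Nat.cast (congrArg ENat.toNat ?_))
      rw [Scheme.Hom.stalkMap_comp]
      show _ = Module.length (W.presheaf.stalk w) (_ ⧸ Ideal.map ((jW.stalkMap w).hom.comp (q₁.stalkMap (jW w)).hom) _)
      rw [← Ideal.map_map]
      refine Eq.trans ?_ (length_quot_map (jW.stalkMap w).hom (jW.stalkMap_surjective w) _).symm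
      rw [ker_stalk_generic q₂ hsq w hgen]
      rfl
    · show extF q₁ q₂ δX δY δP u _ _ = if _ then _ else _
      rw [if_neg hc]
      unfold extF
      by_cases hy : q₂ (jW w) = j (genericPoint V)
      · rw [if_neg]
        rw [hy, hd]
        exact hc
      · rw [CycPB.ptF_apply, if_neg hy, mul_zero, zero_mul, ite_self]
  · rw [CycPB.pushF_closed_of_notMem jW _ _ _ ht]
    unfold extF
    have hne : q₂ t ≠ j (genericPoint V) := ?_
    · rw [CycPB.ptF_apply, if_neg hne, mul_zero, zero_mul, ite_self]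
    intro hy
    obtain ⟨w, -, hw⟩ := Scheme.exists_preimage_of_isPullback hsq (genericPoint V) t hy.symm
    exact ht ⟨w, hw⟩

end Groth.Agent.BivarOps
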