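import Groth.Agent.BivarOps.ProdMaps
import Groth.Agent.CycDim.DegBase

/-!
Exterior products preserve rational equivalence.
-/

set_option autoImplicit false
set_option linter.unusedSectionVars false
set_option linter.unusedVariables false
set_option linter.style.haveILetI false
set_option backward.isDefEq.respectTransparency false
set_option backward.isDefEq.respectTransparency.types false
set_option maxHeartbeats 1000000

universe u

open CategoryTheory CategoryTheory.Limits AlgebraicGeometry Opposite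
open Groth.Agent.CycPB (Cy RZ pushF ptF)

noncomputable section

namespace Groth.Agent.BivarOps

variable {K : Type u} [Field K] {X Y P : Scheme.{u}}

theorem ext_rz {q₁ : P ⟶ X} {q₂ : P ⟶ Y} {pX : X ⟶ Spec (.of K)} {pY : Y ⟶ Spec (.of K)} [LocallyOfFiniteType pX]
    [LocallyOfFiniteType pY] [CompactSpace Y] (hP : IsPullback q₁ q₂ pX pY) {δX : X → ℤ} {δY : Y → ℤ} {δP : P → ℤ}
    (hX : Cyc.IsSetup X δX) (hY : Cyc.IsSetup Y δY) (hPs : Cyc.IsSetup P δP)
    (hδY : Cyc.DeltaCompat pY δY fun _ => 0) (hδP : Cyc.DeltaCompat q₁ δP δX)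
    {a l : ℤ} {u : X → ℤ} (hu : RZ δX a u) {v : Y → ℤ} (hv : Cy δY l v) :
    RZ δP (a + l) (extF q₁ q₂ δX δY δP u v) := by
  refine fin_induct (fun v => RZ δP (a + l) (extF q₁ q₂ δX δY δP u v)) ?_ (fun v v' _ _ h h' => ?_)
    (fun n z hz => ?_) hv
  · rw [extF_symm, extF_zero_left]
    exact CycPB.RZ.zero
  · rw [extF_symm, extF_add_left, extF_symm q₂ q₁, extF_symm q₂ q₁]
    exact h.add h'
  · obtain ⟨V, _, j, _, rfl⟩ := exists_integral_sub z
    obtain ⟨d, hd⟩ := exists_dim hδY (j (genericPoint V))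
    haveI := hX.1; haveI := hPs.1
    haveI : LocallyOfFiniteType q₁ := MorphismProperty.of_isPullback hP.flip ‹LocallyOfFiniteType pY›
    have hsq : IsPullback (pullback.fst j q₂) (pullback.snd j q₂) j q₂ := IsPullback.of_hasPullback _ _
    have hs := CycK0.isSetup_closed (pullback.snd j q₂) hPs
    haveI := hs.1
    haveI := piece_flat (K := K) q₁ q₂ hP hsq
    have cP := CycPush.deltaCompat_preimmersion (pullback.snd j q₂) δP
    rw [extF_smul_right, extF_pt q₁ q₂ δX δY δP hP hX hδY hδP hsq hd u]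
    have h1 := hu.pullR hX hs _ (Bivar.deltaCompat_comp _ q₁ _ _ _ cP hδP) (piece_relDim q₁ q₂ δY hP hδY hsq hd)
    rw [show a + (d : ℤ) = a + l by omega] at h1
    exact (h1.push _ hPs hs cP).smul n

theorem setup_of_compat {Z : Scheme.{u}} (p : Z ⟶ Spec (CommRingCat.of K)) [LocallyOfFiniteType p] {δ : Z → ℤ}
    (h : Cyc.DeltaCompat p δ fun _ => 0) : Cyc.IsSetup Z δ :=
  isSetup_test (CycDeg.isSetup_field K) p h

end Groth.Agent.BivarOps
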