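import Groth.Agent.BivarOps.Squares
import Groth.Agent.BivarOps.ProperPush
import Groth.Agent.CycPB.OpsPush

/-!
The relation on coefficient functions given by an operational class.
-/

set_option autoImplicit false
set_option linter.unusedSectionVars false
set_option linter.unusedVariables false
set_option linter.style.haveILetI false
set_option backward.isDefEq.respectTransparency false
set_option backward.isDefEq.respectTransparency.types false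
set_option maxHeartbeats 800000

universe u

open CategoryTheory CategoryTheory.Limits AlgebraicGeometry Opposite
open Groth.Agent.CycPB (Cy RZ pushF)

noncomputable section

namespace Groth.Agent.BivarOps

variable {X : Scheme.{u}} {δX : X → ℤ} {p : ℤ} (c : Bivar.OpCl p X δX)

/-- `c ∩ [a] = [b]` -/
def ORel (q : Bivar.OSq X δX) (k : ℤ) (a b : q.Y → ℤ) : Prop :=
  ∃ (A : AlgebraicCycle q.Y ℤ) (hA : A ∈ Cyc.Zk q.Y q.δ k) (B : AlgebraicCycle q.Y ℤ)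
    (hB : B ∈ Cyc.Zk q.Y q.δ (k - p)), ⇑A = a ∧ ⇑B = b ∧ c.op q k (ChowOps.cl A hA) = ChowOps.cl B hB

variable {c}

namespace ORel

variable {q t : Bivar.OSq X δX} {k : ℤ} {a a' b b' : q.Y → ℤ}

theorem cyA (h : ORel c q k a b) : Cy q.δ k a := let ⟨A, hA, _, _, e, _, _⟩ := h; ⟨A, e, hA⟩
theorem cyB (h : ORel c q k a b) : Cy q.δ (k - p) b := let ⟨_, _, B, hB, _, e, _⟩ := h; ⟨B, e, hB⟩

theorem of_cl {A B : AlgebraicCycle q.Y ℤ} {hA : A ∈ Cyc.Zk q.Y q.δ k} {hB : B ∈ Cyc.Zk q.Y q.δ (k - p)}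
    (e : c.op q k (ChowOps.cl A hA) = ChowOps.cl B hB) : ORel c q k ⇑A ⇑B := ⟨A, hA, B, hB, rfl, rfl, e⟩

theorem exists_rel (ha : Cy q.δ k a) : ∃ b, ORel c q k a b := by
  obtain ⟨A, rfl, hA⟩ := ha
  obtain ⟨B, hB, e⟩ := Bivar.exists_rep (c.op q k (ChowOps.cl A hA))
  exact ⟨⇑B, A, hA, B, hB, rfl, rfl, e.symm⟩

theorem congr (h : ORel c q k a b) (ha' : Cy q.δ k a') (hb' : Cy q.δ (k - p) b')
    (ha : RZ q.δ k fun x => a x - a' x) (hb : RZ q.δ (k - p) fun x => b x - b' x) : ORel c q k a' b' := by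
  obtain ⟨A, hA, B, hB, rfl, rfl, e⟩ := h
  obtain ⟨A', rfl, hA'⟩ := ha'
  obtain ⟨B', rfl, hB'⟩ := hb'
  exact ⟨A', hA', B', hB', rfl, rfl, by rw [← cl_eq hA hA' ha, e, cl_eq hB hB' hb]⟩

theorem unique (h : ORel c q k a b) (h' : ORel c q k a b') : RZ q.δ (k - p) fun x => b x - b' x := by
  obtain ⟨A, hA, B, hB, rfl, rfl, e⟩ := h
  obtain ⟨A', hA', B', hB', eA, rfl, e'⟩ := h'
  have : A' = A := DFunLike.ext' eA
  subst this
  exact rz_of_cl_eq hB' hB (e'.symm.trans e)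

theorem smul (n : ℤ) (h : ORel c q k a b) : ORel c q k (fun x => n * a x) fun x => n * b x := by
  obtain ⟨A, hA, B, hB, rfl, rfl, e⟩ := h
  refine ⟨n • A, (ChowOps.zk _ _ _).zsmul_mem hA n, n • B, (ChowOps.zk _ _ _).zsmul_mem hB n,
    funext fun x => smul_eq_mul n (A x), funext fun x => smul_eq_mul n (B x), ?_⟩
  show c.op q k (ChowOps.clHom _ _ k (n • ⟨A, hA⟩)) = ChowOps.clHom _ _ _ (n • ⟨B, hB⟩)
  rw [map_zsmul, map_zsmul, map_zsmul]
  exact congrArg (n • ·) e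

theorem push (hX : Cyc.IsSetup X δX) (q : Bivar.OSq X δX) {t : Bivar.OSq X δX} (h : t.Y ⟶ q.Y) [IsProper h]
    (w : h ≫ q.g = t.g) {k : ℤ} {a b : t.Y → ℤ} (hr : ORel c t k a b) :
    ORel c q k (pushF h t.δ q.δ a) (pushF h t.δ q.δ b) := by
  obtain ⟨A, hA, B, hB, rfl, rfl, e⟩ := hr
  obtain ⟨B₀, hB₀, e0, e1⟩ := c.push q t h w k A hA
  haveI := q.lft; haveI := t.lft
  have hq := isSetup_test hX q.g q.compat
  have ht := isSetup_test hX t.g t.compat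
  haveI := hq.1
  refine ORel.congr (q := q) ⟨_, Bivar.cycMap_mem_Zk h t.δ q.δ k hA, _, Bivar.cycMap_mem_Zk h t.δ q.δ _ hB₀,
    rfl, rfl, e1⟩ ⟨_, rfl, Bivar.cycMap_mem_Zk h t.δ q.δ k hA⟩
    ⟨_, rfl, Bivar.cycMap_mem_Zk h t.δ q.δ _ hB⟩ (CycPB.RZ.refl _) ?_
  have h2 := CycPB.RZ.push h hq ht (deltaCompat_of_comp w q.compat t.compat) (rz_of_cl_eq hB hB₀ (e.symm.trans e0))
  rw [CycPB.pushF_sub' h q.δ ⟨B₀, rfl, hB₀⟩ ⟨B, rfl, hB⟩] at h2
  exact h2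

theorem pull (hX : Cyc.IsSetup X δX) (t : Bivar.OSq X δX) {q : Bivar.OSq X δX} (h : t.Y ⟶ q.Y) [Flat h] (r : ℕ)
    (hr : Cyc.HasRelDim h r) (w : h ≫ q.g = t.g) {k l : ℤ} (hl : k + r = l) {a b : q.Y → ℤ}
    (hrel : ORel c q k a b) : ORel c t l (Cyc.pullFun h t.δ q.δ r a) (Cyc.pullFun h t.δ q.δ r b) := by
  subst hl
  obtain ⟨A, hA, B, hB, rfl, rfl, e⟩ := hrel
  obtain ⟨B₀, hB₀, e0, H⟩ := c.pull q t h r hr w k A hA
  haveI := q.lft; haveI := t.lft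
  haveI : LocallyOfFiniteType (h ≫ q.g) := by rw [w]; infer_instance
  haveI : LocallyOfFiniteType h := locallyOfFiniteType_of_comp h q.g
  have hq := isSetup_test hX q.g q.compat
  have ht := isSetup_test hX t.g t.compat
  haveI := hq.1
  have hd := deltaCompat_of_comp w q.compat t.compat
  obtain ⟨A₁, hA₁, hA₁k⟩ := (CycPB.Cy.mk hA).pullR ht h hd hr
  obtain ⟨B₁, hB₁, hB₁e, e1⟩ := H A₁ hA₁ hA₁k
  refine ORel.congr (q := t) ⟨A₁, hA₁k, B₁, hB₁, hA₁, hB₁e, e1⟩ ⟨A₁, hA₁, hA₁k⟩ ?_ (CycPB.RZ.refl _) ?_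
  · rw [show k + (r : ℤ) - p = k - p + r by ring]
    exact (CycPB.Cy.mk hB).pullR ht h hd hr
  · have hz := (rz_of_cl_eq hB hB₀ (e.symm.trans e0)).pullR hq ht h hd hr
    rw [CycPB.pullFun_sub (p := h), show k - p + (r : ℤ) = k + r - p by ring] at hz
    exact hz

end ORel

end Groth.Agent.BivarOps
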