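import Groth.Agent.BivarOps.ProdDeg
import Groth.Agent.BivarOps.CycInduct
import Groth.Agent.BivarOps.OpRel
import Groth.Agent.CycDim.DegBase

/-!
The cap product of an operational class with an exterior product, pushed to the second factor.
-/

set_option autoImplicit false
set_option linter.unusedSectionVars false
set_option linter.unusedVariables false
set_option linter.style.haveILetI false
set_option backward.isDefEq.respectTransparency false
set_option backward.isDefEq.respectTransparency.types false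
set_option maxHeartbeats 1000000

universe u

open CategoryTheory CategoryTheory.Limits AlgebraicGeometry Opposite
open Groth.Agent.CycPB (Cy RZ pushF ptF)

noncomputable section

namespace Groth.Agent.BivarOps

variable {K : Type u} [Field K] {X : Scheme.{u}} {pX : X ⟶ Spec (.of K)} {δX : X → ℤ} [IsProper pX]

/-- the dimension function of a point -/
abbrev δK (K : Type u) [Field K] : ↥(Spec (CommRingCat.of K)) → ℤ := fun _ => 0

/-- the product as a test scheme -/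
abbrev KProd.oP (C : KProd pX δX) : Bivar.OSq X δX := ⟨C.P, C.q₁, C.lft₁, C.δP, C.compatP⟩

instance KProd.instProper₂ (C : KProd pX δX) : IsProper C.q₂ := C.proper₂

/-- a product from a scheme over the field -/
abbrev LSch.prod (s : LSch _ (δK K)) {P : Scheme.{u}} (q₁ : P ⟶ X) (q₂ : P ⟶ s.Y) (sq : IsPullback q₁ q₂ pX s.g)
    (δP : P → ℤ) (cP : Cyc.DeltaCompat q₁ δP δX) (hPs : Cyc.IsSetup P δP) : KProd pX δX :=
  ⟨s.Y, P, s.g, q₁, q₂, s.lft, sq, s.δ, δP, s.compat, cP, s.setup, hPs⟩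

/-- the product with a scheme over the field -/
def prodOf (hX : Cyc.IsSetup X δX) (pX : X ⟶ Spec (.of K)) (s : LSch _ (δK K)) : KProd pX δX :=
  haveI := s.lft
  ⟨s.Y, pullback pX s.g, s.g, pullback.fst _ _, pullback.snd _ _, s.lft, IsPullback.of_hasPullback _ _, s.δ,
    (CycPB.exists_isSetup hX (pullback.fst pX s.g)).choose, s.compat,
    (CycPB.exists_isSetup hX (pullback.fst pX s.g)).choose_spec.2, s.setup,
    (CycPB.exists_isSetup hX (pullback.fst pX s.g)).choose_spec.1⟩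

/-- the map of products of a map over the field -/
def KMor.of (C C' : KProd pX δX) (h : C'.Y ⟶ C.Y) (w : h ≫ C.pY = C'.pY) : KMor C C' :=
  ⟨h, C.sq.lift C'.q₁ (C'.q₂ ≫ h) (by rw [Category.assoc, w]; exact C'.sq.w), w, C.sq.lift_fst _ _ _,
    C.sq.lift_snd _ _ _⟩

variable (hX : Cyc.IsSetup X δX) (hδX : Cyc.DeltaCompat pX δX fun _ => 0) {p : ℤ} (c : Bivar.OpCl p X δX)

theorem degF_ne {Z : Scheme.{u}} (q : Z ⟶ Spec (CommRingCat.of K)) [IsProper q] {δ : Z → ℤ} (hZ : Cyc.IsSetup Z δ)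
    {k : ℤ} (hk : k ≠ 0) {a : Z → ℤ} (ha : Cy δ k a) : degF q δ a = 0 := by
  obtain ⟨A, hA, hAk⟩ := ha.pushP (CycDeg.isSetup_field K) hZ q
  show pushF q δ _ a _ = 0
  rw [← hA]
  exact hAk _ fun h => hk h.symm

theorem cy_deg_smul {Z W : Scheme.{u}} (q : Z ⟶ Spec (CommRingCat.of K)) [IsProper q] {δ : Z → ℤ}
    (hZ : Cyc.IsSetup Z δ) {a l p : ℤ} {b : Z → ℤ} (hb : Cy δ (a - p) b) {δW : W → ℤ} {v : W → ℤ} (hv : Cy δW l v) :
    Cy δW (a + l - p) fun y => degF q δ b * v y := by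
  by_cases h : a - p = 0
  · rw [show a + l - p = l by omega]
    exact hv.smul _
  · simp only [degF_ne q hZ h hb, zero_mul]
    exact CycPB.Cy.zero

include hX hδX in
theorem cap_ext {a : ℤ} (U β : AlgebraicCycle X ℤ) (hU : U ∈ Cyc.Zk X δX a) (hβ : β ∈ Cyc.Zk X δX (a - p))
    (hUβ : ORel c (Bivar.OSq.self X δX) a ⇑U ⇑β) {l : ℤ} (C : KProd pX δX) (v : AlgebraicCycle C.Y ℤ)
    (hv : v ∈ Cyc.Zk C.Y C.δY l) {b : C.P → ℤ} (hb : ORel c C.oP (a + l) (C.ext ⇑U ⇑v) b) :
    RZ C.δY (a + l - p) fun y => pushF C.q₂ C.δP C.δY b y - degF pX δX ⇑β * v y := by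
  have hS : Cyc.IsSetup (Spec (CommRingCat.of K)) (δK K) := CycDeg.isSetup_field K
  have hU' := CycPB.Cy.mk hU
  have hβ' := CycPB.Cy.mk hβ
  let Q : (s : LSch _ (δK K)) → (s.Y → ℤ) → Prop := fun s v =>
    ∀ (P : Scheme.{u}) (q₁ : P ⟶ X) (q₂ : P ⟶ s.Y) (sq : IsPullback q₁ q₂ pX s.g) (δP : P → ℤ)
      (cP : Cyc.DeltaCompat q₁ δP δX) (hPs : Cyc.IsSetup P δP) (b : P → ℤ),
      ORel c (s.prod q₁ q₂ sq δP cP hPs).oP (a + l) ((s.prod q₁ q₂ sq δP cP hPs).ext ⇑U v) b →
      RZ s.δ (a + l - p) fun y =>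
        pushF (s.prod q₁ q₂ sq δP cP hPs).q₂ δP s.δ b y - degF pX δX ⇑β * v y
  suffices H : Q ⟨C.Y, C.pY, C.lft, C.δY, C.compatY, C.setupY⟩ ⇑v from
    H C.P C.q₁ C.q₂ C.sq C.δP C.compatP C.setupP b hb
  refine cy_induct hS (k := l) Q ?_ ?_ ?_ ⟨C.Y, C.pY, C.lft, C.δY, C.compatY, C.setupY⟩ v hv
  · intro s t h _ w v hv IH P q₁ q₂ sq δP cP hPs
    let C : KProd pX δX := s.prod q₁ q₂ sq δP cP hPs
    haveI : IsProper C.q₂ := C.proper₂
    haveI : LocallyOfFiniteType C.pY := C.lft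
    intro (b : C.P → ℤ) (hb : ORel c C.oP (a + l) (C.ext ⇑U (pushF h t.δ s.δ v)) b)
    show RZ C.δY (a + l - p) fun y => pushF C.q₂ C.δP C.δY b y - degF pX δX ⇑β * pushF h t.δ s.δ v y
    let C' := prodOf hX pX t
    let m := KMor.of C C' h w
    haveI : IsProper m.h := inferInstanceAs (IsProper h)
    haveI : IsProper m.H := m.proper_H
    obtain ⟨b', hb'⟩ := ORel.exists_rel (c := c) (q := C'.oP) (C'.ext_cy hX hδX hU' hv)
    have hIH : RZ C'.δY (a + l - p) fun y => pushF C'.q₂ C'.δP C'.δY b' y - degF pX δX ⇑β * v y :=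
      IH C'.P C'.q₁ C'.q₂ C'.sq C'.δP C'.compatP C'.setupP b' hb'
    have h2 : ORel c C.oP (a + l) (pushF m.H C'.δP C.δP (C'.ext ⇑U v)) (pushF m.H C'.δP C.δP b') :=
      ORel.push hX C.oP (t := C'.oP) m.H m.w₁ hb'
    rw [m.ext_push hX hδX hU' hv] at h2
    have hz := (hb.unique h2).push C.q₂ C.setupY C.setupP (C.compat₂ hδX)
    rw [CycPB.pushF_sub' C.q₂ C.δY hb.cyB h2.cyB] at hz
    have hI := hIH.push m.h C.setupY C'.setupY m.compat
    rw [CycPB.pushF_sub' m.h C.δY (hb'.cyB.pushP C'.setupY C'.setupP C'.q₂) (cy_deg_smul pX hX hβ' hv),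
      CycPB.pushF_smul] at hI
    have ecomm : pushF C.q₂ C.δP C.δY (pushF m.H C'.δP C.δP b') =
        pushF m.h C'.δY C.δY (pushF C'.q₂ C'.δP C'.δY b') := by
      obtain ⟨B, hB, hBk⟩ := hb'.cyB
      rw [← hB]
      exact (pushF_pushF C'.setupP C.setupP C.setupY m.H C.q₂ m.compatH (C.compat₂ hδX) B hBk).trans
        ((pushF_hom_eq m.w₂ _ _ _).trans
          (pushF_pushF C'.setupP C'.setupY C.setupY C'.q₂ m.h (C'.compat₂ hδX) m.compat B hBk).symm)
    rw [ecomm] at hz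
    exact hz.trans hI
  · intro t J s e _ w hdisj hcov v hv IH P q₁ q₂ sq δP cP hPs
    let C : KProd pX δX := t.prod q₁ q₂ sq δP cP hPs
    haveI : IsProper C.q₂ := C.proper₂
    haveI : LocallyOfFiniteType C.pY := C.lft
    intro (b : C.P → ℤ) (hb : ORel c C.oP (a + l) (C.ext ⇑U v) b)
    show RZ C.δY (a + l - p) fun y => pushF C.q₂ C.δP C.δY b y - degF pX δX ⇑β * v y
    haveI := C.setupY.1
    haveI := C.setupP.1
    have cj : ∀ j, Cyc.DeltaCompat (e j) (s j).δ t.δ := fun j => deltaCompat_of_comp (w j) t.compat (s j).compat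
    let DC : Decomp C.Y C.δY J :=
      ⟨fun j => (s j).Y, e, fun j => inferInstance, hdisj, hcov, fun j => (s j).δ, cj, C.setupY, fun j => (s j).setup⟩
    refine DC.rz_glue fun j => ?_
    let C' := prodOf hX pX (s j)
    let m := KMor.of C C' (e j) (w j)
    haveI : IsOpenImmersion m.h := inferInstanceAs (IsOpenImmersion (e j))
    haveI : IsOpenImmersion m.H := MorphismProperty.of_isPullback m.sq ‹_›
    haveI := C'.setupY.1; haveI := C'.setupP.1
    haveI : LocallyOfFiniteType C.q₁ := C.lft₁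
    have hh : Cyc.HasRelDim m.h 0 := hasRelDim_openImm _
    have h2 : ORel c C'.oP (a + l) (Cyc.pullFun m.H C'.δP C.δP (0 : ℕ) (C.ext ⇑U v))
        (Cyc.pullFun m.H C'.δP C.δP (0 : ℕ) b) :=
      ORel.pull hX C'.oP (q := C.oP) m.H 0 (hasRelDim_openImm _) m.w₁
        (show a + l + ((0 : ℕ) : ℤ) = a + l by simp) hb
    rw [m.ext_pull hX hδX hh hU' hv, Nat.cast_zero, pullFun_openImm m.h m.compat] at h2
    have h3 : RZ C'.δY (a + l - p) fun y =>
        pushF C'.q₂ C'.δP C'.δY (Cyc.pullFun m.H C'.δP C.δP 0 b) y - degF pX δX ⇑β * v (e j y) :=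
      IH j C'.P C'.q₁ C'.q₂ C'.sq C'.δP C'.compatP C'.setupP _ h2
    refine h3.eq (funext fun y => ?_)
    show _ = pushF C.q₂ C.δP C.δY b (e j y) - _
    refine congrArg₂ (· - ·) ?_ rfl
    obtain ⟨B, rfl, hBk⟩ := hb.cyB
    have key := CycFin.push_pull (p := m.h) (f := C.q₂) (q := m.H) (f' := C'.q₂) m.sq.flip
      C'.setupY.2.2 C'.setupP.2.2 (C.compat₂ hδX) (C'.compat₂ hδX)
      (hc_of m.compat hh) (hc_of m.compatH (hasRelDim_openImm m.H)) B y
    rw [Nat.cast_zero, pullFun_openImm m.h m.compat] at key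
    exact key.symm
  · intro s _ n hk P q₁ q₂ sq δP cP hPs
    let C : KProd pX δX := s.prod q₁ q₂ sq δP cP hPs
    haveI : IsProper C.q₂ := C.proper₂
    haveI : LocallyOfFiniteType C.pY := C.lft
    intro (b : C.P → ℤ) (hb : ORel c C.oP (a + l) (C.ext ⇑U fun y => n * ptF (genericPoint s.Y) y) b)
    show RZ C.δY (a + l - p) fun y => pushF C.q₂ C.δP C.δY b y - degF pX δX ⇑β * (n * ptF (genericPoint s.Y) y)
    haveI : AlgebraicGeometry.IsIntegral C.Y := inferInstanceAs (AlgebraicGeometry.IsIntegral s.Y)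
    obtain ⟨d, hd⟩ := exists_dim C.compatY (genericPoint C.Y)
    have hl : l = d := hk.symm.trans hd
    haveI := C.lft₁
    haveI : IsLocallyNoetherian X := hX.1
    haveI : Flat C.q₁ := MorphismProperty.of_isPullback C.sq.flip (AlgSpLib.flat_of_field C.pY)
    have hr : Cyc.HasRelDim C.q₁ d := by
      have := piece_relDim C.q₁ C.q₂ C.δY C.sq C.compatY (j := 𝟙 C.Y) (jW := 𝟙 C.P) (rV := C.q₂)
        (IsPullback.of_vert_isIso ⟨by rw [Category.comp_id, Category.id_comp]⟩) (d := d) (by simpa using hd)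
      rwa [Category.id_comp] at this
    have h2 : ORel c C.oP (a + l) (fun x : C.P => n * Cyc.pullFun C.q₁ C.δP δX d ⇑U x)
        (fun x : C.P => n * Cyc.pullFun C.q₁ C.δP δX d ⇑β x) :=
      (ORel.pull hX C.oP (q := Bivar.OSq.self X δX) C.q₁ d hr (Category.comp_id _)
        (show a + (d : ℤ) = a + l by rw [hl]) hUβ).smul n
    rw [← C.ext_generic hX hδX hd n ⇑U, ← C.ext_generic hX hδX hd n ⇑β] at h2
    have hz := (hb.unique h2).push C.q₂ C.setupY C.setupP (C.compat₂ hδX)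
    rw [CycPB.pushF_sub' C.q₂ C.δY hb.cyB h2.cyB, C.push_generic hX hδX hd n β] at hz
    exact hz

end Groth.Agent.BivarOps
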