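import Groth.Prelude.Def_IntMult
import Groth.Prelude.Def_WeilCoh
import Groth.Agent.CMFlat.RegImm
import Groth.Agent.CycDim.Chains
import Groth.Agent.GenDegree.Semicont
import Groth.Agent.BMCoh.Height
import Groth.Agent.DualGeneric.Basic
import Groth.Agent.S16238
import Groth.Agent.S6316
import Mathlib

/-!
Stalks of ideal sheaves and dimensions, for intersection multiplicities.
-/

set_option autoImplicit false
set_option linter.style.haveILetI false
set_option backward.isDefEq.respectTransparency false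

universe u

open CategoryTheory AlgebraicGeometry Topology
open Groth.Agent.CDivNormal (genPrime exists_genPrime_eq)

namespace Groth.Agent.BivarOps

variable {X : Scheme.{u}}

theorem stalkIdeal_eq (I : X.IdealSheafData) (z : I.subscheme) :
    IntMult.stalkIdeal I (I.subschemeι z) = RingHom.ker (I.subschemeι.stalkMap z).hom := by
  refine le_antisymm (iSup₂_le fun U hU => ?_) ?_
  · rw [CMFlat.ker_stalkMap_eq I.subschemeι z U hU, I.ker_subschemeι_app U]
  · obtain ⟨U, hU, hz, -⟩ := exists_isAffineOpen_mem_and_subset (x := I.subschemeι z) (U := ⊤) trivial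
    rw [CMFlat.ker_stalkMap_eq I.subschemeι z ⟨U, hU⟩ hz, I.ker_subschemeι_app ⟨U, hU⟩]
    exact le_iSup₂ (f := fun (V : X.affineOpens) (hV : I.subschemeι z ∈ (V : X.Opens)) =>
      (I.ideal V).map (X.presheaf.germ V.1 (I.subschemeι z) hV).hom) ⟨U, hU⟩ hz

theorem exists_point (I : X.IdealSheafData) {x : X} (hx : x ∈ I.support) : ∃ z : I.subscheme, I.subschemeι z = x := by
  have : x ∈ Set.range I.subschemeι := by rw [I.range_subschemeι]; exact hx
  exact this

theorem isPrime_stalkIdeal (I : X.IdealSheafData) [IsIntegral I.subscheme] {x : X} (hx : x ∈ I.support) :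
    (IntMult.stalkIdeal I x).IsPrime := by
  obtain ⟨z, rfl⟩ := exists_point I hx
  rw [stalkIdeal_eq]
  exact RingHom.ker_isPrime _

theorem stalkIdeal_le_maximal (I : X.IdealSheafData) {x : X} (hx : x ∈ I.support) :
    IntMult.stalkIdeal I x ≤ IsLocalRing.maximalIdeal (X.presheaf.stalk x) := by
  obtain ⟨z, rfl⟩ := exists_point I hx
  rw [stalkIdeal_eq]
  exact IsLocalRing.le_maximalIdeal (RingHom.ker_ne_top _)

/-- Restricting the stalk of an ideal sheaf to a generalisation stays in the maximal ideal exactly on the support. -/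
theorem mem_support_iff_le_genPrime (I : X.IdealSheafData) {y x : X} (h : y ⤳ x) :
    y ∈ I.support ↔ IntMult.stalkIdeal I x ≤ genPrime h := by
  constructor
  · intro hy
    refine iSup₂_le fun U hU => Ideal.map_le_iff_le_comap.2 fun a ha => ?_
    have hyU : y ∈ (U : X.Opens) := h.mem_open U.1.2 hU
    have hm : (X.presheaf.germ U.1 y hyU).hom a ∈ IsLocalRing.maximalIdeal (X.presheaf.stalk y) := fun hu => by
      have hb : y ∈ X.basicOpen a := (X.mem_basicOpen a y hyU).2 hu
      exact (X.mem_zeroLocus_iff _ y).1 ((I.mem_support_iff_of_mem hyU).1 hy) a ha hb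
    show (X.presheaf.stalkSpecializes h).hom ((X.presheaf.germ U.1 x hU).hom a) ∈
      IsLocalRing.maximalIdeal (X.presheaf.stalk y)
    rw [TopCat.Presheaf.germ_stalkSpecializes_apply]
    exact hm
  · intro hle
    obtain ⟨U, hU, hxU, -⟩ := exists_isAffineOpen_mem_and_subset (x := x) (U := ⊤) trivial
    have hyU : y ∈ U := h.mem_open U.2 hxU
    refine (I.mem_support_iff_of_mem (U := ⟨U, hU⟩) hyU).2 ((X.mem_zeroLocus_iff _ y).2 fun a ha hb => ?_)
    have hmap : (I.ideal ⟨U, hU⟩).map (X.presheaf.germ U x hxU).hom ≤ IntMult.stalkIdeal I x :=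
      le_iSup₂ (f := fun (V : X.affineOpens) (hV : x ∈ (V : X.Opens)) =>
        (I.ideal V).map (X.presheaf.germ V.1 x hV).hom) ⟨U, hU⟩ hxU
    have h1 : (X.presheaf.germ U x hxU).hom a ∈ genPrime h := hle (hmap (Ideal.mem_map_of_mem _ ha))
    have h2 : (X.presheaf.stalkSpecializes h).hom ((X.presheaf.germ U x hxU).hom a) ∈
        IsLocalRing.maximalIdeal (X.presheaf.stalk y) := h1
    rw [TopCat.Presheaf.germ_stalkSpecializes_apply] at h2
    exact h2 ((X.mem_basicOpen a y hyU).1 hb)

theorem radical_sup_stalkIdeal (I J : X.IdealSheafData) {x : X} (hI : x ∈ I.support) (hJ : x ∈ J.support)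
    (hmax : ∀ y : X, y ∈ I.support → y ∈ J.support → y ⤳ x → y = x) :
    (IntMult.stalkIdeal I x ⊔ IntMult.stalkIdeal J x).radical = IsLocalRing.maximalIdeal (X.presheaf.stalk x) := by
  refine le_antisymm ((IsLocalRing.maximalIdeal.isMaximal _).isPrime.radical_le_iff.2
    (sup_le (stalkIdeal_le_maximal I hI) (stalkIdeal_le_maximal J hJ))) ?_
  rw [Ideal.radical_eq_sInf]
  refine le_sInf fun Q ⟨hQ, hQp⟩ => ?_
  haveI := hQp
  obtain ⟨y, hy, rfl⟩ := exists_genPrime_eq x Q
  obtain rfl := hmax y ((mem_support_iff_le_genPrime I hy).2 (le_sup_left.trans hQ))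
    ((mem_support_iff_le_genPrime J hy).2 (le_sup_right.trans hQ)) hy
  intro a ha
  show (X.presheaf.stalkSpecializes hy).hom a ∈ IsLocalRing.maximalIdeal (X.presheaf.stalk y)
  simpa using ha

theorem ringKrullDim_stalk_eq {k : Type u} [Field k] (c : X ⟶ Spec (CommRingCat.of k))
    [LocallyOfFiniteType c] [IsIntegral X] (n : ℕ) (hn : topologicalKrullDim ↥X = n) (y : X) :
    ringKrullDim (X.presheaf.stalk y) = ((n - WeilCoh.pdim X y : ℕ) : WithBot ℕ∞) ∧ WeilCoh.pdim X y ≤ n := by
  have hηx : genericPoint X ⤳ y := genericPoint_specializes y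
  have hδ := CycDeg.isDimFun_dl c
  have hmono : ∀ z : X, y ≤ z → CycDeg.dl X y ≤ CycDeg.dl X z := fun z hz => by
    by_cases hzy : z = y
    · rw [hzy]
    · exact (CycDim.delta_lt hδ (CycDim.lt_of_spec (Scheme.le_iff_specializes.1 hz) hzy)).le
  obtain ⟨h1, h0⟩ := CycDim.krullDim_eq hδ (fun z => y ≤ z) (genericPoint X) y
    (Scheme.le_iff_specializes.2 hηx) le_rfl (Scheme.le_iff_specializes.2 hηx)
    (fun z hz => ⟨Scheme.le_iff_specializes.2 (genericPoint_specializes z), hmono z hz⟩) (fun z hz _ => hz)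
  have hdη : WeilCoh.pdim X (genericPoint X) = n := by
    rw [WeilCoh.pdim, WeilCoh.natDim, show closure ({genericPoint X} : Set X) = Set.univ from genericPoint_spec X,
      IsHomeomorph.topologicalKrullDim_eq _ (Homeomorph.Set.univ X).isHomeomorph, hn]
    rfl
  simp only [CycDeg.dl, hdη] at h0 h1
  rw [Int.toNat_sub] at h1
  refine ⟨?_, by exact_mod_cast h0⟩
  rw [ringKrullDim_stalk_eq_coheight, Order.coheight_eq_krullDim_Ici, ← h1]
  rfl

theorem stalk_quot_dim {k : Type u} [Field k] (c : X ⟶ Spec (CommRingCat.of k)) [LocallyOfFiniteType c]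
    (I : X.IdealSheafData) [IsIntegral I.subscheme] (r : ℕ) (hr : topologicalKrullDim I.support = r) {x : X}
    (hx : x ∈ I.support) :
    ringKrullDim (X.presheaf.stalk x ⧸ IntMult.stalkIdeal I x) = ((r - WeilCoh.pdim X x : ℕ) : WithBot ℕ∞) ∧
      WeilCoh.pdim X x ≤ r := by
  obtain ⟨z, rfl⟩ := exists_point I hx
  have e : I.subscheme ≃ₜ ↥(I.support : Set X) :=
    I.subschemeι.isClosedEmbedding.isEmbedding.toHomeomorph.trans (Homeomorph.setCongr I.range_subschemeι)
  obtain ⟨h1, h2⟩ := ringKrullDim_stalk_eq (I.subschemeι ≫ c) r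
    ((IsHomeomorph.topologicalKrullDim_eq _ e.isHomeomorph).trans hr) z
  rw [BMCoh.pdim_eq_of_isClosedEmbedding _ I.subschemeι.isClosedEmbedding z]
  refine ⟨?_, h2⟩
  rw [← h1, stalkIdeal_eq]
  exact ringKrullDim_eq_of_ringEquiv (RingHom.quotientKerEquivOfSurjective (I.subschemeι.stalkMap_surjective z))

theorem chi_eq_length {A : Type u} [CommRing A] (I J : Ideal A)
    (hT : ∀ i, 1 ≤ i → Subsingleton (DRing.Tor A i (A ⧸ I) (A ⧸ J))) :
    IntMult.chi A (A ⧸ I) (A ⧸ J) = ((Module.length A (A ⧸ (I ⊔ J))).toNat : ℤ) := by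
  rw [IntMult.chi, finsum_eq_single _ 0 fun i hi => ?_]
  · rw [pow_zero, one_mul]
    congr 2
    open Limits MonoidalCategory in
    haveI : PreservesFiniteColimits ((tensoringLeft (ModuleCat.{u} A)).obj (ModuleCat.of A (A ⧸ I))) :=
      inferInstanceAs (PreservesFiniteColimits (tensorLeft (ModuleCat.of A (A ⧸ I))))
    open Limits MonoidalCategory in
    let e := (((tensoringLeft (ModuleCat.{u} A)).obj (ModuleCat.of A (A ⧸ I))).leftDerivedZeroIsoSelf.app
      (ModuleCat.of A (A ⧸ J))).toLinearEquiv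
    refine e.length_eq.trans ((TensorProduct.quotTensorEquivQuotSMul (A ⧸ J) I).length_eq.trans ?_)
    refine LinearEquiv.length_eq (R := A) ?_
    have hI : (I • ⊤ : Submodule A (A ⧸ J)) = Submodule.map (Submodule.mkQ J) (I ⊔ J : Ideal A) := by
      rw [Submodule.map_sup, Submodule.mkQ_map_self, sup_bot_eq, ← Submodule.range_mkQ J, ← Submodule.map_top,
        ← Submodule.map_smul'', smul_eq_mul, Ideal.mul_top]
    exact (Submodule.quotEquivOfEq _ _ hI).trans (Submodule.quotientQuotientEquivQuotient J (I ⊔ J : Ideal A) le_sup_right)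
  · haveI := hT i (Nat.one_le_iff_ne_zero.2 hi)
    simp [Module.length_eq_zero]

theorem subsingleton_tor_of_regular_quot {A : Type u} [CommRing A] [IsNoetherianRing A] [IsLocalRing A] (n : ℕ)
    (x : Fin n → A) (hx : RingTheory.Sequence.IsWeaklyRegular A (List.ofFn x)) (J : Ideal A)
    (hIJ : Ideal.span (Set.range x) ⊔ J ≠ ⊤)
    (hJ : RingTheory.Sequence.IsWeaklyRegular (A ⧸ J) (List.ofFn fun i : Fin n => Ideal.Quotient.mk J (x i)))
    (i : ℕ) (hi : 1 ≤ i) :
    Subsingleton (DRing.Tor A i (A ⧸ J) (A ⧸ Ideal.span (Set.range x))) := by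
  obtain ⟨e⟩ := Groth.Agent.S6316.result A i
  refine ModuleCat.subsingleton_of_isZero (Limits.IsZero.of_iso ?_
    ((e.app (ModuleCat.of A (A ⧸ J))).app (ModuleCat.of A (A ⧸ Ideal.span (Set.range x)))))
  exact (Groth.Agent.S16238.result A n x hx J hIJ).1 hJ i hi

theorem pdim_le_of_proper {V W : Set X} (hV : IsClosed V) (hW : IsClosed W) {x : X} (hxV : x ∈ V) (hxW : x ∈ W)
    {m : ℕ} (hm : topologicalKrullDim ↥(V ∩ W) ≤ (m : WithBot ℕ∞)) : WeilCoh.pdim X x ≤ m := by
  have hsub : closure ({x} : Set X) ⊆ V ∩ W := closure_minimal (Set.singleton_subset_iff.2 ⟨hxV, hxW⟩) (hV.inter hW)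
  have h := ((IsInducing.subtypeVal.codRestrict (fun z => hsub z.2)).topologicalKrullDim_le).trans hm
  rw [WeilCoh.pdim, WeilCoh.natDim]
  revert h
  rcases topologicalKrullDim ↥(closure ({x} : Set X)) with _ | a
  · exact fun _ => Nat.zero_le _
  · exact fun h => ENat.toNat_le_of_le_natCast (WithBot.coe_le_coe.mp h)

theorem generic_not_le (V W : X.IdealSheafData) [IsIntegral X] [IsIntegral W.subscheme] {n r s : ℕ}
    (hn : topologicalKrullDim X = n) (hr : topologicalKrullDim V.support = r)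
    (hs : topologicalKrullDim W.support = s) (hrn : r ≤ n)
    (hprop : IntMult.ProperInt (V.support : Set X) (W.support : Set X) n r s) {x : X}
    (hxV : x ∈ V.support) (hxW : x ∈ W.support) (hne : V ≠ ⊥) :
    ¬ IntMult.stalkIdeal V x ≤ IntMult.stalkIdeal W x := by
  intro hle
  let η := W.subschemeι (genericPoint W.subscheme)
  have hηW : η ∈ W.support := W.range_subschemeι.subset ⟨_, rfl⟩
  have hηx : η ⤳ x := by
    obtain ⟨z, rfl⟩ := exists_point W hxW
    exact (genericPoint_specializes z).map W.subschemeι.continuous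
  have hηV : η ∈ V.support :=
    (mem_support_iff_le_genPrime V hηx).2 (hle.trans ((mem_support_iff_le_genPrime W hηx).1 hηW))
  have hsub : (W.support : Set X) ⊆ V.support := fun y hy => by
    obtain ⟨z, rfl⟩ := exists_point W hy
    exact ((genericPoint_specializes z).map W.subschemeι.continuous).mem_closed V.support.isClosed hηV
  obtain ⟨hle', hd⟩ := hprop ⟨x, hxV, hxW⟩
  have hs' : topologicalKrullDim ↥(W.support : Set X) = (s : WithBot ℕ∞) := hs
  have hr' : topologicalKrullDim ↥(V.support : Set X) = (r : WithBot ℕ∞) := hr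
  rw [Set.inter_eq_right.2 hsub, hs', Nat.cast_le] at hd
  refine hne (Scheme.IdealSheafData.support_eq_top_iff.1 (SetLike.coe_injective ?_))
  by_contra hu
  obtain ⟨d, hd1, hd2⟩ := DualGeneric.krullDim_closed_lt V.support.isClosed hu ⟨x, hxV⟩ hn.le
  rw [hr', Nat.cast_le] at hd2
  omega

end Groth.Agent.BivarOps
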