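import Groth.Agent.BivarOps.IntMultLemmas
import Groth.Agent.KChi.TorKoszul
import Groth.Agent.KChi.Dim

/-!
Proper intersection with a subscheme cut out by a regular sequence at a point.
-/

set_option autoImplicit false
set_option linter.style.haveILetI false
set_option backward.isDefEq.respectTransparency false

universe u

open CategoryTheory AlgebraicGeometry IsLocalRing

namespace Groth.Agent.BivarOps

theorem length_tor_flip {A : Type u} [CommRing A] (M N : Type u) [AddCommGroup M] [Module A M] [AddCommGroup N]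
    [Module A N] (i : ℕ) : Module.length A (DRing.Tor A i M N) = Module.length A (DRing.Tor A i N M) := by
  obtain ⟨e⟩ := Groth.Agent.S6316.result A i
  exact ((e.app (ModuleCat.of A M)).app (ModuleCat.of A N)).toLinearEquiv.length_eq

theorem chi_flip {A : Type u} [CommRing A] (M N : Type u) [AddCommGroup M] [Module A M] [AddCommGroup N]
    [Module A N] : IntMult.chi A M N = IntMult.chi A N M :=
  finsum_congr fun i => by rw [length_tor_flip M N i]

theorem mult_comm {X : Scheme.{u}} (IV IW : X.IdealSheafData) (x : X) :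
    IntMult.mult IV IW x = IntMult.mult IW IV x := chi_flip _ _

theorem dim_quot_of_proper {k : Type u} [Field k] {X : Scheme.{u}} (f : X ⟶ Spec (CommRingCat.of k))
    [LocallyOfFiniteType f] [IsLocallyNoetherian X] [IsIntegral X] (IV IW : X.IdealSheafData)
    [IsIntegral IV.subscheme] [IsIntegral IW.subscheme] (n r s : ℕ) (hn : topologicalKrullDim X = n)
    (hr : topologicalKrullDim IV.support = r) (hs : topologicalKrullDim IW.support = s)
    (hprop : IntMult.ProperInt (IV.support : Set X) (IW.support : Set X) n r s) {ξ : X} (hξV : ξ ∈ IV.support)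
    (hξW : ξ ∈ IW.support) (hmax : ∀ y : X, y ∈ IV.support → y ∈ IW.support → y ⤳ ξ → y = ξ)
    (c : ℕ) (g : Fin c → X.presheaf.stalk ξ) (hg : IntMult.stalkIdeal IV ξ = Ideal.span (Set.range g))
    (hreg : RingTheory.Sequence.IsRegular (X.presheaf.stalk ξ) (List.ofFn g)) :
    ringKrullDim (X.presheaf.stalk ξ ⧸ IntMult.stalkIdeal IW ξ) = (c : WithBot ℕ∞) ∧
      KChi.Ok (List.ofFn g) (X.presheaf.stalk ξ ⧸ IntMult.stalkIdeal IW ξ) := by
  obtain ⟨hA, -⟩ := ringKrullDim_stalk_eq f n hn ξ
  obtain ⟨hdV, hdr⟩ := stalk_quot_dim f IV r hr hξV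
  obtain ⟨hdW, hds⟩ := stalk_quot_dim f IW s hs hξW
  obtain ⟨hle, hd⟩ := hprop ⟨ξ, hξV, hξW⟩
  have hpd := pdim_le_of_proper IV.support.isClosed IW.support.isClosed hξV hξW hd
  have hof : Ideal.ofList (List.ofFn g) = IntMult.stalkIdeal IV ξ := by
    rw [hg, Ideal.ofList]
    congr 1
    ext a
    simp [List.mem_ofFn]
  have hc := ringKrullDim_add_length_eq_ringKrullDim_of_isRegular (List.ofFn g) hreg
  rw [hof, List.length_ofFn, hdV, hA] at hc
  norm_cast at hc
  have hok : KChi.Ok (List.ofFn g) (X.presheaf.stalk ξ ⧸ IntMult.stalkIdeal IW ξ) := by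
    rw [KChi.Ok, Ideal.annihilator_quotient, hof, radical_sup_stalkIdeal IV IW hξV hξW hmax]
  refine ⟨le_antisymm ?_ ?_, hok⟩
  · have h := KChi.supportDim_le_length (List.ofFn g) (fun a ha =>
      stalkIdeal_le_maximal IV hξV (hof ▸ Ideal.subset_span ha)) _ hok
    rwa [Module.supportDim_quotient_eq_ringKrullDim, List.length_ofFn] at h
  · rw [hdW, Nat.cast_le]
    omega

end Groth.Agent.BivarOps
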