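import Mathlib

/-!
Two ideals with sum the maximal ideal of a regular local ring and complementary dimensions.
-/

set_option autoImplicit false
set_option linter.style.haveILetI false

universe u

open IsLocalRing

namespace Groth.Agent.BivarOps

variable {A : Type u} [CommRing A] [IsRegularLocalRing A]

theorem exists_gens (P Q : Ideal A) (h : P ⊔ Q = maximalIdeal A) :
    ∃ T : Finset A, (↑T : Set A) ⊆ (P : Set A) ∪ Q ∧ Ideal.span (T : Set A) = maximalIdeal A ∧
      ((T.card : ℕ) : WithBot ℕ∞) ≤ ringKrullDim A := by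
  classical
  let S : Set (maximalIdeal A) := {x | (x : A) ∈ (P : Set A) ∪ Q}
  have hS : Submodule.span A S = ⊤ := by
    refine eq_top_iff.2 fun x _ => ?_
    have hx : (x : A) ∈ P ⊔ Q := h.ge x.2
    obtain ⟨a, ha, b, hb, hab⟩ := Submodule.mem_sup.1 hx
    have ham : a ∈ maximalIdeal A := h.le (Ideal.mem_sup_left ha)
    have hbm : b ∈ maximalIdeal A := h.le (Ideal.mem_sup_right hb)
    have : x = ⟨a, ham⟩ + ⟨b, hbm⟩ := Subtype.ext hab.symm
    rw [this]
    exact add_mem (Submodule.subset_span (Or.inl ha)) (Submodule.subset_span (Or.inr hb))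
  obtain ⟨b, hbS, hbspan, hbli⟩ := exists_linearIndependent (ResidueField A) ((maximalIdeal A).toCotangent '' S)
  rw [CotangentSpace.span_image_eq_top_iff.2 hS] at hbspan
  obtain ⟨u, hu, he⟩ := Set.subset_image_iff.1 hbS
  obtain ⟨t, htu, ht⟩ := Set.SurjOn.exists_bijOn_subset
    (show Set.SurjOn (maximalIdeal A).toCotangent u b from he.ge)
  have htS : t ⊆ S := htu.trans hu
  have htspan : Submodule.span A t = ⊤ := CotangentSpace.span_image_eq_top_iff.1 (by rw [ht.image_eq, hbspan])
  have hbfin : b.Finite := hbli.setFinite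
  have htfin : t.Finite := ht.finite_iff_finite.2 hbfin
  refine ⟨htfin.toFinset.image Subtype.val, ?_, ?_, ?_⟩
  · intro x hx
    simp only [Finset.coe_image, Set.Finite.coe_toFinset] at hx
    obtain ⟨y, hy, rfl⟩ := hx
    exact htS hy
  · rw [Finset.coe_image, Set.Finite.coe_toFinset]
    have := congrArg (Submodule.map (maximalIdeal A).subtype) htspan
    rw [Submodule.map_span, Submodule.map_top, Submodule.range_subtype] at this
    exact this
  · haveI : Fintype b := hbfin.fintype
    have hc : Fintype.card b ≤ Module.finrank (ResidueField A) (CotangentSpace A) := hbli.fintype_card_le_finrank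
    rw [← IsRegularLocalRing.iff_finrank_cotangentSpace A |>.1 ‹_›]
    have h1 : (htfin.toFinset.image Subtype.val).card ≤ t.ncard := by
      rw [Set.ncard_eq_toFinset_card t htfin]
      exact Finset.card_image_le
    rw [ht.ncard_eq] at h1
    rw [← Set.fintypeCard_eq_ncard b] at h1
    exact_mod_cast h1.trans hc

theorem isRegularLocalRing_quot_of_sup_eq (P Q : Ideal A) [IsLocalRing (A ⧸ P)] [IsLocalRing (A ⧸ Q)]
    (h : P ⊔ Q = maximalIdeal A) (N a b : ℕ) (hN : ringKrullDim A = (N : WithBot ℕ∞))
    (ha : ringKrullDim (A ⧸ P) = (a : WithBot ℕ∞)) (hb : ringKrullDim (A ⧸ Q) = (b : WithBot ℕ∞))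
    (hab : N ≤ a + b) : IsRegularLocalRing (A ⧸ P) ∧ IsRegularLocalRing (A ⧸ Q) := by
  classical
  obtain ⟨T, hT, hspan, hcard⟩ := exists_gens P Q h
  rw [hN, Nat.cast_le] at hcard
  have key : ∀ (I : Ideal A) [IsLocalRing (A ⧸ I)], (maximalIdeal (A ⧸ I)).spanFinrank ≤ (T.filter (· ∉ I)).card := by
    intro I _
    have hmap : maximalIdeal (A ⧸ I) = Ideal.span ((T.filter (· ∉ I)).image (Ideal.Quotient.mk I) : Finset (A ⧸ I)) := by
      refine le_antisymm ?_ (Ideal.span_le.2 ?_)
      · rw [show maximalIdeal (A ⧸ I) = (maximalIdeal A).map (Ideal.Quotient.mk I) from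
          ((Ideal.map_eq_top_or_isMaximal_of_surjective _ Ideal.Quotient.mk_surjective
            (maximalIdeal.isMaximal A)).resolve_left (fun he => ?_) |> IsLocalRing.eq_maximalIdeal).symm,
          ← hspan, Ideal.map_span, Ideal.span_le]
        · rintro _ ⟨x, hx, rfl⟩
          by_cases hxI : x ∈ I
          · rw [Ideal.Quotient.eq_zero_iff_mem.2 hxI]; exact Submodule.zero_mem _
          · exact Ideal.subset_span (Finset.mem_coe.2 (Finset.mem_image_of_mem _ (Finset.mem_filter.2 ⟨hx, hxI⟩)))
        · have hle : I ≤ maximalIdeal A := IsLocalRing.le_maximalIdeal fun hI => by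
            haveI : Subsingleton (A ⧸ I) := Ideal.Quotient.subsingleton_iff.2 hI
            exact false_of_nontrivial_of_subsingleton (A ⧸ I)
          have h' := congrArg (Ideal.comap (Ideal.Quotient.mk I)) he
          rw [Ideal.comap_top, Ideal.comap_map_of_surjective _ Ideal.Quotient.mk_surjective,
            ← RingHom.ker_eq_comap_bot, Ideal.mk_ker, sup_eq_left.2 hle] at h'
          exact (maximalIdeal.isMaximal A).ne_top h'
      · intro y hy
        obtain ⟨x, hx, rfl⟩ := Finset.mem_image.1 (Finset.mem_coe.1 hy)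
        intro hu
        obtain ⟨z, hz⟩ := Ideal.Quotient.mk_surjective (hu.unit⁻¹ : (A ⧸ I)ˣ).1
        have h1 : x * z - 1 ∈ I := by
          rw [← Ideal.Quotient.eq_zero_iff_mem, map_sub, map_mul, hz, map_one]
          simp
        have hxm : x ∈ maximalIdeal A := hspan ▸ Ideal.subset_span (Finset.mem_filter.1 hx).1
        have hle : I ≤ maximalIdeal A := IsLocalRing.le_maximalIdeal fun hI => by
          haveI : Subsingleton (A ⧸ I) := Ideal.Quotient.subsingleton_iff.2 hI
          exact false_of_nontrivial_of_subsingleton (A ⧸ I)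
        have := sub_mem (Ideal.mul_mem_right z _ hxm) (hle h1)
        rw [sub_sub_cancel] at this
        exact (maximalIdeal.isMaximal A).ne_top ((Ideal.eq_top_iff_one _).2 this)
    rw [hmap]
    refine (Submodule.spanFinrank_span_le_ncard_of_finite (Finset.finite_toSet _)).trans ?_
    rw [Set.ncard_coe_finset]
    exact Finset.card_image_le
  have hsum : (T.filter (· ∉ P)).card + (T.filter (· ∉ Q)).card ≤ T.card := by
    have hd : Disjoint (T.filter (· ∉ P)) (T.filter (· ∉ Q)) := Finset.disjoint_filter.2 fun x hx hP hQ =>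
      (hT (Finset.mem_coe.2 hx)).elim (fun h => hP h) (fun h => hQ h)
    rw [← Finset.card_union_of_disjoint hd]
    exact Finset.card_le_card (Finset.union_subset (Finset.filter_subset _ _) (Finset.filter_subset _ _))
  have k1 := key P
  have k2 := key Q
  have l1 : a ≤ (maximalIdeal (A ⧸ P)).spanFinrank := by
    have := ringKrullDim_le_spanFinrank_maximalIdeal (A ⧸ P)
    rw [ha] at this; exact_mod_cast this
  have l2 : b ≤ (maximalIdeal (A ⧸ Q)).spanFinrank := by
    have := ringKrullDim_le_spanFinrank_maximalIdeal (A ⧸ Q)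
    rw [hb] at this; exact_mod_cast this
  exact ⟨IsRegularLocalRing.of_spanFinrank_maximalIdeal_le _ (by rw [ha, Nat.cast_le]; omega),
    IsRegularLocalRing.of_spanFinrank_maximalIdeal_le _ (by rw [hb, Nat.cast_le]; omega)⟩

end Groth.Agent.BivarOps
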