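import Groth.Agent.BivarOps.IntMultProper
import Groth.Agent.SerreReg.Regular
import Groth.Agent.S0604
import Groth.Agent.S14434
import Groth.Agent.LocH.Depth

/-!
Vanishing of higher Tor for a module of large depth with finite-length Tor.
-/

set_option autoImplicit false
set_option linter.style.haveILetI false
set_option backward.isDefEq.respectTransparency false

universe u

open CategoryTheory IsLocalRing
open scoped Pointwise

namespace Groth.Agent.BivarOps

variable {A : Type u} [CommRing A]

theorem smul_tor_left (a : A) (M N : ModuleCat.{u} A) (hM : ∀ y : M, a • y = 0) (p : ℕ) :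
    a • 𝟙 (((Tor (ModuleCat.{u} A) p).obj M).obj N) = 0 := by
  have h0 : a • 𝟙 M = 0 := by ext y; exact hM y
  have h : a • 𝟙 (((Tor (ModuleCat.{u} A) p).flip.obj N).obj M) = 0 := by
    rw [← CategoryTheory.Functor.map_id, ← TorBalance.tor_map_smul, h0, TorBalance.tor_map_zero]
  exact h

theorem tor_vanish {N : Type u} [AddCommGroup N] [Module A N] (e : ℕ)
    [HasProjectiveDimensionLE (ModuleCat.of A N) e] :
    ∀ (rs : List A) (M : Type u) [AddCommGroup M] [Module A M], RingTheory.Sequence.IsWeaklyRegular M rs →
      (∀ r ∈ rs, r ∈ (Module.annihilator A M ⊔ Module.annihilator A N).radical) →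
      ∀ i, 1 ≤ i → e < i + rs.length → Subsingleton (DRing.Tor A i M N)
  | [], M, _, _, _, _, i, _, he => Groth.Agent.S14434.tor_subsingleton A M N e i (by simpa using he)
  | r :: rs, M, _, _, hreg, hrad, i, hi, he => by
    obtain ⟨hr, hrs⟩ := (RingTheory.Sequence.isWeaklyRegular_cons_iff M r rs).1 hreg
    have hrad' : ∀ x ∈ rs, x ∈ (Module.annihilator A (QuotSMulTop r M) ⊔ Module.annihilator A N).radical :=
      fun x hx => Ideal.radical_mono (sup_le_sup_right
        (LinearMap.annihilator_le_of_surjective _ (Submodule.mkQ_surjective _)) _) (hrad x (List.mem_cons_of_mem _ hx))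
    have hz : Limits.IsZero (((Tor (ModuleCat.{u} A) (i + 1)).obj (ModuleCat.of A (QuotSMulTop r M))).obj
        (ModuleCat.of A N)) := by
      haveI := tor_vanish e rs (QuotSMulTop r M) hrs hrad' (i + 1) (by omega) (by simp at he; omega)
      exact ModuleCat.isZero_of_subsingleton _
    let S : ShortComplex (ModuleCat.{u} A) := ShortComplex.mk
      (r • 𝟙 (ModuleCat.of A M)) (ModuleCat.ofHom (Submodule.mkQ (r • (⊤ : Submodule A M)))) (by
        ext m
        exact (Submodule.Quotient.mk_eq_zero _).2 (Submodule.smul_mem_pointwise_smul m r ⊤ trivial))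
    have hS : S.ShortExact :=
      { exact := (ShortComplex.moduleCat_exact_iff S).2 fun m hm => by
          obtain ⟨w, -, hw⟩ := (Submodule.mem_smul_pointwise_iff_exists m r ⊤).1 ((Submodule.Quotient.mk_eq_zero _).1 hm)
          exact ⟨w, hw⟩
        mono_f := (ModuleCat.mono_iff_injective _).2 hr
        epi_g := (ModuleCat.epi_iff_surjective _).2 (Submodule.mkQ_surjective _) }
    obtain ⟨δ, w₁, w₂, -, hex⟩ := (TorBalance.exists_les_flip hS (ModuleCat.of A N) i).2
    haveI hmono : Mono (((Tor (ModuleCat.{u} A) i).flip.obj (ModuleCat.of A N)).map S.f) :=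
      hex.mono_g (hz.eq_of_src _ _)
    have hinj : ∀ (k : ℕ) (x : DRing.Tor A i M N), r ^ k • x = 0 → x = 0 := by
      intro k
      induction k with
      | zero => intro x hx; simpa using hx
      | succ k ih =>
        intro x hx
        refine ih x ((ModuleCat.mono_iff_injective _).1 hmono ?_)
        rw [map_zero]
        show (((Tor (ModuleCat.{u} A) i).flip.obj (ModuleCat.of A N)).map (r • 𝟙 (ModuleCat.of A M))) (r ^ k • x) = 0
        rw [TorBalance.tor_map_smul, CategoryTheory.Functor.map_id]
        show r • (r ^ k • x) = 0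
        rw [← mul_smul, ← pow_succ']
        exact hx
    obtain ⟨k, hk⟩ := hrad r List.mem_cons_self
    obtain ⟨a, ha, b, hb, hab⟩ := Submodule.mem_sup.1 hk
    refine ⟨fun x y => sub_eq_zero.1 (hinj k _ ?_)⟩
    have h1 := smul_tor_left a (ModuleCat.of A M) (ModuleCat.of A N) (Module.mem_annihilator.1 ha) i
    have h2 := TorBalance.smul_id_eq_zero b (ModuleCat.of A M) (ModuleCat.of A N) (Module.mem_annihilator.1 hb) i
    rw [← hab, add_smul]
    have e1 : a • (x - y) = 0 := congr($h1 (x - y))
    have e2 : b • (x - y) = 0 := congr($h2 (x - y))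
    rw [e1, e2, add_zero]

end Groth.Agent.BivarOps
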