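import Groth.Agent.BivarOps.ChiDevissage
import Groth.Agent.DiagTor.Zero
import Groth.Agent.P1Div.StalkLoc
import Groth.Agent.S4889
import Groth.Prelude.Def_Cyc

/-!
The Tor formula on stalks of coherent sheaves.
-/

set_option autoImplicit false
set_option linter.style.haveILetI false
set_option backward.isDefEq.respectTransparency false

universe u

open CategoryTheory AlgebraicGeometry
open Groth.Agent.CDivNormal (genPrime mem_genPrime germ_mem_genPrime exists_genPrime_eq genPrime_mono specializes_of_le)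

namespace Groth.Agent.BivarOps

variable {X : Scheme.{u}}

theorem mem_ptIdeal_support {ξ z : X} : z ∈ (IntMult.ptIdeal ξ).support ↔ ξ ⤳ z := by
  rw [IntMult.ptIdeal, ← SetLike.mem_coe, Scheme.IdealSheafData.coe_support_vanishingIdeal, specializes_iff_mem_closure]
  exact Iff.rfl

theorem stalkIdeal_ptIdeal {ξ ζ : X} (h : ξ ⤳ ζ) : IntMult.stalkIdeal (IntMult.ptIdeal ξ) ζ = genPrime h := by
  refine le_antisymm ((mem_support_iff_le_genPrime _ h).1 (mem_ptIdeal_support.2 specializes_rfl)) ?_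
  obtain ⟨U, hU, hζU, -⟩ := exists_isAffineOpen_mem_and_subset (x := ζ) (U := ⊤) trivial
  letI : Algebra Γ(X, U) (X.presheaf.stalk ζ) := (X.presheaf.germ U ζ hζU).hom.toAlgebra
  haveI := hU.isLocalization_stalk ⟨ζ, hζU⟩
  rw [← IsLocalization.map_under (hU.primeIdealOf ⟨ζ, hζU⟩).asIdeal.primeCompl (X.presheaf.stalk ζ) (genPrime h)]
  refine le_trans (Ideal.map_mono fun b hb => ?_) (le_iSup₂ (f := fun (V : X.affineOpens) (hV : ζ ∈ (V : X.Opens)) =>
    ((IntMult.ptIdeal ξ).ideal V).map (X.presheaf.germ V.1 ζ hV).hom) ⟨U, hU⟩ hζU)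
  have hb' := (germ_mem_genPrime h hU hζU b).1 hb
  rw [IntMult.ptIdeal, Scheme.IdealSheafData.vanishingIdeal_ideal, PrimeSpectrum.mem_vanishingIdeal]
  intro p hp
  have hξU := h.mem_open U.2 hζU
  have h1 : hU.fromSpec (hU.primeIdealOf ⟨ξ, hξU⟩) ⤳ hU.fromSpec p := by
    rw [hU.fromSpec_primeIdealOf]
    exact specializes_iff_mem_closure.2 hp
  exact (PrimeSpectrum.le_iff_specializes _ _).2 (hU.fromSpec.isOpenEmbedding.isInducing.specializes_iff.1 h1) hb'

theorem dim_quot_genPrime {δ : X → ℤ} (hδ : Cyc.IsDimFun X δ) {ξ x : X} (h : ξ ⤳ x) :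
    ringKrullDim (X.presheaf.stalk x ⧸ genPrime h) = ((δ ξ - δ x).toNat : WithBot ℕ∞) ∧ δ x ≤ δ ξ := by
  have hxξ : x ≤ ξ := Scheme.le_iff_specializes.2 h
  have hmono : ∀ z : X, x ≤ z → δ x ≤ δ z := fun z hz => by
    by_cases hzx : z = x
    · rw [hzx]
    · exact (CycDim.delta_lt hδ (CycDim.lt_of_spec (Scheme.le_iff_specializes.1 hz) hzx)).le
  obtain ⟨h1, h2⟩ := CycDim.krullDim_eq hδ (fun z => ξ ⤳ z ∧ z ⤳ x) ξ x ⟨specializes_rfl, h⟩ ⟨h, specializes_rfl⟩ hxξ
    (fun z hz => ⟨Scheme.le_iff_specializes.2 hz.1, hmono z (Scheme.le_iff_specializes.2 hz.2)⟩)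
    (fun z hz hz' => ⟨Scheme.le_iff_specializes.1 hz', Scheme.le_iff_specializes.1 hz⟩)
  refine ⟨?_, h2⟩
  rw [← h1, ← CycDim.ringKrullDim_locQuot h]
  exact ringKrullDim_eq_of_ringEquiv (Ideal.quotEquivOfEq (Ideal.ext fun a => CycDim.mem_genPrime_iff h a))

theorem dim_stalk [IsIntegral X] {δ : X → ℤ} (hδ : Cyc.IsDimFun X δ) (x : X) :
    ringKrullDim (X.presheaf.stalk x) = ((δ (genericPoint X) - δ x).toNat : WithBot ℕ∞) ∧
      δ x ≤ δ (genericPoint X) := by
  obtain ⟨h1, h2⟩ := dim_quot_genPrime hδ (genericPoint_specializes x)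
  refine ⟨?_, h2⟩
  rw [← h1]
  refine (ringKrullDim_eq_of_ringEquiv ((Ideal.quotEquivOfEq ?_).trans (RingEquiv.quotientBot _))).symm
  refine eq_bot_iff.2 fun a ha => ?_
  rw [Ideal.mem_bot]
  by_contra hne
  exact ha (Ne.isUnit (show ((X.presheaf.stalkSpecializes (genericPoint_specializes x)).hom a : X.functionField) ≠ 0 from
    fun e => hne (IsFractionRing.injective (X.presheaf.stalk x) X.functionField (e.trans (map_zero _).symm))))

theorem suppDisj_of_support {A : Type u} [CommRing A] [IsLocalRing A] {M N : Type u} [AddCommGroup M] [Module A M]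
    [Module.Finite A M] [AddCommGroup N] [Module A N] [Module.Finite A N]
    (h : ∀ P : PrimeSpectrum A, P ∈ Module.support A M → P ∈ Module.support A N →
      P.asIdeal = IsLocalRing.maximalIdeal A) : SuppDisj A M N := by
  rw [SuppDisj, Ideal.radical_eq_sInf]
  refine le_sInf fun J ⟨hJ, hJp⟩ => ?_
  exact (h ⟨J, hJp⟩ (Module.mem_support_iff_of_finite.2 (le_sup_left.trans hJ))
    (Module.mem_support_iff_of_finite.2 (le_sup_right.trans hJ))).ge

theorem SuppDisj.eq_maximal {A : Type u} [CommRing A] [IsLocalRing A] {M N : Type u} [AddCommGroup M] [Module A M]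
    [Module.Finite A M] [AddCommGroup N] [Module A N] [Module.Finite A N] (h : SuppDisj A M N) {P : PrimeSpectrum A}
    (hM : P ∈ Module.support A M) (hN : P ∈ Module.support A N) : P.asIdeal = IsLocalRing.maximalIdeal A :=
  ((IsLocalRing.maximalIdeal.isMaximal A).eq_of_le P.2.ne_top (le_trans h (P.2.radical_le_iff.2
    (sup_le (Module.mem_support_iff_of_finite.1 hM) (Module.mem_support_iff_of_finite.1 hN))))).symm

set_option maxHeartbeats 2000000 in
theorem chi_double {A : Type u} [CommRing A] [IsRegularLocalRing A] (M N : Type u) [AddCommGroup M] [Module A M]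
    [Module.Finite A M] [AddCommGroup N] [Module A N] [Module.Finite A N] (SM SN : Finset (PrimeSpectrum A))
    (hdisj : SuppDisj A M N) (hSM : ∀ P ∈ SM, P ∈ Module.support A M) (hSN : ∀ Q ∈ SN, Q ∈ Module.support A N)
    (hminM : ∀ P ∈ SM, ∀ Q ∈ Module.support A M, Q ≤ P → Q = P)
    (hminN : ∀ P ∈ SN, ∀ Q ∈ Module.support A N, Q ≤ P → Q = P)
    (hkey : ∀ P ∈ Module.support A M, ∀ Q ∈ Module.support A N, (P ∉ SM ∨ Q ∉ SN) →
      IntMult.chi A (A ⧸ P.asIdeal) (A ⧸ Q.asIdeal) = 0) :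
    IntMult.chi A M N = ∑ P ∈ SM, ∑ Q ∈ SN, ((LenSum2.lenAt P M).toNat : ℤ) * (((LenSum2.lenAt Q N).toNat : ℤ) *
      IntMult.chi A (A ⧸ P.asIdeal) (A ⧸ Q.asIdeal)) := by
  have e2 : ∀ P ∈ Module.support A M, IntMult.chi A (A ⧸ P.asIdeal) N =
      ∑ Q ∈ SN, ((LenSum2.lenAt Q N).toNat : ℤ) * IntMult.chi A (A ⧸ P.asIdeal) (A ⧸ Q.asIdeal) := by
    intro P hP
    let φ : ∀ (L : Type u) [AddCommGroup L] [Module A L], ℤ := fun L _ _ => IntMult.chi A (A ⧸ P.asIdeal) L
    refine (devissage φ (Module.support A N) SN ?_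
      (fun Q hQ hQS => hkey P hP Q hQ (Or.inr hQS)) hminN N subset_rfl :)
    intro L₁ L₂ L₃ _ _ _ _ _ _ _ a b ha hb hab hL
    refine chi_add_right _ a b ha hb hab (suppDisj_of_support fun J hJP hJL => ?_)
    refine hdisj.eq_maximal ?_ (hL hJL)
    rw [Module.mem_support_iff_of_finite] at hP hJP ⊢
    rw [Ideal.annihilator_quotient] at hJP
    exact hP.trans hJP
  have e1 : IntMult.chi A M N = ∑ P ∈ SM, ((LenSum2.lenAt P M).toNat : ℤ) * IntMult.chi A (A ⧸ P.asIdeal) N := by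
    let φ : ∀ (L : Type u) [AddCommGroup L] [Module A L], ℤ := fun L _ _ => IntMult.chi A L N
    refine (devissage φ (Module.support A M) SM ?_ ?_ hminM M subset_rfl :)
    · intro L₁ L₂ L₃ _ _ _ _ _ _ _ a b ha hb hab hL
      exact chi_add_left _ a b ha hb hab (suppDisj_of_support fun J hJL hJN => hdisj.eq_maximal (hL hJL) hJN)
    · intro P hP hPS
      show IntMult.chi A (A ⧸ P.asIdeal) N = 0
      rw [e2 P hP]
      exact Finset.sum_eq_zero fun Q hQ => by rw [hkey P hP Q (hSN Q hQ) (Or.inl hPS), mul_zero]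
  rw [e1]
  exact Finset.sum_congr rfl fun P hP => by rw [e2 P (hSM P hP), Finset.mul_sum]

theorem mem_support_of_mem_top [IsLocallyNoetherian X] {F : X.Modules} {ζ : X} {δ : X → ℤ} {r : ℤ}
    {S : Finset (PrimeSpectrum (X.presheaf.stalk ζ))}
    (hS : ∀ (ξ : X) (h : ξ ⤳ ζ), ⟨genPrime h, inferInstance⟩ ∈ S ↔ Nontrivial (F.presheaf.stalk ξ) ∧ δ ξ = r)
    (P : PrimeSpectrum (X.presheaf.stalk ζ)) (hP : P ∈ S)
    (hgen : ∀ {ξ x : X} (h : ξ ⤳ x), (⟨genPrime h, inferInstance⟩ : PrimeSpectrum (X.presheaf.stalk x)) ∈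
      Module.support (X.presheaf.stalk x) (F.presheaf.stalk x) ↔ Nontrivial (F.presheaf.stalk ξ)) :
    P ∈ Module.support (X.presheaf.stalk ζ) (F.presheaf.stalk ζ) := by
  obtain ⟨P, hPp⟩ := P
  obtain ⟨ξ, h, rfl⟩ := exists_genPrime_eq ζ P
  exact (hgen h).2 ((hS ξ h).1 hP).1

theorem finite_stalk [IsLocallyNoetherian X] {F : X.Modules} (hF : Coh.IsCoh F) (x : X) :
    Module.Finite (X.presheaf.stalk x) (F.presheaf.stalk x) := by
  haveI : F.IsQuasicoherent := hF.1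
  obtain ⟨A, hA, hxA, -⟩ := exists_isAffineOpen_mem_and_subset (show x ∈ (⊤ : X.Opens) from trivial)
  haveI := QC.finite_sections hA (M := F) hF.2
  exact LocFree.finite_stalk hA hF.1 hxA

theorem fromSpecStalk_genPrime {ξ x : X} (h : ξ ⤳ x) :
    X.fromSpecStalk x ⟨genPrime h, inferInstance⟩ = ξ := by
  have e := Scheme.SpecMap_stalkSpecializes_fromSpecStalk (X := X) h
  have h2 : Spec.map (X.presheaf.stalkSpecializes h) (IsLocalRing.closedPoint (X.presheaf.stalk ξ)) =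
      ⟨genPrime h, inferInstance⟩ := rfl
  rw [← h2, ← Scheme.Hom.comp_apply, e]
  exact Scheme.fromSpecStalk_closedPoint

theorem genPrime_mem_support {F : X.Modules} (hF : Coh.IsQCoh F) {ξ x : X} (h : ξ ⤳ x) :
    (⟨genPrime h, inferInstance⟩ : PrimeSpectrum (X.presheaf.stalk x)) ∈
      Module.support (X.presheaf.stalk x) (F.presheaf.stalk x) ↔ Nontrivial (F.presheaf.stalk ξ) := by
  rw [S4889.support_stalk hF x, fromSpecStalk_genPrime h]
  exact not_subsingleton_iff_nontrivial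

theorem nontrivial_of_specializes [IsLocallyNoetherian X] {F : X.Modules} (hF : Coh.IsCoh F) {ξ x : X} (h : ξ ⤳ x)
    (hn : Nontrivial (F.presheaf.stalk ξ)) : Nontrivial (F.presheaf.stalk x) :=
  Module.nonempty_support_iff.1 ⟨_, (genPrime_mem_support hF.1 h).2 hn⟩

theorem lenAt_genPrime_stalk [IsLocallyNoetherian X] {F : X.Modules} (hF : Coh.IsCoh F) {ξ x : X} (h : ξ ⤳ x) :
    LenSum2.lenAt (⟨genPrime h, inferInstance⟩ : PrimeSpectrum (X.presheaf.stalk x)) (F.presheaf.stalk x) =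
      Module.length (X.presheaf.stalk ξ) (F.presheaf.stalk ξ) :=
  @P1Div.lenAt_stalk X F hF.1 _ ξ x h

/-- The primes in the support of a stalk at the points of the top dimension form a finite set. -/
theorem exists_top_primes [IsLocallyNoetherian X] {δ : X → ℤ} (hδ : Cyc.IsDimFun X δ) {F : X.Modules}
    (hF : Coh.IsCoh F) (r : ℤ) (hr : ∀ x : X, Nontrivial (F.presheaf.stalk x) → δ x ≤ r) (ζ : X) :
    ∃ S : Finset (PrimeSpectrum (X.presheaf.stalk ζ)),
      (∀ (ξ : X) (h : ξ ⤳ ζ), ⟨genPrime h, inferInstance⟩ ∈ S ↔ Nontrivial (F.presheaf.stalk ξ) ∧ δ ξ = r) ∧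
      ∀ P ∈ S, ∀ Q ∈ Module.support (X.presheaf.stalk ζ) (F.presheaf.stalk ζ), Q ≤ P → Q = P := by
  haveI := finite_stalk hF ζ
  let T : Set (PrimeSpectrum (X.presheaf.stalk ζ)) := {P | P ∈ Module.support (X.presheaf.stalk ζ) (F.presheaf.stalk ζ) ∧
    δ (X.fromSpecStalk ζ P) = r}
  have hmin : ∀ P ∈ T, ∀ Q ∈ Module.support (X.presheaf.stalk ζ) (F.presheaf.stalk ζ), Q ≤ P → Q = P := by
    rintro ⟨P, hP⟩ ⟨hPs, hPd⟩ ⟨Q, hQ⟩ hQs hQP
    obtain ⟨ξ, h, rfl⟩ := exists_genPrime_eq ζ P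
    obtain ⟨η, h', rfl⟩ := exists_genPrime_eq ζ Q
    rw [fromSpecStalk_genPrime h] at hPd
    have hηξ : η ⤳ ξ := specializes_of_le h' h hQP
    have hle := hr η ((genPrime_mem_support hF.1 h').1 hQs)
    obtain rfl := CycDim.eq_of_delta_le hδ hηξ (by omega)
    rfl
  have hfin : T.Finite := by
    refine Set.Finite.of_finite_image (f := PrimeSpectrum.asIdeal) ?_ (fun P _ Q _ h => PrimeSpectrum.ext h)
    refine (Ideal.finite_minimalPrimes_of_isNoetherianRing _ (Module.annihilator (X.presheaf.stalk ζ) (F.presheaf.stalk ζ))).subset ?_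
    rintro _ ⟨P, hP, rfl⟩
    refine ⟨⟨P.2, Module.mem_support_iff_of_finite.1 hP.1⟩, fun J hJ hJP => ?_⟩
    exact (congrArg PrimeSpectrum.asIdeal (hmin P hP ⟨J, hJ.1⟩ (Module.mem_support_iff_of_finite.2 hJ.2) hJP)).ge
  refine ⟨hfin.toFinset, fun ξ h => ?_, fun P hP => hmin P (hfin.mem_toFinset.1 hP)⟩
  rw [hfin.mem_toFinset]
  show _ ∧ _ ↔ _
  rw [genPrime_mem_support hF.1 h, fromSpecStalk_genPrime h]

end Groth.Agent.BivarOps
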