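import Groth.Agent.BivarOps.InterStalk
import Groth.Agent.BivarOps.IntMultVanish
import Groth.Agent.BivarOps.IntMultReg
import Groth.Agent.DiagTor.Scheme
import Groth.Agent.S1872

/-!
Multiplicity one.
-/

set_option autoImplicit false
set_option linter.style.haveILetI false
set_option backward.isDefEq.respectTransparency false

universe u

open CategoryTheory CategoryTheory.Limits AlgebraicGeometry
open Groth.Agent.CDivNormal (genPrime germ_mem_genPrime)

namespace Groth.Agent.BivarOps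

theorem dim_quot_le_of_primes {A : Type u} [CommRing A] (I : Ideal A) (a : ℕ)
    (h : ∀ P : Ideal A, P.IsPrime → I ≤ P → ringKrullDim (A ⧸ P) ≤ (a : WithBot ℕ∞)) :
    ringKrullDim (A ⧸ I) ≤ (a : WithBot ℕ∞) := by
  rw [ringKrullDim_quotient]
  refine iSup_le fun s => ?_
  have hP := h s.head.1.asIdeal s.head.1.2 s.head.2
  rw [ringKrullDim_quotient] at hP
  refine le_trans ?_ hP
  exact le_iSup_of_le (⟨s.length, fun i => ⟨(s i).1, (PrimeSpectrum.mem_zeroLocus _ _).2 (s.head_le i)⟩,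
    fun i => s.step i⟩ : LTSeries (PrimeSpectrum.zeroLocus (s.head.1.asIdeal : Set A))) le_rfl

theorem eq_of_dim_quot {A : Type u} [CommRing A] (I P : Ideal A) [IsRegularLocalRing (A ⧸ I)] [P.IsPrime]
    (hIP : I ≤ P) (a : ℕ) (hP : ringKrullDim (A ⧸ P) = (a : WithBot ℕ∞))
    (hI : ringKrullDim (A ⧸ I) = (a : WithBot ℕ∞)) : I = P := by
  haveI : I.IsPrime := (Ideal.Quotient.isDomain_iff_prime I).1 (Groth.Agent.RegLoc.isDomain _)
  by_contra hne
  obtain ⟨x, hxP, hxI⟩ := SetLike.exists_of_lt (lt_of_le_of_ne hIP hne)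
  have hsucc : ringKrullDim (A ⧸ P) + 1 ≤ ringKrullDim (A ⧸ I) := by
    refine ringKrullDim_succ_le_of_surjective (Ideal.Quotient.factor hIP) (Ideal.Quotient.factor_surjective _)
      (r := Ideal.Quotient.mk _ x) (mem_nonZeroDivisors_of_ne_zero ?_) ?_
    · rwa [ne_eq, Ideal.Quotient.eq_zero_iff_mem]
    · rw [Ideal.Quotient.factor_mk, Ideal.Quotient.eq_zero_iff_mem]; exact hxP
  rw [hP, hI] at hsucc
  have h1 : ((a + 1 : ℕ) : WithBot ℕ∞) ≤ ((a : ℕ) : WithBot ℕ∞) := by
    rw [Nat.cast_add, Nat.cast_one]; exact hsucc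
  have : a + 1 ≤ a := by exact_mod_cast h1
  omega

theorem chi_eq_one {A : Type u} [CommRing A] [IsRegularLocalRing A] (P Q : Ideal A) [IsRegularLocalRing (A ⧸ P)]
    [IsRegularLocalRing (A ⧸ Q)] (hsup : P ⊔ Q = IsLocalRing.maximalIdeal A) (N a b : ℕ)
    (hN : ringKrullDim A = (N : WithBot ℕ∞)) (ha : ringKrullDim (A ⧸ P) = (a : WithBot ℕ∞))
    (hb : ringKrullDim (A ⧸ Q) = (b : WithBot ℕ∞)) (hab : N ≤ a + b) :
    IntMult.chi A (A ⧸ P) (A ⧸ Q) = 1 := by
  classical
  haveI := CMFlat.isCohenMacaulayLocalRing_of_isRegularLocalRing A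
  haveI := CMFlat.isCohenMacaulayLocalRing_of_isRegularLocalRing (A ⧸ P)
  haveI := CMFlat.isCohenMacaulayLocalRing_of_isRegularLocalRing (A ⧸ Q)
  have depth_of : ∀ (T : Type u) [CommRing T] [LocCoh.IsCohenMacaulayLocalRing T] (m : ℕ),
      ringKrullDim T = (m : WithBot ℕ∞) → LocCoh.depth T T = (m : ℕ∞) := fun T _ _ m h => by
    have h1 := LocCoh.IsCohenMacaulayLocalRing.supportDim_eq_depth (R := T)
    rw [Module.supportDim_self_eq_ringKrullDim, h] at h1
    exact (WithBot.coe_inj.1 h1).symm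
  have dP : LocCoh.depth A (A ⧸ P) = (a : ℕ∞) :=
    (LocH.depth_eq_of_surjective (A := A) (B := A ⧸ P) Ideal.Quotient.mk_surjective (A ⧸ P)).trans (depth_of _ _ ha)
  have dQ : LocCoh.depth A (A ⧸ Q) = (b : ℕ∞) :=
    (LocH.depth_eq_of_surjective (A := A) (B := A ⧸ Q) Ideal.Quotient.mk_surjective (A ⧸ Q)).trans (depth_of _ _ hb)
  obtain ⟨rs, hlen, hrs, hmem⟩ := LocH.exists_isWeaklyRegular (IsLocalRing.maximalIdeal A) a (A ⧸ P)
    ((LocH.le_idealDepth_iff _ _ _).1 dP.ge)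
  have hex : ∃ e : ℕ, SerreReg.PdLE A (A ⧸ Q) e := ⟨N, SerreReg.pdLE_of_isRegularLocalRing A _ hN _⟩
  obtain ⟨t, ht, htd⟩ := AusBuc.depth_add_pd (depth_of A _ hN) (Nat.find hex) (A ⧸ Q) (Nat.find_spec hex)
    fun e' he' => Nat.find_min hex he'
  rw [dQ, Nat.cast_inj] at htd
  haveI : CategoryTheory.HasProjectiveDimensionLE (ModuleCat.of A (A ⧸ Q)) (Nat.find hex) := Nat.find_spec hex
  haveI : (IsLocalRing.maximalIdeal A).IsMaximal := IsLocalRing.maximalIdeal.isMaximal A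
  haveI hs : IsSimpleModule A (A ⧸ (P ⊔ Q)) := isSimpleModule_iff_isCoatom.2 (hsup.symm ▸ Ideal.isMaximal_def.1 ‹_›)
  rw [chi_eq_length P Q fun i hi => tor_vanish (Nat.find hex) rs (A ⧸ P) hrs (fun x hx => ?_) i hi ?_,
    Module.length_eq_one (R := A) (M := A ⧸ (P ⊔ Q))]
  · rfl
  · rw [Ideal.annihilator_quotient, Ideal.annihilator_quotient]
    exact Ideal.le_radical (hsup.ge (hmem x hx))
  · rw [hlen]
    omega

variable {X : Scheme.{u}}

theorem stalkIdeal_map_spz (I : X.IdealSheafData) {ξ x : X} (h : ξ ⤳ x) (hξ : ξ ∈ I.support) (hx : x ∈ I.support) :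
    IntMult.stalkIdeal I ξ = (IntMult.stalkIdeal I x).map (X.presheaf.stalkSpecializes h).hom := by
  obtain ⟨U, hU, hxU, -⟩ := exists_isAffineOpen_mem_and_subset (x := x) (U := ⊤) trivial
  rw [DiagTor.stalkIdeal_chart I hξ ⟨U, hU⟩ (h.mem_open U.2 hxU), DiagTor.stalkIdeal_chart I hx ⟨U, hU⟩ hxU,
    Ideal.map_map]
  congr 1
  exact RingHom.ext fun a => (X.presheaf.germ_stalkSpecializes_apply hxU h a).symm

theorem map_genPrime {ξ x : X} (h : ξ ⤳ x) :
    (genPrime h).map (X.presheaf.stalkSpecializes h).hom = IsLocalRing.maximalIdeal (X.presheaf.stalk ξ) := by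
  letI := (CycDim.spz h).toAlgebra
  haveI := CycDim.isLocalization_genPrime h
  exact IsLocalization.map_under (genPrime h).primeCompl _ (IsLocalRing.maximalIdeal (X.presheaf.stalk ξ))

theorem length_stalk_eq_one {Z : Scheme.{u}} (i : Z ⟶ X) [IsClosedImmersion i] (z : Z)
    (hz : IntMult.stalkIdeal i.ker (i z) = IsLocalRing.maximalIdeal (X.presheaf.stalk (i z))) :
    Module.length (Z.presheaf.stalk z) (Z.presheaf.stalk z) = 1 := by
  rw [DiagTor.stalkIdeal_ker i z] at hz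
  rw [← CycDim.length_congr ((Ideal.quotEquivOfEq hz.symm).trans
    (RingHom.quotientKerEquivOfSurjective (i.stalkMap_surjective z)))]
  exact Module.length_eq_one (R := IsLocalRing.ResidueField (X.presheaf.stalk (i z)))
    (M := IsLocalRing.ResidueField (X.presheaf.stalk (i z)))

theorem ker_fst_comp {Y Z : Scheme.{u}} (i : Y ⟶ X) (j : Z ⟶ X) [IsClosedImmersion i] [IsClosedImmersion j] :
    (pullback.fst i j ≫ i).ker = i.ker ⊔ j.ker := by
  refine le_antisymm ?_ (sup_le (Scheme.Hom.le_ker_comp _ _) ?_)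
  · set L := i.ker ⊔ j.ker
    let a := IsClosedImmersion.lift i L.subschemeι (by rw [L.ker_subschemeι]; exact le_sup_left)
    let b := IsClosedImmersion.lift j L.subschemeι (by rw [L.ker_subschemeι]; exact le_sup_right)
    let l : L.subscheme ⟶ pullback i j := pullback.lift a b (by
      rw [IsClosedImmersion.lift_fac, IsClosedImmersion.lift_fac])
    calc (pullback.fst i j ≫ i).ker ≤ (l ≫ pullback.fst i j ≫ i).ker := Scheme.Hom.le_ker_comp _ _
      _ = L := by rw [pullback.lift_fst_assoc, IsClosedImmersion.lift_fac, L.ker_subschemeι]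
  · rw [pullback.condition]
    exact Scheme.Hom.le_ker_comp _ _

theorem exists_of_subschemeFun_ne {Y : Scheme.{u}} {i : Y ⟶ X} {δ : X → ℤ} {r : ℤ} {x : X}
    (h : Cyc.subschemeFun δ r i x ≠ 0) : δ x = r ∧ ∃ y : Y, i y = x := by
  rw [Cyc.subschemeFun] at h
  split_ifs at h with hk
  · refine ⟨hk, ?_⟩
    by_contra hc
    push Not at hc
    exact h (finsum_mem_eq_zero_of_forall_eq_zero fun y hy => absurd hy (hc y))
  · exact absurd rfl h

theorem subschemeFun_eq {Y : Scheme.{u}} (i : Y ⟶ X) [IsClosedImmersion i] {δ : X → ℤ} {r : ℤ} (y : Y)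
    (hr : δ (i y) = r) :
    Cyc.subschemeFun δ r i (i y) = ((Module.length (Y.presheaf.stalk y) (Y.presheaf.stalk y)).toNat : ℤ) := by
  rw [Cyc.subschemeFun, if_pos hr]
  have hset : {w | i w = i y} = {y} :=
    Set.ext fun w => ⟨fun h => i.isClosedEmbedding.injective h, fun h => congrArg i h⟩
  rw [hset, finsum_mem_singleton]

end Groth.Agent.BivarOps
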