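import Groth.Agent.BivarOps.InterAssoc
import Groth.Agent.BivarOps.InterStalk
import Groth.Agent.BivarOps.MultOne
import Groth.Agent.S2428
import Mathlib.RingTheory.TensorProduct.Quotient

/-!
Associativity of the intersection product of prime cycles near a point.
-/

set_option autoImplicit false
set_option linter.style.haveILetI false
set_option backward.isDefEq.respectTransparency false

universe u

open CategoryTheory AlgebraicGeometry TensorProduct
open Groth.Agent.CDivNormal (genPrime exists_genPrime_eq genPrime_mono specializes_of_le)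
open Groth.Agent.LenSum2 (lenAt)

namespace Groth.Agent.BivarOps

variable {X : Scheme.{u}}

variable (K : Type u) [Field K] [IsAlgClosed K] (f : X ⟶ Spec (CommRingCat.of K)) [Smooth f] [IsIntegral X]
  [IsLocallyNoetherian X] {δ : X → ℤ}

open Classical in
include K f in
/-- The points of the expected dimension of the intersection of three prime cycles. -/
theorem interProd_triple_local (hδ : Cyc.IsDimFun X δ) (n : ℤ) (hn : δ (genericPoint X) = n) (u v w ζ : X)
    (hu : u ⤳ ζ) (hv : v ⤳ ζ) (hw : w ⤳ ζ) (hdζ : δ ζ = δ u + δ v + δ w - 2 * n)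
    (hvw : ∀ η : X, η ⤳ ζ → v ⤳ η → w ⤳ η → δ η ≤ δ v + δ w - n)
    (h3 : ∀ z : X, u ⤳ z → v ⤳ z → w ⤳ z → δ z ≤ δ u + δ v + δ w - 2 * n) :
    (∀ i, SuppDisj (X.presheaf.stalk ζ) (X.presheaf.stalk ζ ⧸ genPrime hu)
      (DRing.Tor (X.presheaf.stalk ζ) i (X.presheaf.stalk ζ ⧸ genPrime hv) (X.presheaf.stalk ζ ⧸ genPrime hw))) ∧
    IntMult.interProd δ n (Set.indicator {u} 1) (IntMult.interProd δ n (Set.indicator {v} 1) (Set.indicator {w} 1)) ζ =
      ∑ᶠ i : ℕ, (-1 : ℤ) ^ i * IntMult.chi (X.presheaf.stalk ζ) (X.presheaf.stalk ζ ⧸ genPrime hu)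
        (DRing.Tor (X.presheaf.stalk ζ) i (X.presheaf.stalk ζ ⧸ genPrime hv) (X.presheaf.stalk ζ ⧸ genPrime hw)) := by
  haveI := SmLocalST.isRegularLocalRing_stalk_of_smooth_field f ζ
  obtain ⟨hA, hζn⟩ := dim_stalk hδ ζ
  rw [hn] at hA hζn
  obtain ⟨hau, hζu⟩ := dim_quot_genPrime hδ hu
  let A := X.presheaf.stalk ζ
  let I := genPrime hv
  let J := genPrime hw
  let T := fun i => DRing.Tor A i (A ⧸ I) (A ⧸ J)
  haveI hT : ∀ i, Module.Finite A (T i) := fun i => Groth.Agent.S6315.result A (A ⧸ I) (A ⧸ J) i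
  let Z : Set (PrimeSpectrum A) := {P | I ⊔ J ≤ P.asIdeal}
  have hsuppT : ∀ i, Module.support A (T i) ⊆ Z := fun i P hP =>
    (sup_le_annihilator_tor I J i).trans (Module.mem_support_iff_of_finite.1 hP)
  -- the three loci meet only at the closed point
  have hmeet : ∀ P : PrimeSpectrum A, genPrime hu ≤ P.asIdeal → P ∈ Z → P.asIdeal = IsLocalRing.maximalIdeal A := by
    intro P hPu hPZ
    obtain ⟨z, hz, hzP⟩ := exists_genPrime_eq ζ P.asIdeal
    rw [← hzP] at hPu
    have hPZ' : I ⊔ J ≤ genPrime hz := hzP ▸ hPZ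
    have hle := h3 z (specializes_of_le hu hz hPu) (specializes_of_le hv hz (le_sup_left.trans hPZ'))
      (specializes_of_le hw hz (le_sup_right.trans hPZ'))
    obtain rfl := CycDim.eq_of_delta_le hδ hz (by omega)
    rw [← hzP, CycDim.genPrime_rfl]
  have hdisj : ∀ (L : Type u) [AddCommGroup L] [Module A L] [Module.Finite A L], Module.support A L ⊆ Z →
      SuppDisj A (A ⧸ genPrime hu) L := fun L _ _ _ hL =>
    suppDisj_of_support fun P hP1 hP2 => hmeet P (mem_zero_quot hP1) (hL hP2)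
  refine ⟨fun i => hdisj (T i) (hsuppT i), ?_⟩
  -- the components of the intersection of the last two
  let pt : PrimeSpectrum A → X := fun P => X.fromSpecStalk ζ P
  let S' : Set (PrimeSpectrum A) := {P | P ∈ Z ∧ δ (pt P) = δ v + δ w - n}
  have hZpt : ∀ P ∈ Z, ∃ h : pt P ⤳ ζ, genPrime h = P.asIdeal ∧ v ⤳ pt P ∧ w ⤳ pt P := by
    intro P hP
    obtain ⟨z, hz, hzP⟩ := exists_genPrime_eq ζ P.asIdeal
    obtain rfl : pt P = z := by
      have : P = ⟨genPrime hz, inferInstance⟩ := PrimeSpectrum.ext hzP.symm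
      show X.fromSpecStalk ζ P = z
      rw [this, fromSpecStalk_genPrime]
    have hP' : I ⊔ J ≤ genPrime hz := hzP ▸ hP
    exact ⟨hz, hzP, specializes_of_le hv hz (le_sup_left.trans hP'), specializes_of_le hw hz (le_sup_right.trans hP')⟩
  have hmin : ∀ P ∈ S', ∀ Q ∈ Z, Q ≤ P → Q = P := by
    intro P hP Q hQ hQP
    obtain ⟨h1, e1, -, -⟩ := hZpt P hP.1
    obtain ⟨h2, e2, hv2, hw2⟩ := hZpt Q hQ
    have hspec : pt Q ⤳ pt P := specializes_of_le h2 h1 (by rw [e1, e2]; exact hQP)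
    have := hvw _ h2 hv2 hw2
    have he := CycDim.eq_of_delta_le hδ hspec (by rw [hP.2]; omega)
    refine PrimeSpectrum.ext ?_
    rw [← e1, ← e2]
    revert h1 h2
    rw [he]
    intros
    rfl
  have hfin : S'.Finite := by
    refine Set.Finite.of_finite_image (f := PrimeSpectrum.asIdeal) ?_ (fun P _ Q _ h => PrimeSpectrum.ext h)
    refine (Ideal.finite_minimalPrimes_of_isNoetherianRing _ (I ⊔ J)).subset ?_
    rintro _ ⟨P, hP, rfl⟩
    refine ⟨⟨P.2, hP.1⟩, fun L hL hLP => ?_⟩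
    exact (congrArg PrimeSpectrum.asIdeal (hmin P hP ⟨L, hL.1⟩ hL.2 hLP)).ge
  let S := hfin.toFinset
  have hS : ∀ P, P ∈ S ↔ P ∈ Z ∧ δ (pt P) = δ v + δ w - n := fun P => hfin.mem_toFinset
  -- devissage
  have hdev : ∀ i, IntMult.chi A (A ⧸ genPrime hu) (T i) =
      ∑ P ∈ S, ((lenAt P (T i)).toNat : ℤ) * IntMult.chi A (A ⧸ genPrime hu) (A ⧸ P.asIdeal) := by
    intro i
    refine (devissage (fun L _ _ => IntMult.chi A (A ⧸ genPrime hu) L) Z S ?_ ?_
      (fun P hP => hmin P (hfin.mem_toFinset.1 hP)) (T i) (hsuppT i) :)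
    · intro L₁ L₂ L₃ _ _ _ _ _ _ _ a b ha hb hab hL
      exact chi_add_right _ a b ha hb hab (hdisj L₂ hL)
    · intro P hP hPS
      obtain ⟨h1, e1, hv1, hw1⟩ := hZpt P hP
      have hlt : δ (pt P) < δ v + δ w - n := lt_of_le_of_ne (hvw _ h1 hv1 hw1) fun he => hPS ((hS P).2 ⟨hP, he⟩)
      obtain ⟨hbP, hζP⟩ := dim_quot_genPrime hδ h1
      have hrad : IsLocalRing.maximalIdeal A ≤ (genPrime h1 ⊔ genPrime hu).radical := by
        rw [Ideal.radical_eq_sInf]
        refine le_sInf fun L ⟨hL, hLp⟩ => (hmeet ⟨L, hLp⟩ (le_sup_right.trans hL) ?_).ge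
        exact (hP : I ⊔ J ≤ P.asIdeal).trans (e1 ▸ le_sup_left.trans hL)
      show IntMult.chi A (A ⧸ genPrime hu) (A ⧸ P.asIdeal) = 0
      rw [chi_quot_congr rfl e1.symm]
      exact DiagTor.chi_zero_stalk K f ζ (genPrime hu) (genPrime h1) _ _ _ hA hau hbP hrad (by omega)
  obtain ⟨d, hdim⟩ := SerreReg.exists_dim A
  -- the intersection product
  have hval : ∀ P ∈ S, ∃ h1 : pt P ⤳ ζ, (δ u + δ (pt P) - n = δ ζ) ∧
      IntMult.interProd δ n (Set.indicator {v} 1) (Set.indicator {w} 1) (pt P) *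
        IntMult.mult (IntMult.ptIdeal u) (IntMult.ptIdeal (pt P)) ζ =
      IntMult.chi A (A ⧸ genPrime hu) (A ⧸ P.asIdeal) *
        ∑ᶠ i : ℕ, (-1 : ℤ) ^ i * ((lenAt P (T i)).toNat : ℤ) := by
    intro P hP
    obtain ⟨hPZ, hPd⟩ := (hS P).1 hP
    obtain ⟨h1, e1, hv1, hw1⟩ := hZpt P hPZ
    refine ⟨h1, by omega, ?_⟩
    rw [interProd_prime_prime hv1 hw1 hPd.symm, IntMult.mult, IntMult.mult, stalkIdeal_ptIdeal hu,
      stalkIdeal_ptIdeal h1, chi_flip _ (_ ⧸ genPrime hu), mul_comm, chi_quot_congr rfl e1]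
    congr 1
    letI := (CycDim.spz h1).toAlgebra
    haveI : IsLocalization.AtPrime (X.presheaf.stalk (pt P)) P.asIdeal := by
      have h := CycDim.isLocalization_genPrime h1
      unfold IsLocalization.AtPrime
      convert h using 2
      exact e1.symm
    rw [finsum_lenAt_tor P (X.presheaf.stalk (pt P)) I J]
    have em : ∀ (y : X) (hy : y ⤳ ζ), y ⤳ pt P → IntMult.stalkIdeal (IntMult.ptIdeal y) (pt P) =
        (genPrime hy).map (X.presheaf.stalkSpecializes h1).hom := fun y hy hy1 => by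
      rw [stalkIdeal_map_spz _ h1 (mem_ptIdeal_support.2 hy1) (mem_ptIdeal_support.2 hy), stalkIdeal_ptIdeal hy]
    rw [em w hw hw1, em v hv hv1]
    exact chi_flip _ _
  -- reindexing
  choose hp1 hp2 hp3 using hval
  let e : S → {p : X × X // p.1 ⤳ ζ ∧ p.2 ⤳ ζ ∧ δ p.1 + δ p.2 - n = δ ζ} := fun P =>
    ⟨(u, pt P.1), hu, hp1 P.1 P.2, hp2 P.1 P.2⟩
  have hptinj : ∀ P ∈ Z, ∀ Q ∈ Z, pt P = pt Q → P = Q := by
    intro P hP Q hQ he
    obtain ⟨h1, e1, -, -⟩ := hZpt P hP
    obtain ⟨h2, e2, -, -⟩ := hZpt Q hQ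
    refine PrimeSpectrum.ext ?_
    rw [← e1, ← e2]
    revert h1 h2
    rw [he]
    intros
    rfl
  rw [IntMult.interProd, finsum_eq_sum_of_support_subset _ (s := (Finset.univ : Finset S).image e) ?_,
    Finset.sum_image ?_]
  · calc ∑ P : S, _ = ∑ P : S, IntMult.chi A (A ⧸ genPrime hu) (A ⧸ P.1.asIdeal) *
          ∑ᶠ i : ℕ, (-1 : ℤ) ^ i * ((lenAt P.1 (T i)).toNat : ℤ) := Finset.sum_congr rfl fun P _ => by
            show Set.indicator {u} (1 : X → ℤ) u * _ * _ = _
            rw [Set.indicator_of_mem (Set.mem_singleton u), Pi.one_apply, one_mul]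
            exact hp3 P.1 P.2
      _ = ∑ i ∈ Finset.range (d + 1), (-1 : ℤ) ^ i * IntMult.chi A (A ⧸ genPrime hu) (T i) := by
          have hv0 : ∀ (P : PrimeSpectrum A) (i : ℕ), d < i → lenAt P (T i) = 0 := fun P i hi => by
            haveI := tor_vanish_gt hdim (A ⧸ I) (A ⧸ J) hi
            exact (SopLen.lenAt_eq_zero_iff P _).2 fun m => ⟨1, P.asIdeal.one_notMem, Subsingleton.elim _ _⟩
          simp only [hdev, Finset.mul_sum]
          rw [Finset.sum_comm]
          refine (Finset.sum_coe_sort S (fun P => IntMult.chi A (A ⧸ genPrime hu) (A ⧸ P.asIdeal) *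
            ∑ᶠ i : ℕ, (-1 : ℤ) ^ i * ((lenAt P (T i)).toNat : ℤ))).trans ?_
          refine Finset.sum_congr rfl fun P _ => ?_
          rw [finsum_eq_sum_of_support_subset _ (s := Finset.range (d + 1)) ?_, Finset.mul_sum]
          · exact Finset.sum_congr rfl fun i _ => by ring
          · intro i hi
            rw [Finset.coe_range, Set.mem_Iio]
            by_contra h
            exact hi (show (-1 : ℤ) ^ i * _ = 0 by rw [hv0 P i (by omega)]; simp)
      _ = _ := by
          refine (finsum_eq_sum_of_support_subset _ ?_).symm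
          intro i hi
          rw [Finset.coe_range, Set.mem_Iio]
          by_contra h
          haveI := tor_vanish_gt hdim (A ⧸ I) (A ⧸ J) (show d < i by omega)
          exact hi (show (-1 : ℤ) ^ i * IntMult.chi A (A ⧸ genPrime hu) (T i) = 0 by rw [chi_zero_right, mul_zero])
  · intro P _ Q _ he
    exact Subtype.ext (hptinj _ ((hS _).1 P.2).1 _ ((hS _).1 Q.2).1 (congrArg (fun p => p.1.2) he))
  · rintro ⟨⟨a, b⟩, ha, hb, hab⟩ hp
    obtain rfl : a = u := indicator_ne (left_ne_zero_of_mul (left_ne_zero_of_mul hp))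
    obtain ⟨c, hvb, hcb, hd2, hc⟩ := interProd_prime_ne (right_ne_zero_of_mul (left_ne_zero_of_mul hp))
    obtain rfl : c = w := indicator_ne hc
    have hPZ : (⟨genPrime hb, inferInstance⟩ : PrimeSpectrum A) ∈ Z :=
      sup_le (show genPrime (hvb.trans hb) ≤ genPrime hb from genPrime_mono hvb hb)
        (show genPrime (hcb.trans hb) ≤ genPrime hb from genPrime_mono hcb hb)
    have hpt : pt ⟨genPrime hb, inferInstance⟩ = b := fromSpecStalk_genPrime hb
    rw [Finset.coe_image, Finset.coe_univ, Set.image_univ]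
    dsimp only at hd2 hab
    exact ⟨⟨_, (hS _).2 ⟨hPZ, by rw [hpt]; omega⟩⟩, Subtype.ext (Prod.ext rfl hpt)⟩


include K f in
/-- Associativity at a point only needs proper intersection near it. -/
theorem interProd_assoc_local (hδ : Cyc.IsDimFun X δ) (n : ℤ) (hn : δ (genericPoint X) = n) (u v w ζ : X)
    (huv : ∀ η : X, η ⤳ ζ → u ⤳ η → v ⤳ η → δ η ≤ δ u + δ v - n)
    (hvw : ∀ η : X, η ⤳ ζ → v ⤳ η → w ⤳ η → δ η ≤ δ v + δ w - n)
    (h3 : ∀ z : X, u ⤳ z → v ⤳ z → w ⤳ z → δ z ≤ δ u + δ v + δ w - 2 * n) :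
    IntMult.interProd δ n (Set.indicator {u} 1) (IntMult.interProd δ n (Set.indicator {v} 1) (Set.indicator {w} 1)) ζ =
      IntMult.interProd δ n (IntMult.interProd δ n (Set.indicator {u} 1) (Set.indicator {v} 1))
        (Set.indicator {w} 1) ζ := by
  rw [interProd_comm δ n (IntMult.interProd δ n (Set.indicator {u} 1) (Set.indicator {v} 1))]
  by_cases h : u ⤳ ζ ∧ v ⤳ ζ ∧ w ⤳ ζ ∧ δ ζ = δ u + δ v + δ w - 2 * n
  · obtain ⟨hu, hv, hw, hd⟩ := h
    haveI := SmLocalST.isRegularLocalRing_stalk_of_smooth_field f ζ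
    obtain ⟨hA₁, e₁⟩ := interProd_triple_local K f hδ n hn u v w ζ hu hv hw hd hvw h3
    obtain ⟨hA₂, e₂⟩ := interProd_triple_local K f hδ n hn w u v ζ hw hu hv (by omega) huv
      (fun z h1 h2 h3' => le_of_le_of_eq (h3 z h2 h3' h1) (by ring))
    rw [e₁, e₂]
    exact sum_chi_tor_eq _ _ _ hA₁ hA₂
  · have h0 : IntMult.interProd δ n (Set.indicator {u} 1)
        (IntMult.interProd δ n (Set.indicator {v} 1) (Set.indicator {w} 1)) ζ = 0 :=
      of_not_not fun hne => h (interProd_triple_ne hne)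
    rw [h0, eq_comm]
    refine of_not_not fun hne => h ?_
    obtain ⟨h1, h2, h3, h4⟩ := interProd_triple_ne hne
    exact ⟨h2, h3, h1, by omega⟩

end Groth.Agent.BivarOps
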