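import Groth.Agent.BivarOps.InterStalk
import Groth.Agent.S1899
import Groth.Agent.RefStalk.Refl
import Groth.Agent.Intersect.Push

/-!
Bilinearity of the intersection product, and points as cycles of sheaves.
-/

set_option autoImplicit false
set_option linter.style.haveILetI false
set_option backward.isDefEq.respectTransparency false

universe u

open CategoryTheory AlgebraicGeometry
open Groth.Agent.CDivNormal (genPrime)

namespace Groth.Agent.BivarOps

variable {X : Scheme.{u}}

theorem length_ptIdeal_stalk {a : X} (z : (IntMult.ptIdeal a).subscheme) (hz : (IntMult.ptIdeal a).subschemeι z = a) :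
    Module.length ((IntMult.ptIdeal a).subscheme.presheaf.stalk z) ((IntMult.ptIdeal a).subscheme.presheaf.stalk z) = 1 := by
  let w := (IntMult.ptIdeal a).subschemeι z
  have hw : w = a := hz
  have e : RingHom.ker ((IntMult.ptIdeal a).subschemeι.stalkMap z).hom = IsLocalRing.maximalIdeal (X.presheaf.stalk w) := by
    rw [← stalkIdeal_eq]
    have : ∀ v : X, v = a → IntMult.stalkIdeal (IntMult.ptIdeal a) v = IsLocalRing.maximalIdeal (X.presheaf.stalk v) := by
      rintro v rfl
      rw [stalkIdeal_ptIdeal (specializes_refl v), CycDim.genPrime_rfl]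
    exact this w hw
  rw [← CycDim.length_congr ((Ideal.quotEquivOfEq e.symm).trans
    (RingHom.quotientKerEquivOfSurjective ((IntMult.ptIdeal a).subschemeι.stalkMap_surjective z)))]
  exact Module.length_eq_one (R := IsLocalRing.ResidueField (X.presheaf.stalk w))
    (M := IsLocalRing.ResidueField (X.presheaf.stalk w))

open Classical in
/-- The cycle of a point is the cycle of a coherent sheaf. -/
theorem exists_pointSheaf {δ : X → ℤ} (hX : Cyc.IsSetup X δ) (a : X) :
    ∃ F : X.Modules, Coh.IsCoh F ∧ (∀ x : X, Nontrivial (F.presheaf.stalk x) → a ⤳ x) ∧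
      (∀ x : X, Nontrivial (F.presheaf.stalk x) → δ x ≤ δ a) ∧
      ∀ x : X, Cyc.sheafFun δ (δ a) F x = if x = a then 1 else 0 := by
  haveI := hX.1
  let ι := (IntMult.ptIdeal a).subschemeι
  haveI : IsLocallyNoetherian (IntMult.ptIdeal a).subscheme := LocallyOfFiniteType.isLocallyNoetherian ι
  have hrange : Set.range ι = {x : X | a ⤳ x} := by
    rw [(IntMult.ptIdeal a).range_subschemeι]
    exact Set.ext fun x => mem_ptIdeal_support
  have hle : ∀ x : X, a ⤳ x → δ x ≤ δ a := fun x h => by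
    by_cases hxa : a = x
    · rw [hxa]
    · exact (hX.2.2 a x h hxa).1.le
  have hdim : ∀ z, δ (ι z) ≤ δ a := fun z => hle _ (show ι z ∈ {x : X | a ⤳ x} from hrange ▸ ⟨z, rfl⟩)
  refine ⟨(Coh.push ι).obj (Coh.structureModule _), Intersect.isCoh_push' ι RefStalk.isCoh_structureModule,
    fun x hx => ?_, fun x hx => ?_, fun x => ?_⟩
  · by_contra h
    exact not_subsingleton_iff_nontrivial.2 hx
      (KFlat.subsingleton_stalk_push ι _ (show x ∉ Set.range ι by rw [hrange]; exact h))
  · refine hle x ?_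
    by_contra h
    exact not_subsingleton_iff_nontrivial.2 hx
      (KFlat.subsingleton_stalk_push ι _ (show x ∉ Set.range ι by rw [hrange]; exact h))
  · rw [← Groth.Agent.S1899.result X _ δ hX ι (δ a) hdim, Cyc.subschemeFun]
    split_ifs with h1 h2 h2
    · subst h2
      obtain ⟨z, hz⟩ : x ∈ Set.range ι := by rw [hrange]; exact specializes_rfl
      have hset : {w | ι w = x} = {z} :=
        Set.ext fun w => ⟨fun h => ι.isClosedEmbedding.injective (h.trans hz.symm), fun h => (congrArg ι h).trans hz⟩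
      rw [hset, finsum_mem_singleton, length_ptIdeal_stalk z hz]
      rfl
    · refine finsum_mem_eq_zero_of_forall_eq_zero fun z hz => ?_
      exfalso
      have hax : a ⤳ x := show x ∈ {x : X | a ⤳ x} from hrange ▸ ⟨z, hz⟩
      exact h2 (CycDim.eq_of_delta_le hX.2.2 hax h1.ge).symm
    · exact absurd (congrArg δ h2) h1
    · rfl

theorem finite_gens (α : AlgebraicCycle X ℤ) (y : X) : {a : X | a ⤳ y ∧ α a ≠ 0}.Finite := by
  obtain ⟨t, ht, hfin⟩ := α.supportLocallyFiniteWithinDomain' y trivial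
  refine hfin.subset fun a ha => ⟨?_, ha.2⟩
  obtain ⟨U, hUt, hU, hyU⟩ := mem_nhds_iff.1 ht
  exact hUt (ha.1.mem_open hU hyU)

open Classical in
theorem interProd_sum {δ : X → ℤ} {n : ℤ} (x : X) {ιA ιB : Type*} (A : Finset ιA) (B : Finset ιB)
    (c : ιA → ℤ) (d : ιB → ℤ) (u : ιA → X → ℤ) (v : ιB → X → ℤ) (α β : X → ℤ)
    (hα : ∀ ξ, ξ ⤳ x → α ξ = ∑ a ∈ A, c a * u a ξ) (hβ : ∀ η, η ⤳ x → β η = ∑ b ∈ B, d b * v b η)
    (hu : ∀ a ∈ A, {ξ | ξ ⤳ x ∧ u a ξ ≠ 0}.Finite) (hv : ∀ b ∈ B, {η | η ⤳ x ∧ v b η ≠ 0}.Finite) :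
    IntMult.interProd δ n α β x = ∑ a ∈ A, ∑ b ∈ B, c a * d b * IntMult.interProd δ n (u a) (v b) x := by
  simp only [IntMult.interProd]
  have hfin : ∀ a ∈ A, ∀ b ∈ B, Function.HasFiniteSupport
      (fun p : {p : X × X // p.1 ⤳ x ∧ p.2 ⤳ x ∧ δ p.1 + δ p.2 - n = δ x} =>
        u a p.1.1 * v b p.1.2 * IntMult.mult (IntMult.ptIdeal p.1.1) (IntMult.ptIdeal p.1.2) x) := by
    intro a ha b hb
    refine ((((hu a ha).prod (hv b hb)).preimage Subtype.val_injective.injOn)).subset fun p hp => ?_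
    exact ⟨⟨p.2.1, left_ne_zero_of_mul (left_ne_zero_of_mul hp)⟩,
      ⟨p.2.2.1, right_ne_zero_of_mul (left_ne_zero_of_mul hp)⟩⟩
  refine (finsum_congr (g := fun p : {p : X × X // p.1 ⤳ x ∧ p.2 ⤳ x ∧ δ p.1 + δ p.2 - n = δ x} =>
      ∑ ab ∈ A ×ˢ B, c ab.1 * d ab.2 * (u ab.1 p.1.1 * v ab.2 p.1.2 *
        IntMult.mult (IntMult.ptIdeal p.1.1) (IntMult.ptIdeal p.1.2) x)) fun p => ?_).trans ?_
  · rw [hα _ p.2.1, hβ _ p.2.2.1, Finset.sum_mul_sum, Finset.sum_product, Finset.sum_mul]
    refine Finset.sum_congr rfl fun a _ => ?_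
    rw [Finset.sum_mul]
    exact Finset.sum_congr rfl fun b _ => by ring
  rw [finsum_sum_comm, Finset.sum_product]
  · exact Finset.sum_congr rfl fun a ha => Finset.sum_congr rfl fun b hb => (mul_finsum _ _).symm
  · intro ab hab
    rw [Finset.mem_product] at hab
    exact (hfin _ hab.1 _ hab.2).subset fun p hp => right_ne_zero_of_mul hp

end Groth.Agent.BivarOps
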