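import Groth.Agent.BivarOps.InterExt
import Groth.Agent.BivarOps.InterAssoc
import Groth.Agent.DiagTor.Scheme
import Groth.Agent.DiagTor.Dim
import Groth.Agent.DiagTor.Chart
import Groth.Agent.CycDim.PushVanish
import Groth.Agent.P1Div.Push

/-!
The product of two prime cycles near the diagonal.
-/

set_option autoImplicit false
set_option linter.style.haveILetI false
set_option backward.isDefEq.respectTransparency false
set_option maxHeartbeats 1000000

universe u

open CategoryTheory CategoryTheory.Limits AlgebraicGeometry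
open scoped TensorProduct
open Groth.Agent.CDivNormal (genPrime mem_genPrime germ_mem_genPrime exists_genPrime_eq genPrime_mono specializes_of_le)

namespace Groth.Agent.BivarOps

variable {X Y : Scheme.{u}}

theorem left_mem_of_mem_sum {k R : Type u} [Field k] [CommRing R] [Algebra k R] (Q P : Ideal R) [P.IsPrime]
    (t : R) (h : t ⊗ₜ (1 : R) ∈ DiagTor.leftIdeal k R Q ⊔ DiagTor.rightIdeal k R P) : t ∈ Q := by
  let m := Algebra.TensorProduct.map (Ideal.Quotient.mkₐ k Q) (Ideal.Quotient.mkₐ k P)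
  have hle : DiagTor.leftIdeal k R Q ⊔ DiagTor.rightIdeal k R P ≤ RingHom.ker m := by
    refine sup_le (Ideal.map_le_iff_le_comap.2 fun a ha => ?_) (Ideal.map_le_iff_le_comap.2 fun a ha => ?_)
    · show m (a ⊗ₜ 1) = 0
      simp [m, Ideal.Quotient.eq_zero_iff_mem.2 ha]
    · show m (1 ⊗ₜ a) = 0
      simp [m, Ideal.Quotient.eq_zero_iff_mem.2 ha]
  have h0 : (Algebra.TensorProduct.includeLeft : R ⧸ Q →ₐ[k] (R ⧸ Q) ⊗[k] (R ⧸ P)) (Ideal.Quotient.mk Q t) = 0 := by
    have := hle h
    simpa [m] using this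
  exact Ideal.Quotient.eq_zero_iff_mem.1
    (Algebra.TensorProduct.includeLeft_injective (FaithfulSMul.algebraMap_injective k (R ⧸ P)) (h0.trans (map_zero _).symm))

theorem right_mem_of_mem_sum {k R : Type u} [Field k] [CommRing R] [Algebra k R] (Q P : Ideal R) [Q.IsPrime]
    (t : R) (h : (1 : R) ⊗ₜ t ∈ DiagTor.leftIdeal k R Q ⊔ DiagTor.rightIdeal k R P) : t ∈ P := by
  let m := Algebra.TensorProduct.map (Ideal.Quotient.mkₐ k Q) (Ideal.Quotient.mkₐ k P)
  have hle : DiagTor.leftIdeal k R Q ⊔ DiagTor.rightIdeal k R P ≤ RingHom.ker m := by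
    refine sup_le (Ideal.map_le_iff_le_comap.2 fun a ha => ?_) (Ideal.map_le_iff_le_comap.2 fun a ha => ?_)
    · show m (a ⊗ₜ 1) = 0
      simp [m, Ideal.Quotient.eq_zero_iff_mem.2 ha]
    · show m (1 ⊗ₜ a) = 0
      simp [m, Ideal.Quotient.eq_zero_iff_mem.2 ha]
  have h0 : (Algebra.TensorProduct.includeRight : R ⧸ P →ₐ[k] (R ⧸ Q) ⊗[k] (R ⧸ P)) (Ideal.Quotient.mk P t) = 0 := by
    have := hle h
    simpa [m] using this
  exact Ideal.Quotient.eq_zero_iff_mem.1
    (Algebra.TensorProduct.includeRight_injective (FaithfulSMul.algebraMap_injective k (R ⧸ Q)) (h0.trans (map_zero _).symm))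

/-- A stalk map respects the primes of generalisations. -/
theorem stalkMap_mem_genPrime (q : Y ⟶ X) {z d : Y} (h : z ⤳ d) {U : X.Opens} (hU : IsAffineOpen U) (hd : q d ∈ U)
    (c : Γ(X, U)) :
    (q.stalkMap d).hom ((X.presheaf.germ U (q d) hd).hom c) ∈ genPrime h ↔
      c ∈ (hU.primeIdealOf ⟨q z, (h.map q.continuous).mem_open U.2 hd⟩).asIdeal := by
  have hz : q z ∈ U := (h.map q.continuous).mem_open U.2 hd
  rw [← germ_mem_genPrime (h.map q.continuous) hU hd c, mem_genPrime, mem_genPrime,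
    ← Scheme.Hom.stalkSpecializes_stalkMap_apply q z d h]
  exact not_congr ⟨fun hu => isUnit_of_map_unit (q.stalkMap z).hom _ hu, fun hu => hu.map (q.stalkMap z).hom⟩

variable {K : Type u} [Field K] (f : X ⟶ Spec (CommRingCat.of K)) [IsSeparated f]

theorem diag_fst_apply (x : X) : pullback.fst f f (pullback.diagonal f x) = x := by
  rw [← Scheme.Hom.comp_apply, pullback.diagonal_fst]; rfl

theorem diag_snd_apply (x : X) : pullback.snd f f (pullback.diagonal f x) = x := by
  rw [← Scheme.Hom.comp_apply, pullback.diagonal_snd]; rfl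

theorem delta_diag {δ : X → ℤ} {δ₂ : ↥(pullback f f) → ℤ} (h : Cyc.DeltaCompat (pullback.fst f f) δ₂ δ) (x : X) :
    δ₂ (pullback.diagonal f x) = δ x := by
  have h1 := Bivar.deltaCompat_comp (pullback.diagonal f) (pullback.fst f f) _ δ₂ δ
    (CycPush.deltaCompat_preimmersion (pullback.diagonal f) δ₂) h
  rw [pullback.diagonal_fst] at h1
  exact CycPush.deltaCompat_unique (𝟙 X) h1 (CycPush.deltaCompat_preimmersion (𝟙 X) δ) x

theorem residueDegree_diag (x : X) : (pullback.fst f f).residueDegree (pullback.diagonal f x) = 1 := by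
  have e : (pullback.diagonal f ≫ pullback.fst f f).residueDegree x = (𝟙 X : X ⟶ X).residueDegree x :=
    congrArg (fun m : X ⟶ X => m.residueDegree x) (pullback.diagonal_fst f)
  rw [CycDeg.residueDegree_comp,
    CycDeg.residueDegree_eq_one (pullback.diagonal f) (CycPush.residueFieldMap_surjective_pre _ x),
    CycDeg.residueDegree_eq_one (𝟙 X) (CycPush.residueFieldMap_surjective_pre _ x), mul_one] at e
  exact e

variable [IsAlgClosed K] [Smooth f] [QuasiCompact f] [AlgebraicGeometry.IsIntegral X]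

/-- The product of two points near the diagonal is one point, of multiplicity one. -/
theorem exists_prod_point {δ : X → ℤ} {δ₂ : ↥(pullback f f) → ℤ} (hX : Cyc.IsSetup X δ)
    (hδ : Cyc.DeltaCompat f δ (fun _ => 0)) (h₂ : Cyc.DeltaCompat (pullback.fst f f) δ₂ δ)
    {a b ξ : X} (ha : a ⤳ ξ) (hb : b ⤳ ξ) :
    ∃ (z : ↥(pullback f f)) (h : z ⤳ pullback.diagonal f ξ),
      pullback.fst f f z = a ∧ pullback.snd f f z = b ∧ δ₂ z = δ a + δ b ∧
      Module.length ((pullback f f).presheaf.stalk z) (((pullback f f).presheaf.stalk z) ⧸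
        ((IsLocalRing.maximalIdeal (X.presheaf.stalk (pullback.fst f f z))).map ((pullback.fst f f).stalkMap z).hom ⊔
          (IsLocalRing.maximalIdeal (X.presheaf.stalk (pullback.snd f f z))).map
            ((pullback.snd f f).stalkMap z).hom)) = 1 ∧
      (∀ w : ↥(pullback f f), w ⤳ pullback.diagonal f ξ → pullback.fst f f w = a → pullback.snd f f w = b → z ⤳ w) ∧
      IntMult.chi ((pullback f f).presheaf.stalk (pullback.diagonal f ξ))
          (((pullback f f).presheaf.stalk (pullback.diagonal f ξ)) ⧸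
            IntMult.stalkIdeal (pullback.diagonal f).ker (pullback.diagonal f ξ))
          (((pullback f f).presheaf.stalk (pullback.diagonal f ξ)) ⧸ genPrime h) =
        IntMult.chi (X.presheaf.stalk ξ) (X.presheaf.stalk ξ ⧸ genPrime hb) (X.presheaf.stalk ξ ⧸ genPrime ha) := by
  haveI := hX.1
  obtain ⟨U, hU, hxU, -⟩ := exists_isAffineOpen_mem_and_subset (x := ξ) (U := ⊤) trivial
  haveI : Nonempty U := ⟨⟨ξ, hxU⟩⟩
  haveI : IsDomain Γ(X, U) := inferInstance
  letI : Algebra K Γ(X, U) := ((Scheme.ΓSpecIso (CommRingCat.of K)).inv ≫ f.appLE ⊤ U le_top).hom.toAlgebra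
  haveI : Algebra.FiniteType K Γ(X, U) := by
    have hfT := f.finiteType_appLE (isAffineOpen_top _) hU le_top
    refine RingHom.finiteType_algebraMap.1 ?_
    rw [RingHom.algebraMap_toAlgebra]
    exact hfT.comp (RingHom.FiniteType.of_surjective _
      (Scheme.ΓSpecIso (CommRingCat.of K)).symm.commRingCatIsoToRingEquiv.surjective)
  letI : Algebra Γ(X, U) (X.presheaf.stalk ξ) := (X.presheaf.germ U ξ hxU).hom.toAlgebra
  let p := (hU.primeIdealOf ⟨ξ, hxU⟩).asIdeal
  haveI : IsLocalization.AtPrime (X.presheaf.stalk ξ) p := hU.isLocalization_stalk ⟨ξ, hxU⟩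
  obtain ⟨h₁, h₂', alg, hloc, halg⟩ := DiagTor.exists_diag_algebra f U hU (DiagTor.specMap_secAlg f hU) ξ hxU
  letI := alg
  let d := pullback.diagonal f ξ
  haveI : IsLocalization (p.comap (DiagTor.mu K Γ(X, U))).primeCompl ((pullback f f).presheaf.stalk d) := hloc
  have haU : a ∈ U := ha.mem_open U.2 hxU
  have hbU : b ∈ U := hb.mem_open U.2 hxU
  set Qa := (hU.primeIdealOf ⟨a, haU⟩).asIdeal with hQa
  set Qb := (hU.primeIdealOf ⟨b, hbU⟩).asIdeal with hQb
  have hgen : ∀ {c : X} (hc : c ⤳ ξ) (hcU : c ∈ U),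
      (hU.primeIdealOf ⟨c, hcU⟩).asIdeal ≤ p ∧
        (hU.primeIdealOf ⟨c, hcU⟩).asIdeal.map (algebraMap Γ(X, U) (X.presheaf.stalk ξ)) = genPrime hc := by
    intro c hc hcU
    have e : (genPrime hc).comap (algebraMap Γ(X, U) (X.presheaf.stalk ξ)) = (hU.primeIdealOf ⟨c, hcU⟩).asIdeal :=
      Ideal.ext fun t => germ_mem_genPrime hc hU hxU t
    refine ⟨fun t ht => ?_, by rw [← e]; exact IsLocalization.map_under p.primeCompl _ _⟩
    by_contra hnt
    rw [← e] at ht
    exact (inferInstance : (genPrime hc).IsPrime).ne_top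
      (Ideal.eq_top_of_isUnit_mem _ ht (IsLocalization.map_units _ (M := p.primeCompl) ⟨t, hnt⟩))
  let L := DiagTor.leftIdeal K Γ(X, U) Qa ⊔ DiagTor.rightIdeal K Γ(X, U) Qb
  obtain ⟨hLp, -⟩ := DiagTor.prime_sum (R := Γ(X, U)) (k := K) Qb Qa
  haveI : L.IsPrime := hLp
  have hL : L ≤ p.comap (DiagTor.mu K Γ(X, U)) := by
    refine sup_le (Ideal.map_le_iff_le_comap.2 fun t ht => ?_) (Ideal.map_le_iff_le_comap.2 fun t ht => ?_)
    · show DiagTor.mu K Γ(X, U) (t ⊗ₜ 1) ∈ p
      rw [show DiagTor.mu K Γ(X, U) (t ⊗ₜ 1) = t by simp [DiagTor.mu]]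
      exact (hgen ha haU).1 ht
    · show DiagTor.mu K Γ(X, U) (1 ⊗ₜ t) ∈ p
      rw [show DiagTor.mu K Γ(X, U) (1 ⊗ₜ t) = t by simp [DiagTor.mu]]
      exact (hgen hb hbU).1 ht
  have hdisj : Disjoint ((p.comap (DiagTor.mu K Γ(X, U))).primeCompl : Set (Γ(X, U) ⊗[K] Γ(X, U))) (L : Set _) :=
    Set.disjoint_left.2 fun t ht htL => ht (hL htL)
  haveI hIW : (L.map (algebraMap (Γ(X, U) ⊗[K] Γ(X, U)) ((pullback f f).presheaf.stalk d))).IsPrime :=
    IsLocalization.isPrime_of_isPrime_disjoint _ _ L hLp hdisj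
  obtain ⟨z, h, hz⟩ := exists_genPrime_eq d (L.map (algebraMap (Γ(X, U) ⊗[K] Γ(X, U)) ((pullback f f).presheaf.stalk d)))
  have hleft : ∀ (w : ↥(pullback f f)) (hw : w ⤳ d) (t : Γ(X, U)),
      algebraMap (Γ(X, U) ⊗[K] Γ(X, U)) ((pullback f f).presheaf.stalk d) (t ⊗ₜ 1) ∈ genPrime hw ↔
        t ∈ (hU.primeIdealOf ⟨pullback.fst f f w, (hw.map (pullback.fst f f).continuous).mem_open U.2 h₁⟩).asIdeal := by
    intro w hw t
    rw [halg, map_one, map_one, mul_one, stalkMap_mem_genPrime (pullback.fst f f) hw hU h₁]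
  have hright : ∀ (w : ↥(pullback f f)) (hw : w ⤳ d) (t : Γ(X, U)),
      algebraMap (Γ(X, U) ⊗[K] Γ(X, U)) ((pullback f f).presheaf.stalk d) (1 ⊗ₜ t) ∈ genPrime hw ↔
        t ∈ (hU.primeIdealOf ⟨pullback.snd f f w, (hw.map (pullback.snd f f).continuous).mem_open U.2 h₂'⟩).asIdeal := by
    intro w hw t
    rw [halg, map_one, map_one, one_mul, stalkMap_mem_genPrime (pullback.snd f f) hw hU h₂']
  have hpt : ∀ {x y : X} (hx : x ∈ U) (hy : y ∈ U),
      (hU.primeIdealOf ⟨x, hx⟩).asIdeal ≤ (hU.primeIdealOf ⟨y, hy⟩).asIdeal ↔ x ⤳ y := by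
    intro x y hx hy
    rw [show (hU.primeIdealOf ⟨x, hx⟩).asIdeal ≤ (hU.primeIdealOf ⟨y, hy⟩).asIdeal ↔
      hU.primeIdealOf ⟨x, hx⟩ ≤ hU.primeIdealOf ⟨y, hy⟩ from Iff.rfl, PrimeSpectrum.le_iff_specializes,
      ← hU.fromSpec.isOpenEmbedding.isInducing.specializes_iff, hU.fromSpec_primeIdealOf, hU.fromSpec_primeIdealOf]
  have hmin : ∀ (w : ↥(pullback f f)) (hw : w ⤳ d), a ⤳ pullback.fst f f w → b ⤳ pullback.snd f f w →
      genPrime h ≤ genPrime hw := by
    intro w hw h1 h2
    rw [hz]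
    refine Ideal.map_le_iff_le_comap.2 (sup_le (Ideal.map_le_iff_le_comap.2 fun t ht => ?_)
      (Ideal.map_le_iff_le_comap.2 fun t ht => ?_))
    · exact (hleft w hw t).2 ((hpt haU _).2 h1 ht)
    · exact (hright w hw t).2 ((hpt hbU _).2 h2 ht)
  have haz : a ⤳ pullback.fst f f z := by
    refine (hpt haU ((h.map (pullback.fst f f).continuous).mem_open U.2 h₁)).1 fun t ht => (hleft z h t).1 ?_
    rw [hz]
    exact Ideal.mem_map_of_mem _ (Ideal.mem_sup_left (Ideal.mem_map_of_mem _ ht))
  have hbz : b ⤳ pullback.snd f f z := by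
    refine (hpt hbU ((h.map (pullback.snd f f).continuous).mem_open U.2 h₂')).1 fun t ht => (hright z h t).1 ?_
    rw [hz]
    exact Ideal.mem_map_of_mem _ (Ideal.mem_sup_right (Ideal.mem_map_of_mem _ ht))
  -- the point lies over the pair
  obtain ⟨w₀, hw₁, hw₂⟩ := Scheme.Pullback.exists_preimage_pullback (f := f) (g := f) a b (by
    haveI : Subsingleton (Spec (CommRingCat.of K)) := inferInstanceAs (Subsingleton (PrimeSpectrum K))
    exact Subsingleton.elim _ _)
  have hcomap : ∀ t : Γ(X, U) ⊗[K] Γ(X, U),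
      algebraMap (Γ(X, U) ⊗[K] Γ(X, U)) ((pullback f f).presheaf.stalk d) t ∈ genPrime h → t ∈ L := by
    intro t ht
    rw [hz] at ht
    have := IsLocalization.comap_map_of_isPrime_disjoint _ ((pullback f f).presheaf.stalk d) ‹L.IsPrime› hdisj
    exact this ▸ ht
  have hfa : pullback.fst f f z = a := by
    refine ((?_ : pullback.fst f f z ⤳ a).antisymm haz).eq
    refine (hpt ((h.map (pullback.fst f f).continuous).mem_open U.2 h₁) haU).1 fun t ht => ?_
    have h1 := hcomap _ ((hleft z h t).2 ht)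
    exact left_mem_of_mem_sum Qa Qb t h1
  have hsb : pullback.snd f f z = b := by
    refine ((?_ : pullback.snd f f z ⤳ b).antisymm hbz).eq
    refine (hpt ((h.map (pullback.snd f f).continuous).mem_open U.2 h₂') hbU).1 fun t ht => ?_
    have h1 := hcomap _ ((hright z h t).2 ht)
    exact right_mem_of_mem_sum Qa Qb t h1
  have hmax : ∀ w, w ⤳ z → a ⤳ pullback.fst f f w → b ⤳ pullback.snd f f w → w = z := by
    intro w hw h1 h2
    exact (hw.antisymm (specializes_of_le h (hw.trans h) (hmin w (hw.trans h) h1 h2))).eq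
  have hδz : δ₂ z = δ a + δ b := by
    obtain ⟨V, _, j, _, hj⟩ := exists_integral_sub b
    obtain ⟨e, he⟩ := exists_dim hδ (j (genericPoint V))
    have hsq : IsPullback (pullback.fst j (pullback.snd f f)) (pullback.snd j (pullback.snd f f)) j (pullback.snd f f) :=
      IsPullback.of_hasPullback _ _
    obtain ⟨w, -, hw⟩ := Scheme.exists_preimage_of_isPullback hsq (genericPoint V) z (hj.trans hsb.symm)
    have hd' := CycDim.delta_le (pullback.snd j (pullback.snd f f) ≫ pullback.fst f f)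
      (Bivar.deltaCompat_comp _ (pullback.fst f f) _ _ _ (CycPush.deltaCompat_preimmersion _ δ₂) h₂)
      (piece_relDim (pullback.fst f f) (pullback.snd f f) δ (IsPullback.of_hasPullback f f) hδ hsq he) w
    have heq := hd'.2.2 ?_
    · rw [hj] at he
      have heq' : δ₂ (pullback.snd j (pullback.snd f f) w) =
          δ (pullback.fst f f (pullback.snd j (pullback.snd f f) w)) + e := heq
      rw [hw, hfa] at heq'
      omega
    intro w' hw' hspec
    refine (pullback.snd j (pullback.snd f f)).isClosedEmbedding.injective ?_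
    rw [hw]
    refine hmax _ (hw ▸ hspec.map (pullback.snd j (pullback.snd f f)).continuous) ?_ ?_
    · have h' : pullback.fst f f (pullback.snd j (pullback.snd f f) w') = a := by
        rw [← Scheme.Hom.comp_apply, hw', Scheme.Hom.comp_apply, hw, hfa]
      exact specializes_of_eq h'.symm
    · rw [← Scheme.Hom.comp_apply, ← pullback.condition, Scheme.Hom.comp_apply, ← hj]
      exact ((genericPoint_spec V).specializes trivial).map j.continuous
  refine ⟨z, h, hfa, hsb, hδz, ?_, fun w hw h1 h2 => specializes_of_le h hw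
    (hmin w hw (specializes_of_eq h1.symm) (specializes_of_eq h2.symm)), ?_⟩
  · -- the multiplicity
    have hm : IsLocalRing.maximalIdeal ((pullback f f).presheaf.stalk z) ≤
        (IsLocalRing.maximalIdeal (X.presheaf.stalk (pullback.fst f f z))).map ((pullback.fst f f).stalkMap z).hom ⊔
          (IsLocalRing.maximalIdeal (X.presheaf.stalk (pullback.snd f f z))).map
            ((pullback.snd f f).stalkMap z).hom := by
      rw [← map_genPrime h, hz, Ideal.map_map]
      refine Ideal.map_le_iff_le_comap.2 (sup_le (Ideal.map_le_iff_le_comap.2 fun t ht => ?_)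
        (Ideal.map_le_iff_le_comap.2 fun t ht => ?_))
      · rw [Ideal.mem_comap, Ideal.mem_comap]
        show ((pullback f f).presheaf.stalkSpecializes h).hom
          (algebraMap (Γ(X, U) ⊗[K] Γ(X, U)) ((pullback f f).presheaf.stalk d) (t ⊗ₜ 1)) ∈ _
        rw [halg, map_one, map_one, mul_one, ← Scheme.Hom.stalkSpecializes_stalkMap_apply (pullback.fst f f) z d h]
        refine Ideal.mem_sup_left (Ideal.mem_map_of_mem _ ?_)
        exact (mem_genPrime (h.map (pullback.fst f f).continuous) _).1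
          ((germ_mem_genPrime (h.map (pullback.fst f f).continuous) hU h₁ t).2 ((hpt haU _).2 haz ht))
      · rw [Ideal.mem_comap, Ideal.mem_comap]
        show ((pullback f f).presheaf.stalkSpecializes h).hom
          (algebraMap (Γ(X, U) ⊗[K] Γ(X, U)) ((pullback f f).presheaf.stalk d) (1 ⊗ₜ t)) ∈ _
        rw [halg, map_one, map_one, one_mul, ← Scheme.Hom.stalkSpecializes_stalkMap_apply (pullback.snd f f) z d h]
        refine Ideal.mem_sup_right (Ideal.mem_map_of_mem _ ?_)
        exact (mem_genPrime (h.map (pullback.snd f f).continuous) _).1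
          ((germ_mem_genPrime (h.map (pullback.snd f f).continuous) hU h₂' t).2 ((hpt hbU _).2 hbz ht))
    have hle : ∀ (q : pullback f f ⟶ X), (IsLocalRing.maximalIdeal (X.presheaf.stalk (q z))).map (q.stalkMap z).hom ≤
        IsLocalRing.maximalIdeal ((pullback f f).presheaf.stalk z) := fun q =>
      Ideal.map_le_iff_le_comap.2 (IsLocalRing.maximalIdeal_comap (q.stalkMap z).hom).ge
    rw [le_antisymm (sup_le (hle _) (hle _)) hm, Module.length_eq_one_iff, isSimpleModule_iff_isCoatom]
    exact Ideal.isMaximal_def.1 inferInstance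
  · -- reduction to the diagonal
    let σ : ((pullback f f).presheaf.stalk d) →+* X.presheaf.stalk ξ := ((pullback.diagonal f).stalkMap ξ).hom
    have hσ : σ.comp (algebraMap (Γ(X, U) ⊗[K] Γ(X, U)) ((pullback f f).presheaf.stalk d)) =
        (algebraMap Γ(X, U) (X.presheaf.stalk ξ)).comp (DiagTor.mu K Γ(X, U)).toRingHom := by
      refine RingHom.ext fun t => ?_
      induction t using TensorProduct.induction_on with
      | zero => simp
      | add x y hx hy => simp only [map_add, hx, hy]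
      | tmul c e =>
        rw [RingHom.comp_apply, halg, map_mul]
        have key : ∀ (g : pullback f f ⟶ X) (hg : pullback.diagonal f ≫ g = 𝟙 X) (hm : g (pullback.diagonal f ξ) ∈ U)
            (c : Γ(X, U)), σ ((g.stalkMap (pullback.diagonal f ξ)).hom
              ((X.presheaf.germ U (g (pullback.diagonal f ξ)) hm).hom c)) = algebraMap Γ(X, U) (X.presheaf.stalk ξ) c := by
          intro g hg hm c
          show ((pullback.diagonal f).stalkMap ξ).hom ((g.stalkMap (pullback.diagonal f ξ)).hom _) = _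
          have e := Scheme.Hom.germ_stalkMap_apply (pullback.diagonal f ≫ g) U ξ hm c
          rw [Scheme.Hom.stalkMap_comp] at e
          exact e.trans (DiagTor.germ_app_id _ hg ξ hxU _ c)
        rw [key _ (pullback.diagonal_fst f) h₁, key _ (pullback.diagonal_snd f) h₂', ← map_mul]
        show _ = algebraMap Γ(X, U) (X.presheaf.stalk ξ) (DiagTor.mu K Γ(X, U) (c ⊗ₜ e))
        simp [DiagTor.mu]
    have eΔ : IntMult.stalkIdeal (pullback.diagonal f).ker d =
        (RingHom.ker (DiagTor.mu K Γ(X, U))).map (algebraMap (Γ(X, U) ⊗[K] Γ(X, U)) ((pullback f f).presheaf.stalk d)) := by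
      refine (DiagTor.stalkIdeal_ker (pullback.diagonal f) ξ).trans ?_
      refine le_antisymm (fun w hw => ?_) (Ideal.map_le_iff_le_comap.2 fun t ht => ?_)
      · obtain ⟨t, s, rfl⟩ := IsLocalization.exists_mk'_eq (p.comap (DiagTor.mu K Γ(X, U))).primeCompl w
        have h0 : algebraMap Γ(X, U) (X.presheaf.stalk ξ) (DiagTor.mu K Γ(X, U) t) = 0 := by
          have e : σ (algebraMap (Γ(X, U) ⊗[K] Γ(X, U)) ((pullback f f).presheaf.stalk d) t) =
              algebraMap Γ(X, U) (X.presheaf.stalk ξ) (DiagTor.mu K Γ(X, U) t) := congr($hσ t)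
          rw [← e, ← IsLocalization.mk'_spec ((pullback f f).presheaf.stalk d) t s, map_mul]
          exact mul_eq_zero_of_left (RingHom.mem_ker.1 hw) _
        have h1 : DiagTor.mu K Γ(X, U) t = 0 :=
          IsLocalization.injective (X.presheaf.stalk ξ) p.primeCompl_le_nonZeroDivisors (h0.trans (map_zero _).symm)
        exact IsLocalization.mk'_mem_iff.2 (Ideal.mem_map_of_mem _ h1)
      · rw [Ideal.mem_comap, RingHom.mem_ker]
        have e : σ (algebraMap (Γ(X, U) ⊗[K] Γ(X, U)) ((pullback f f).presheaf.stalk d) t) =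
            algebraMap Γ(X, U) (X.presheaf.stalk ξ) (DiagTor.mu K Γ(X, U) t) := congr($hσ t)
        exact e.trans (by rw [RingHom.mem_ker.1 ht, map_zero])
    rw [eΔ, hz, ← (hgen ha haU).2, ← (hgen hb hbU).2]
    exact DiagTor.chi_eq_diag K Γ(X, U) p Qb Qa (X.presheaf.stalk ξ) ((pullback f f).presheaf.stalk d)

end Groth.Agent.BivarOps
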