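import Groth.Agent.BivarOps.ExtRat
import Groth.Agent.BivarOps.InterBilin
import Groth.Agent.BivarOps.IntMultLemmas
import Groth.Agent.KChi.TorKoszul
import Groth.Agent.SerreReg.MiracleFinite
import Groth.Agent.S6470
import Groth.Agent.S1897
import Groth.Agent.S1582
import Groth.Agent.QC.Pullback
import Mathlib.RingTheory.Regular.Flat
import Mathlib.RingTheory.TensorProduct.Quotient

/-!
Transversality of the pullbacks along the two projections of a product over a field.
-/

set_option autoImplicit false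
set_option linter.style.haveILetI false
set_option backward.isDefEq.respectTransparency false
set_option maxHeartbeats 1000000

universe u

open CategoryTheory CategoryTheory.Limits AlgebraicGeometry
open RingTheory.Sequence (IsWeaklyRegular)

namespace Groth.Agent.BivarOps

theorem length_H_of_weaklyRegular {A : Type u} [CommRing A] : ∀ (l : List A) (M : Type u) [AddCommGroup M] [Module A M],
    IsWeaklyRegular M l → ∀ p : ℤ, p ≠ 0 → Module.length A ((KChi.KX l M).homology p) = 0
  | [], M, _, _, _, p, hp => by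
    haveI := KChi.subsingleton_H (M := M) ([] : List A) p (by simp only [List.length_nil]; omega)
    exact Module.length_eq_zero
  | a :: l, M, _, _, h, p, hp => by
    obtain ⟨ha, hl⟩ := (RingTheory.Sequence.isWeaklyRegular_cons_iff M a l).1 h
    rw [KChi.length_H_of_regular ha]
    exact length_H_of_weaklyRegular l (QuotSMulTop a M) hl p hp

theorem chi_eq_length_of_regular {A : Type u} [CommRing A] (l : List A) (hl : IsWeaklyRegular A l) (I J : Ideal A)
    (hI : I = Ideal.ofList l) (hJ : IsWeaklyRegular (A ⧸ J) l) :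
    IntMult.chi A (A ⧸ I) (A ⧸ J) = ((Module.length A (A ⧸ (I ⊔ J))).toNat : ℤ) := by
  subst hI
  refine chi_eq_length _ _ fun i hi => ?_
  rw [← Module.length_eq_zero_iff (R := A), KChi.length_tor_eq l hl]
  exact length_H_of_weaklyRegular l _ hJ _ (by omega)

/-- Two ideals coming from the maximal ideal of a regular ring, transversal by flatness. -/
theorem chi_transversal {R B : Type u} [CommRing R] [IsRegularLocalRing R] [CommRing B] (φ : R →+* B) (hφ : φ.Flat)
    (J : Ideal B) (hJ : ((Ideal.Quotient.mk J).comp φ).Flat) :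
    IntMult.chi B (B ⧸ (IsLocalRing.maximalIdeal R).map φ) (B ⧸ J) =
      ((Module.length B (B ⧸ ((IsLocalRing.maximalIdeal R).map φ ⊔ J))).toNat : ℤ) := by
  obtain ⟨d, hd⟩ := SerreReg.exists_dim R
  obtain ⟨rs, -, hrs, hspan⟩ := SerreReg.exists_regular_rsop d R hd
  letI := φ.toAlgebra
  haveI : Module.Flat R B := hφ
  haveI : Module.Flat R (B ⧸ J) := RingHom.flat_algebraMap_iff.1 (by
    have : algebraMap R (B ⧸ J) = (Ideal.Quotient.mk J).comp φ := rfl
    rw [this]; exact hJ)
  refine chi_eq_length_of_regular (rs.map φ) hrs.of_flat _ J (by rw [← hspan, Ideal.map_ofList]) ?_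
  refine (RingTheory.Sequence.isWeaklyRegular_map_algebraMap_iff B (B ⧸ J) rs).2 ?_
  exact (RingTheory.Sequence.isWeaklyRegular_map_algebraMap_iff (B ⧸ J) (B ⧸ J) rs).1 hrs.of_flat

theorem nonempty_residue {R : Type u} [CommRing R] [IsLocalRing R] {M : Type u} [AddCommGroup M] [Module R M]
    (h : Module.length R M = 1) : Nonempty (M ≃ₗ[R] R ⧸ IsLocalRing.maximalIdeal R) := by
  obtain ⟨m, hm, ⟨e⟩⟩ := isSimpleModule_iff_quot_maximal.1 (Module.length_eq_one_iff.1 h)
  obtain rfl := IsLocalRing.eq_maximalIdeal hm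
  exact ⟨e⟩

theorem hasRelDim_struct {K : Type u} [Field K] {Y : Scheme.{u}} [AlgebraicGeometry.IsIntegral Y]
    (g : Y ⟶ Spec (CommRingCat.of K)) [LocallyOfFiniteType g] {δY : Y → ℤ} (hY : Cyc.DeltaCompat g δY fun _ => 0)
    (m : ℕ) (hm : δY (genericPoint Y) = m) : Cyc.HasRelDim g m := by
  haveI : IsLocallyNoetherian (Spec (CommRingCat.of K)) := inferInstance
  refine CycDim.hasRelDim_of_trdeg _ m fun x hx => ?_
  obtain rfl : genericPoint Y = x := hx _ (by
    haveI : Subsingleton (Spec (CommRingCat.of K)) := inferInstanceAs (Subsingleton (PrimeSpectrum K))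
    exact Subsingleton.elim _ _) ((genericPoint_spec Y).specializes trivial)
  obtain ⟨d, hd, hd'⟩ := hY (genericPoint Y)
  obtain rfl : d = m := by
    simp only [hm, zero_add] at hd'
    exact_mod_cast hd'.symm
  exact hd

section

variable {K : Type u} [Field K] {X Y : Scheme.{u}} (f : X ⟶ Spec (CommRingCat.of K)) (g : Y ⟶ Spec (CommRingCat.of K))
  [LocallyOfFiniteType f] [LocallyOfFiniteType g] {δX : X → ℤ} {δY : Y → ℤ} {δ : ↥(pullback f g) → ℤ}

theorem delta_le_sum (hY : Cyc.DeltaCompat g δY fun _ => 0) (hq : Cyc.DeltaCompat (pullback.fst f g) δ δX)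
    (z : ↥(pullback f g)) : δ z ≤ δX (pullback.fst f g z) + δY (pullback.snd f g z) := by
  haveI : IsLocallyNoetherian X := LocallyOfFiniteType.isLocallyNoetherian f
  obtain ⟨V, _, j, _, hj⟩ := exists_integral_sub (pullback.snd f g z)
  obtain ⟨d, hd⟩ := exists_dim hY (j (genericPoint V))
  have hsq : IsPullback (pullback.fst j (pullback.snd f g)) (pullback.snd j (pullback.snd f g)) j (pullback.snd f g) :=
    IsPullback.of_hasPullback _ _
  obtain ⟨w, -, hw⟩ := Scheme.exists_preimage_of_isPullback hsq (genericPoint V) z hj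
  have h := (CycDim.delta_le (pullback.snd j (pullback.snd f g) ≫ pullback.fst f g)
    (Bivar.deltaCompat_comp _ (pullback.fst f g) _ _ _ (CycPush.deltaCompat_preimmersion _ δ) hq)
    (piece_relDim (pullback.fst f g) (pullback.snd f g) δY (IsPullback.of_hasPullback f g) hY hsq hd) w).1
  have e : (pullback.snd j (pullback.snd f g) ≫ pullback.fst f g) w = pullback.fst f g z := by
    rw [Scheme.Hom.comp_apply, hw]
  rw [e] at h
  rw [hj] at hd
  have h' : δ (pullback.snd j (pullback.snd f g) w) ≤ δX (pullback.fst f g z) + d := h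
  rw [hw] at h'
  omega

theorem flat_quot_fibre (z : ↥(pullback f g)) :
    ((Ideal.Quotient.mk ((IsLocalRing.maximalIdeal (Y.presheaf.stalk (pullback.snd f g z))).map
      ((pullback.snd f g).stalkMap z).hom)).comp ((pullback.fst f g).stalkMap z).hom).Flat := by
  obtain ⟨V, _, j, _, hj⟩ := exists_integral_sub (pullback.snd f g z)
  have hsq : IsPullback (pullback.fst j (pullback.snd f g)) (pullback.snd j (pullback.snd f g)) j (pullback.snd f g) :=
    IsPullback.of_hasPullback _ _
  obtain ⟨w, hw1, hw⟩ := Scheme.exists_preimage_of_isPullback hsq (genericPoint V) z hj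
  subst hw
  let jW := pullback.snd j (pullback.snd f g)
  have hk := ker_stalk_generic (pullback.snd f g) hsq w hw1
  haveI : Flat (jW ≫ pullback.fst f g) :=
    piece_flat (pullback.fst f g) (pullback.snd f g) (IsPullback.of_hasPullback f g) hsq
  have hfl := Flat.stalkMap (jW ≫ pullback.fst f g) w
  rw [Scheme.Hom.stalkMap_comp] at hfl
  rw [← hk]
  have h2 : ((RingHom.quotientKerEquivOfSurjective (jW.stalkMap_surjective w)).symm.toRingHom.comp
      ((jW.stalkMap w).hom.comp ((pullback.fst f g).stalkMap (jW w)).hom)).Flat :=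
    RingHom.Flat.comp hfl (RingHom.Flat.of_bijective
      (RingHom.quotientKerEquivOfSurjective (jW.stalkMap_surjective w)).symm.bijective)
  refine (congrArg RingHom.Flat ?_).mp h2
  exact RingHom.ext fun a => (RingHom.quotientKerEquivOfSurjective (jW.stalkMap_surjective w)).symm_apply_eq.2 rfl

end

variable (K : Type u) [Field K] [IsAlgClosed K] {X Y : Scheme.{u}} (f : X ⟶ Spec (CommRingCat.of K))
  (g : Y ⟶ Spec (CommRingCat.of K)) [Smooth f] [IsSeparated f] [QuasiCompact f] [AlgebraicGeometry.IsIntegral X]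
  [Smooth g] [IsSeparated g] [QuasiCompact g] [AlgebraicGeometry.IsIntegral Y]

set_option synthInstance.maxHeartbeats 100000 in
open Classical in
include K in
/-- The product of the pullbacks of two points along the projections. -/
theorem interProd_ext_point {δX : X → ℤ} {δY : Y → ℤ} {δ : ↥(pullback f g) → ℤ}
    (hX : Cyc.DeltaCompat f δX (fun _ => 0)) (hY : Cyc.DeltaCompat g δY (fun _ => 0))
    (hXY : Cyc.DeltaCompat (pullback.fst f g ≫ f) δ (fun _ => 0)) (n m : ℕ) (hn : δX (genericPoint X) = n)
    (hm : δY (genericPoint Y) = m) (ζ : ↥(pullback f g))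
    (hd : δ ζ = δX (pullback.fst f g ζ) + δY (pullback.snd f g ζ)) (i₁ : X → ℤ) (i₂ : Y → ℤ)
    (hi₁ : ∀ x, i₁ x = if x = pullback.fst f g ζ then 1 else 0)
    (hi₂ : ∀ y, i₂ y = if y = pullback.snd f g ζ then 1 else 0) :
    IntMult.interProd δ (n + m) (Cyc.pullFun (pullback.fst f g) δ δX m i₁) (Cyc.pullFun (pullback.snd f g) δ δY n i₂) ζ =
      ((Module.length ((pullback f g).presheaf.stalk ζ) (((pullback f g).presheaf.stalk ζ) ⧸
        ((IsLocalRing.maximalIdeal (X.presheaf.stalk (pullback.fst f g ζ))).map ((pullback.fst f g).stalkMap ζ).hom ⊔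
          (IsLocalRing.maximalIdeal (Y.presheaf.stalk (pullback.snd f g ζ))).map
            ((pullback.snd f g).stalkMap ζ).hom))).toNat : ℤ) := by
  haveI := Groth.Agent.S1582.result K X Y f g
  have sX := setup_of_compat f hX
  have sY := setup_of_compat g hY
  have sP := setup_of_compat (pullback.fst f g ≫ f) hXY
  haveI := sX.1
  haveI := sY.1
  haveI := sP.1
  have hXY' : Cyc.DeltaCompat (pullback.snd f g ≫ g) δ fun _ => 0 := pullback.condition (f := f) (g := g) ▸ hXY
  have hq₁ : Cyc.DeltaCompat (pullback.fst f g) δ δX := deltaCompat_of_comp rfl hX hXY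
  have hq₂ : Cyc.DeltaCompat (pullback.snd f g) δ δY := deltaCompat_of_comp rfl hY hXY'
  have hr₁ : Cyc.HasRelDim (pullback.fst f g) m :=
    (Groth.Agent.S9358.result g f (pullback.snd f g) (pullback.fst f g) (IsPullback.of_hasPullback f g).flip m).2.2
      (hasRelDim_struct g hY m hm)
  have hr₂ : Cyc.HasRelDim (pullback.snd f g) n :=
    (Groth.Agent.S9358.result f g (pullback.fst f g) (pullback.snd f g) (IsPullback.of_hasPullback f g) n).2.2
      (hasRelDim_struct f hX n hn)
  obtain ⟨F, hF, hFs, hFd, hFv⟩ := exists_pointSheaf sX (pullback.fst f g ζ)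
  obtain ⟨G, hG, hGs, hGd, hGv⟩ := exists_pointSheaf sY (pullback.snd f g ζ)
  obtain rfl : i₁ = Cyc.sheafFun δX (δX (pullback.fst f g ζ)) F := funext fun x => by rw [hi₁, hFv]
  obtain rfl : i₂ = Cyc.sheafFun δY (δY (pullback.snd f g ζ)) G := funext fun y => by rw [hi₂, hGv]
  haveI : Flat f := inferInstance
  haveI : Flat g := inferInstance
  haveI : Flat (pullback.fst f g) := inferInstance
  haveI : Flat (pullback.snd f g) := inferInstance
  obtain ⟨hd₁, e₁⟩ := Groth.Agent.S1897.result _ X δ δX sP sX (pullback.fst f g) m hr₁ hq₁ _ F hF hFd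
  obtain ⟨hd₂, e₂⟩ := Groth.Agent.S1897.result _ Y δ δY sP sY (pullback.snd f g) n hr₂ hq₂ _ G hG hGd
  have hz : ∀ {Z : Scheme.{u}} (q : pullback f g ⟶ Z) (H : Z.Modules) (z : ↥(pullback f g)), H.IsQuasicoherent →
      Nontrivial (((Scheme.Modules.pullback q).obj H).presheaf.stalk z) → Nontrivial (H.presheaf.stalk (q z)) := by
    intro Z q H z _ hn
    by_contra hc
    haveI := not_nontrivial_iff_subsingleton.1 hc
    letI := (q.stalkMap z).hom.toAlgebra
    have hT : Subsingleton (TensorProduct (Z.presheaf.stalk (q z)) ((pullback f g).presheaf.stalk z)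
      (H.presheaf.stalk (q z))) := inferInstance
    exact not_subsingleton_iff_nontrivial.2 hn
      (@Equiv.subsingleton _ _ ((KFlat.pullStalkIso q z).app H).toLinearEquiv.toEquiv hT)
  have hbound : ∀ z, Nontrivial (((Scheme.Modules.pullback (pullback.fst f g)).obj F).presheaf.stalk z) →
      Nontrivial (((Scheme.Modules.pullback (pullback.snd f g)).obj G).presheaf.stalk z) →
      δ z ≤ δX (pullback.fst f g ζ) + m + (δY (pullback.snd f g ζ) + n) - (n + m : ℤ) := by
    intro z h1 h2
    have := hFd _ (hz _ F z hF.1 h1)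
    have := hGd _ (hz _ G z hG.1 h2)
    have := delta_le_sum f g hY hq₁ z
    omega
  have hgen : δ (genericPoint ↥(pullback f g)) = (n : ℤ) + m := by
    obtain ⟨h1, -⟩ := CycDim.delta_le (pullback.fst f g) hq₁ hr₁ (genericPoint ↥(pullback f g))
    obtain ⟨x, hx, hx'⟩ := Flat.generalizingMap (pullback.fst f g)
      (show genericPoint X ⤳ pullback.fst f g ζ from (genericPoint_spec X).specializes trivial)
    have hg : pullback.fst f g (genericPoint ↥(pullback f g)) = genericPoint X := by
      refine ((genericPoint_spec X).eq ?_).symm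
      refine isGenericPoint_iff_specializes.2 fun y => ⟨fun _ => trivial, fun _ => ?_⟩
      exact (((genericPoint_spec _).specializes (trivial : x ∈ ⊤)).map (pullback.fst f g).continuous).trans
        ((specializes_of_eq hx').trans ((genericPoint_spec X).specializes trivial))
    rw [hg, hn] at h1
    obtain ⟨h2, -, h3⟩ := CycDim.delta_le (pullback.fst f g) hq₁ hr₁ (genericPoint ↥(pullback f g))
    have hmax : δ (genericPoint ↥(pullback f g)) = δX (pullback.fst f g (genericPoint ↥(pullback f g))) + (m : ℤ) :=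
      h3 fun z hz hz' => (((genericPoint_spec _).specializes (trivial : z ∈ ⊤)).antisymm hz').eq.symm
    rw [hg, hn] at hmax
    exact hmax
  obtain ⟨-, hval⟩ := Groth.Agent.S6470.result K (pullback f g) (pullback.fst f g ≫ f) δ sP hXY (n + m) hgen
    _ _ (QC.isCoh_pullback _ hF) (QC.isCoh_pullback _ hG) _ _ hd₁ hd₂ hbound
  rw [e₁, e₂, hval ζ, if_pos (by omega)]
  show IntMult.chi _ _ _ = _
  -- the stalks
  let A₁ := X.presheaf.stalk (pullback.fst f g ζ)
  let A₂ := Y.presheaf.stalk (pullback.snd f g ζ)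
  let B := (pullback f g).presheaf.stalk ζ
  have hone : ∀ {Z : Scheme.{u}} {δZ : Z → ℤ} (H : Z.Modules) (z : Z), Cyc.sheafFun δZ (δZ z) H z = 1 →
      Nonempty (H.presheaf.stalk z ≃ₗ[Z.presheaf.stalk z] Z.presheaf.stalk z ⧸ IsLocalRing.maximalIdeal (Z.presheaf.stalk z)) := by
    intro Z δZ H z h
    rw [Cyc.sheafFun, if_pos rfl] at h
    exact nonempty_residue ((ENat.toNat_eq_iff one_ne_zero).1 (by exact_mod_cast h))
  obtain ⟨eF⟩ := hone F _ ((hFv _).trans (if_pos rfl))
  obtain ⟨eG⟩ := hone G _ ((hGv _).trans (if_pos rfl))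
  letI := ((pullback.fst f g).stalkMap ζ).hom.toAlgebra
  letI instY : Algebra A₂ B := ((pullback.snd f g).stalkMap ζ).hom.toAlgebra
  let eM := ((KFlat.pullStalkIso (pullback.fst f g) ζ).app F).toLinearEquiv ≪≫ₗ
    (eF.baseChange A₁ B _ _) ≪≫ₗ
    (Algebra.TensorProduct.quotIdealMapEquivTensorQuot B (IsLocalRing.maximalIdeal A₁)).symm.toLinearEquiv
  let eN := ((KFlat.pullStalkIso (pullback.snd f g) ζ).app G).toLinearEquiv ≪≫ₗ
    (eG.baseChange A₂ B _ _) ≪≫ₗ
    (Algebra.TensorProduct.quotIdealMapEquivTensorQuot B (IsLocalRing.maximalIdeal A₂)).symm.toLinearEquiv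
  refine Eq.trans (finsum_congr fun i => congrArg (fun l : ℕ∞ => (-1 : ℤ) ^ i * (l.toNat : ℤ))
    (DiagTor.length_tor_congr eM eN i)) ?_
  haveI := SmLocalST.isRegularLocalRing_stalk_of_smooth_field f (pullback.fst f g ζ)
  exact chi_transversal ((pullback.fst f g).stalkMap ζ).hom (Flat.stalkMap _ ζ)
    ((IsLocalRing.maximalIdeal A₂).map ((pullback.snd f g).stalkMap ζ).hom) (flat_quot_fibre f g ζ)

end Groth.Agent.BivarOps
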