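import Groth.Agent.BivarOps.TorPushAlg
import Groth.Agent.BivarOps.ChiPull
import Groth.Agent.BivarOps.InterAssoc
import Groth.Agent.CycDim.PushSheaf
import Groth.Agent.Intersect.Push

/-!
The alternating Tor lengths of a proper push forward against a module on the base.
-/

set_option autoImplicit false
set_option linter.style.haveILetI false
set_option backward.isDefEq.respectTransparency false
set_option maxHeartbeats 1000000

universe u

open CategoryTheory AlgebraicGeometry TopologicalSpace TensorProduct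

namespace Groth.Agent.BivarOps

variable {X Y Z : Scheme.{u}}

theorem chi_congr_equiv {A : Type u} [CommRing A] {M M' N N' : Type u} [AddCommGroup M] [Module A M]
    [AddCommGroup M'] [Module A M'] [AddCommGroup N] [Module A N] [AddCommGroup N'] [Module A N']
    (e₁ : M ≃ₗ[A] M') (e₂ : N ≃ₗ[A] N') : IntMult.chi A M N = IntMult.chi A M' N' :=
  finsum_congr fun i => congrArg (fun l : ℕ∞ => (-1 : ℤ) ^ i * (l.toNat : ℤ)) (DiagTor.length_tor_congr e₁ e₂ i)

/-- Sections over an affine open base change to the stalk. -/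
theorem exists_baseChange_stalk {V : Y.Opens} (hV : IsAffineOpen V) {G : Y.Modules} (hG : Coh.IsQCoh G) {y : Y}
    (hy : y ∈ V) :
    letI := (Y.presheaf.germ V y hy).hom.toAlgebra
    Nonempty ((Y.presheaf.stalk y) ⊗[Γ(Y, V)] Γ(G, V) ≃ₗ[Y.presheaf.stalk y] G.presheaf.stalk y) := by
  letI := (Y.presheaf.germ V y hy).hom.toAlgebra
  haveI := hV.isLocalization_stalk ⟨y, hy⟩
  letI := Module.compHom (G.presheaf.stalk y) (Y.presheaf.germ V y hy).hom
  haveI : IsScalarTower Γ(Y, V) (Y.presheaf.stalk y) (G.presheaf.stalk y) :=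
    ⟨fun a c m => mul_smul ((Y.presheaf.germ V y hy).hom a) c m⟩
  obtain ⟨φ, hφ, -⟩ := Groth.Agent.RefStalk.exists_loc hV hG hy
  haveI := hφ
  exact ⟨((isLocalizedModule_iff_isBaseChange (hV.primeIdealOf ⟨y, hy⟩).asIdeal.primeCompl (Y.presheaf.stalk y) φ).1
    hφ).equiv⟩

/-- A nonzero stalk of sections lies over the support. -/
theorem annihilator_le_of_nontrivial {V : Y.Opens} (hV : IsAffineOpen V) {G : Y.Modules} (hG : Coh.IsQCoh G) {y : Y}
    (hy : y ∈ V) [Module.Finite Γ(Y, V) Γ(G, V)] :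
    Module.annihilator Γ(Y, V) Γ(G, V) ≤ (hV.primeIdealOf ⟨y, hy⟩).asIdeal ↔ Nontrivial (G.presheaf.stalk y) := by
  letI := (Y.presheaf.germ V y hy).hom.toAlgebra
  haveI := hV.isLocalization_stalk ⟨y, hy⟩
  letI := Module.compHom (G.presheaf.stalk y) (Y.presheaf.germ V y hy).hom
  haveI : IsScalarTower Γ(Y, V) (Y.presheaf.stalk y) (G.presheaf.stalk y) :=
    ⟨fun a c m => mul_smul ((Y.presheaf.germ V y hy).hom a) c m⟩
  obtain ⟨φ, hφ, -⟩ := Groth.Agent.RefStalk.exists_loc hV hG hy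
  haveI := hφ
  rw [← Module.mem_support_iff_of_finite, Module.mem_support_iff]
  exact (IsLocalizedModule.iso (hV.primeIdealOf ⟨y, hy⟩).asIdeal.primeCompl φ).toEquiv.nontrivial_congr

variable (f : X ⟶ Y) [IsProper f] [Flat f] (i : Z ⟶ X) [IsClosedImmersion i]

omit [IsProper f] in
/-- One point of the fibre. -/
theorem length_point {V : Y.Opens} (hU : IsAffineOpen ((i ≫ f) ⁻¹ᵁ V))
    (hV : IsAffineOpen V) {G' : Z.Modules} (hG' : Coh.IsQCoh G') {G : Y.Modules} (hG : Coh.IsQCoh G) {z : Z}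
    (hz : (i ≫ f) z ∈ V) (n : ℕ) :
    letI := ((i ≫ f).app V).hom.toAlgebra
    letI : Module Γ(Y, V) Γ(G', (i ≫ f) ⁻¹ᵁ V) := Module.compHom _ ((i ≫ f).app V).hom
    haveI : IsScalarTower Γ(Y, V) Γ(Z, (i ≫ f) ⁻¹ᵁ V) Γ(G', (i ≫ f) ⁻¹ᵁ V) :=
      IsScalarTower.of_algebraMap_smul fun _ _ => rfl
    CycDim.lenAt (hU.primeIdealOf ⟨z, hz⟩)
        (torMod Γ(Y, V) Γ(Z, (i ≫ f) ⁻¹ᵁ V) Γ(G', (i ≫ f) ⁻¹ᵁ V) Γ(G, V) n) =
      Module.length (X.presheaf.stalk (i z)) (DRing.Tor (X.presheaf.stalk (i z)) n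
        (((Coh.push i).obj G').presheaf.stalk (i z)) (((Scheme.Modules.pullback f).obj G).presheaf.stalk (i z))) := by
  letI := ((i ≫ f).app V).hom.toAlgebra
  letI : Module Γ(Y, V) Γ(G', (i ≫ f) ⁻¹ᵁ V) := Module.compHom _ ((i ≫ f).app V).hom
  haveI : IsScalarTower Γ(Y, V) Γ(Z, (i ≫ f) ⁻¹ᵁ V) Γ(G', (i ≫ f) ⁻¹ᵁ V) :=
    IsScalarTower.of_algebraMap_smul fun _ _ => rfl
  have hy : f (i z) ∈ V := hz
  letI algC : Algebra Γ(Z, (i ≫ f) ⁻¹ᵁ V) (Z.presheaf.stalk z) :=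
    (Z.presheaf.germ ((i ≫ f) ⁻¹ᵁ V) z hz).hom.toAlgebra
  haveI := hU.isLocalization_stalk ⟨z, hz⟩
  haveI : Module.Flat Γ(Z, (i ≫ f) ⁻¹ᵁ V) (Z.presheaf.stalk z) :=
    IsLocalization.flat _ (hU.primeIdealOf ⟨z, hz⟩).asIdeal.primeCompl
  letI algY : Algebra Γ(Y, V) (Y.presheaf.stalk (f (i z))) := (Y.presheaf.germ V (f (i z)) hy).hom.toAlgebra
  haveI := hV.isLocalization_stalk ⟨f (i z), hy⟩
  letI algX : Algebra (Y.presheaf.stalk (f (i z))) (X.presheaf.stalk (i z)) := (f.stalkMap (i z)).hom.toAlgebra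
  letI algB : Algebra Γ(Y, V) (X.presheaf.stalk (i z)) :=
    ((f.stalkMap (i z)).hom.comp (Y.presheaf.germ V (f (i z)) hy).hom).toAlgebra
  haveI : IsScalarTower Γ(Y, V) (Y.presheaf.stalk (f (i z))) (X.presheaf.stalk (i z)) :=
    IsScalarTower.of_algebraMap_eq fun _ => rfl
  haveI : Module.Flat Γ(Y, V) (X.presheaf.stalk (i z)) := by
    haveI : Module.Flat Γ(Y, V) (Y.presheaf.stalk (f (i z))) :=
      IsLocalization.flat _ (hV.primeIdealOf ⟨f (i z), hy⟩).asIdeal.primeCompl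
    haveI : Module.Flat (Y.presheaf.stalk (f (i z))) (X.presheaf.stalk (i z)) := Flat.stalkMap f (i z)
    exact Module.Flat.trans Γ(Y, V) (Y.presheaf.stalk (f (i z))) _
  letI algS : Algebra (X.presheaf.stalk (i z)) (Z.presheaf.stalk z) := (i.stalkMap z).hom.toAlgebra
  letI algR : Algebra Γ(Y, V) (Z.presheaf.stalk z) :=
    ((Z.presheaf.germ ((i ≫ f) ⁻¹ᵁ V) z hz).hom.comp ((i ≫ f).app V).hom).toAlgebra
  haveI : IsScalarTower Γ(Y, V) Γ(Z, (i ≫ f) ⁻¹ᵁ V) (Z.presheaf.stalk z) :=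
    IsScalarTower.of_algebraMap_eq fun _ => rfl
  haveI : IsScalarTower Γ(Y, V) (X.presheaf.stalk (i z)) (Z.presheaf.stalk z) :=
    IsScalarTower.of_algebraMap_eq fun a => by
      have e := Scheme.Hom.germ_stalkMap_apply (i ≫ f) V z hz a
      rw [Scheme.Hom.stalkMap_comp] at e
      exact e.symm
  rw [show CycDim.lenAt (hU.primeIdealOf ⟨z, hz⟩) (torMod Γ(Y, V) Γ(Z, (i ≫ f) ⁻¹ᵁ V) Γ(G', (i ≫ f) ⁻¹ᵁ V) Γ(G, V) n) =
      LenSum2.lenAt (hU.primeIdealOf ⟨z, hz⟩) (torMod Γ(Y, V) Γ(Z, (i ≫ f) ⁻¹ᵁ V) Γ(G', (i ≫ f) ⁻¹ᵁ V) Γ(G, V) n) from rfl,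
    lenAt_baseChange _ (Z.presheaf.stalk z),
    length_torMod_localize _ _ n (Z.presheaf.stalk z) (X.presheaf.stalk (i z)) (i.stalkMap_surjective z)]
  -- the stalk of the module
  letI : Module (X.presheaf.stalk (i z)) (G'.presheaf.stalk z) := Module.compHom _ (i.stalkMap z).hom
  haveI : IsScalarTower (X.presheaf.stalk (i z)) (Z.presheaf.stalk z) (G'.presheaf.stalk z) :=
    IsScalarTower.of_algebraMap_smul fun _ _ => rfl
  obtain ⟨e₁⟩ := exists_baseChange_stalk hU hG' (y := z) hz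
  let ψ : ((Coh.push i).obj G').presheaf.stalk (i z) →ₗ[X.presheaf.stalk (i z)] G'.presheaf.stalk z :=
    { toFun := KFlat.pushStalk i z G'
      map_add' := map_add (KFlat.pushStalk i z G')
      map_smul' := KFlat.pushStalk_smul i z G' }
  let eM := (e₁.restrictScalars (X.presheaf.stalk (i z))) ≪≫ₗ
    (LinearEquiv.ofBijective ψ (KFlat.pushStalk_bijective i z G')).symm
  obtain ⟨e₂⟩ := exists_baseChange_stalk hV hG (y := f (i z)) hy
  let eN := (AlgebraTensorModule.cancelBaseChange Γ(Y, V) (Y.presheaf.stalk (f (i z))) (X.presheaf.stalk (i z))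
      (X.presheaf.stalk (i z)) Γ(G, V)).symm ≪≫ₗ
    (e₂.baseChange (Y.presheaf.stalk (f (i z))) (X.presheaf.stalk (i z)) _ _) ≪≫ₗ
    ((KFlat.pullStalkIso f (i z)).app G).toLinearEquiv.symm
  exact DiagTor.length_tor_congr eM eN n

omit [Flat f] in
/-- The base point. -/
theorem length_base {V : Y.Opens} (hV : IsAffineOpen V) [IsLocallyNoetherian Z] {G' : Z.Modules}
    (hG' : Coh.IsCoh G') {G : Y.Modules} (hG : Coh.IsQCoh G) {y : Y} (hy : y ∈ V) (n : ℕ) :
    letI : Module Γ(Y, V) Γ(G', (i ≫ f) ⁻¹ᵁ V) := Module.compHom _ ((i ≫ f).app V).hom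
    CycDim.lenAt (hV.primeIdealOf ⟨y, hy⟩) (DRing.Tor Γ(Y, V) n Γ(G', (i ≫ f) ⁻¹ᵁ V) Γ(G, V)) =
      Module.length (Y.presheaf.stalk y) (DRing.Tor (Y.presheaf.stalk y) n
        (((Coh.push (i ≫ f)).obj G').presheaf.stalk y) (G.presheaf.stalk y)) := by
  letI : Module Γ(Y, V) Γ(G', (i ≫ f) ⁻¹ᵁ V) := Module.compHom _ ((i ≫ f).app V).hom
  haveI := hG'.1
  have hP : Coh.IsQCoh ((Coh.push (i ≫ f)).obj G') := Groth.Agent.QC.isQCoh_pushforward (i ≫ f)
  have e₀ : Γ((Coh.push (i ≫ f)).obj G', V) ≃ₗ[Γ(Y, V)] Γ(G', (i ≫ f) ⁻¹ᵁ V) :=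
    { AddEquiv.refl Γ(G', (i ≫ f) ⁻¹ᵁ V) with
      map_smul' := fun _ _ => rfl }
  letI := (Y.presheaf.germ V y hy).hom.toAlgebra
  haveI := hV.isLocalization_stalk ⟨y, hy⟩
  haveI : Module.Flat Γ(Y, V) (Y.presheaf.stalk y) :=
    IsLocalization.flat _ (hV.primeIdealOf ⟨y, hy⟩).asIdeal.primeCompl
  obtain ⟨e⟩ := Groth.Agent.S2428.result Γ(Y, V) (Y.presheaf.stalk y) Γ(G', (i ≫ f) ⁻¹ᵁ V) Γ(G, V) n
  obtain ⟨e₁⟩ := exists_baseChange_stalk hV hP (y := y) hy
  obtain ⟨e₂⟩ := exists_baseChange_stalk hV hG (y := y) hy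
  rw [show CycDim.lenAt (hV.primeIdealOf ⟨y, hy⟩) (DRing.Tor Γ(Y, V) n Γ(G', (i ≫ f) ⁻¹ᵁ V) Γ(G, V)) =
      LenSum2.lenAt (hV.primeIdealOf ⟨y, hy⟩) (DRing.Tor Γ(Y, V) n Γ(G', (i ≫ f) ⁻¹ᵁ V) Γ(G, V)) from rfl,
    lenAt_baseChange _ (Y.presheaf.stalk y), e.length_eq]
  exact DiagTor.length_tor_congr (e₀.symm.baseChange Γ(Y, V) (Y.presheaf.stalk y) _ _ ≪≫ₗ e₁) e₂ n

/-- The alternating Tor lengths of a push forward are the degree-weighted sum over the fibre. -/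
theorem chi_push [IsLocallyNoetherian X] [IsLocallyNoetherian Y] [∀ x : X, IsRegularLocalRing (X.presheaf.stalk x)]
    [∀ y : Y, IsRegularLocalRing (Y.presheaf.stalk y)] {δX : X → ℤ} {δY : Y → ℤ}
    (hX : Cyc.IsDimFun X δX) (hY : Cyc.IsDimFun Y δY) (hδ : Cyc.DeltaCompat f δX δY) {F : X.Modules}
    (hF : Coh.IsCoh F) {G : Y.Modules} (hG : Coh.IsCoh G) (y : Y)
    (hdim : ∀ x : X, Nontrivial (F.presheaf.stalk x) → Nontrivial (G.presheaf.stalk (f x)) → δX x ≤ δY y) :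
    IntMult.chi (Y.presheaf.stalk y) (((Coh.push f).obj F).presheaf.stalk y) (G.presheaf.stalk y) =
      ∑ᶠ x ∈ f ⁻¹' {y}, IntMult.chi (X.presheaf.stalk x) (F.presheaf.stalk x)
        (((Scheme.Modules.pullback f).obj G).presheaf.stalk x) * ((AlgebraicCycle.mapCoeff f δX δY x : ℕ) : ℤ) := by
  classical
  haveI := hG.1
  by_cases hGy : Nontrivial (G.presheaf.stalk y)
  swap
  · haveI := not_nontrivial_iff_subsingleton.1 hGy
    rw [chi_subsingleton_right, finsum_mem_eq_zero_of_forall_eq_zero]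
    intro x hx
    haveI : Subsingleton (((Scheme.Modules.pullback f).obj G).presheaf.stalk x) := by
      letI := (f.stalkMap x).hom.toAlgebra
      haveI : Subsingleton (G.presheaf.stalk (f x)) := (hx : f x = y) ▸ ‹Subsingleton (G.presheaf.stalk y)›
      exact @Equiv.subsingleton _ _ ((KFlat.pullStalkIso f x).app G).toLinearEquiv.toEquiv
        (inferInstance : Subsingleton (TensorProduct (Y.presheaf.stalk (f x)) (X.presheaf.stalk x) (G.presheaf.stalk (f x))))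
    rw [chi_subsingleton_right, zero_mul]
  let J := ClSubLib.annIdeal F hF.1 hF.2
  have hk : ClSub.KilledByIdeal J.subschemeι.ker F := by
    rw [Scheme.IdealSheafData.ker_subschemeι]; exact ClSubLib.killedBy_annIdeal F hF.1 hF.2
  obtain ⟨G', hG', ⟨e⟩⟩ := ClSubLib.exists_pushforward_iso J.subschemeι F hF hk
  haveI := hG'.1
  let i := J.subschemeι
  haveI : IsLocallyNoetherian J.subscheme := LocallyOfFiniteType.isLocallyNoetherian i
  let g : J.subscheme ⟶ Y := i ≫ f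
  let e' : (Coh.push f).obj F ≅ (Coh.push g).obj G' :=
    ((Scheme.Modules.pushforward f).mapIso e.symm) ≪≫ (Scheme.Modules.pushforwardComp i f).app G'
  have hrange : Set.range i = CohB1.support F := ClSubLib.range_annIdeal F hF.1 hF.2
  have hns : ∀ z, Nontrivial (F.presheaf.stalk (i z)) := fun z => by
    rw [← not_subsingleton_iff_nontrivial]
    exact (hrange.le ⟨z, rfl⟩ : i z ∈ CohB1.support F)
  have hδz : ∀ z, g z = y → δX (i z) = δY y := fun z hz => by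
    obtain ⟨n, -, hn⟩ := hδ (i z)
    have hz' : f (i z) = y := hz
    have := hdim _ (hns z) (hz' ▸ hGy)
    rw [hz'] at hn
    omega
  obtain ⟨V₀, hV₀, hyV₀, -⟩ := exists_isAffineOpen_mem_and_subset (x := y) (U := (⊤ : Y.Opens)) trivial
  have hF' : (g ⁻¹' {y} : Set J.subscheme).Finite := by
    have hK : IsCompact (g ⁻¹' (V₀ : Set Y)) := QuasiCompact.isCompact_preimage (f := g) _ V₀.2 hV₀.isCompact
    choose O hO hxO using fun w : J.subscheme =>
      exists_isAffineOpen_mem_and_subset (x := w) (U := (⊤ : J.subscheme.Opens)) trivial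
    obtain ⟨t, ht⟩ := hK.elim_finite_subcover (fun w => (O w : Set J.subscheme)) (fun w => (O w).2)
      fun w _ => Set.mem_iUnion.2 ⟨w, (hxO w).1⟩
    refine (t.finite_toSet.biUnion fun w _ => Groth.Agent.CycDiv.finite_maximal
      (isClosed_closure.preimage g.continuous (t := closure ({y} : Set Y))) (hO w)).subset ?_
    intro w (hw : g w = y)
    obtain ⟨v, hv, hwv⟩ := Set.mem_iUnion₂.1 (ht (show g w ∈ V₀ by rw [hw]; exact hyV₀))
    refine Set.mem_biUnion hv ⟨hwv, show g w ∈ closure {y} from hw ▸ subset_closure rfl, fun v' hv' hv'w => ?_⟩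
    have hgv : g v' = y :=
      ((hv'w.map g.continuous).antisymm (hw.symm ▸ specializes_iff_mem_closure.2 hv')).eq.trans hw
    exact i.isClosedEmbedding.injective
      (CycDim.eq_of_delta_le hX (hv'w.map i.continuous) (by rw [hδz v' hgv, hδz w hw]))
  obtain ⟨V₁, hyV₁, hV₁⟩ := exists_isFinite_morphismRestrict_of_finite_preimage_singleton g y hF'
  obtain ⟨V, hV, hyV, hVV₁⟩ := exists_isAffineOpen_mem_and_subset (x := y) (U := V₁) hyV₁
  haveI : IsFinite (g ∣_ V) := by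
    have h1 : IsFinite (g ∣_ V₁ ∣_ (V₁.ι ⁻¹ᵁ V)) := IsZariskiLocalAtTarget.restrict hV₁ _
    have e : V₁.ι ''ᵁ (V₁.ι ⁻¹ᵁ V) = V := by
      rw [Scheme.Hom.image_preimage_eq_opensRange_inf, Scheme.Opens.opensRange_ι]
      exact inf_eq_right.2 hVV₁
    exact e ▸ ((MorphismProperty.arrow_mk_iso_iff @IsFinite (morphismRestrictRestrict g V₁ (V₁.ι ⁻¹ᵁ V))).1 h1)
  obtain ⟨hU, hfin⟩ := CycSheafPush.finite_app_of_restrict g hV
  letI := (g.app V).hom.toAlgebra
  haveI : Module.Finite Γ(Y, V) Γ(J.subscheme, g ⁻¹ᵁ V) := hfin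
  haveI : IsNoetherianRing Γ(Y, V) := IsLocallyNoetherian.component_noetherian ⟨V, hV⟩
  haveI : Module.Finite Γ(J.subscheme, g ⁻¹ᵁ V) Γ(G', g ⁻¹ᵁ V) :=
    Groth.Agent.QC.finite_sections hU hG'.2 (hM := hG'.1)
  haveI : Module.Finite Γ(Y, V) Γ(G, V) := Groth.Agent.QC.finite_sections hV hG.2 (hM := hG.1)
  letI : Module Γ(Y, V) Γ(G', g ⁻¹ᵁ V) := Module.compHom _ (g.app V).hom
  haveI : IsScalarTower Γ(Y, V) Γ(J.subscheme, g ⁻¹ᵁ V) Γ(G', g ⁻¹ᵁ V) :=
    IsScalarTower.of_algebraMap_smul fun _ _ => rfl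
  let p := hV.primeIdealOf ⟨y, hyV⟩
  have hmem : ∀ z ∈ hF'.toFinset, g z ∈ V := fun z hz => by rw [(hF'.mem_toFinset.1 hz : g z = y)]; exact hyV
  let φ : {z // z ∈ hF'.toFinset} → PrimeSpectrum Γ(J.subscheme, g ⁻¹ᵁ V) := fun z =>
    hU.primeIdealOf ⟨z.1, hmem z.1 z.2⟩
  let T := hF'.toFinset.attach.image φ
  have hinj : Function.Injective φ := fun a b h => Subtype.ext <| by
    have := congrArg hU.fromSpec h
    rwa [hU.fromSpec_primeIdealOf, hU.fromSpec_primeIdealOf] at this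
  have hcomap : ∀ Q : PrimeSpectrum Γ(J.subscheme, g ⁻¹ᵁ V),
      g (hU.fromSpec Q) = hV.fromSpec (PrimeSpectrum.comap (g.app V).hom Q) :=
    fun Q => CycSheafPush.fromSpec_comap g hV hU Q
  have hT : ∀ Q : PrimeSpectrum Γ(J.subscheme, g ⁻¹ᵁ V),
      Q ∈ T ↔ Q.asIdeal.comap (algebraMap Γ(Y, V) Γ(J.subscheme, g ⁻¹ᵁ V)) = p.asIdeal := by
    intro Q
    constructor
    · intro hQ
      obtain ⟨⟨z, hz⟩, -, rfl⟩ := Finset.mem_image.1 hQ
      refine congrArg PrimeSpectrum.asIdeal ((CycSheafPush.comap_primeIdealOf g hV hU (hmem z hz)).trans ?_)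
      exact congrArg hV.primeIdealOf (Subtype.ext (hF'.mem_toFinset.1 hz))
    · intro hQ
      have h : hU.fromSpec Q ∈ hF'.toFinset := hF'.mem_toFinset.2 (by
        show g (hU.fromSpec Q) = y
        rw [hcomap, show PrimeSpectrum.comap (g.app V).hom Q = p from PrimeSpectrum.ext hQ, hV.fromSpec_primeIdealOf])
      refine Finset.mem_image.2 ⟨⟨_, h⟩, Finset.mem_attach _ _, ?_⟩
      apply hU.fromSpec.isOpenEmbedding.injective
      exact hU.fromSpec_primeIdealOf _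
  have hdeep : ∀ Q : PrimeSpectrum Γ(J.subscheme, g ⁻¹ᵁ V),
      Module.annihilator Γ(Y, V) Γ(G, V) ≤ Q.asIdeal.comap (algebraMap Γ(Y, V) Γ(J.subscheme, g ⁻¹ᵁ V)) →
      Q.asIdeal.comap (algebraMap Γ(Y, V) Γ(J.subscheme, g ⁻¹ᵁ V)) ≤ p.asIdeal →
      Q.asIdeal.comap (algebraMap Γ(Y, V) Γ(J.subscheme, g ⁻¹ᵁ V)) = p.asIdeal := by
    intro Q hann hle
    let q := PrimeSpectrum.comap (g.app V).hom Q
    have hw : hV.fromSpec q ∈ V := hV.range_fromSpec.le ⟨q, rfl⟩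
    have hq : hV.primeIdealOf ⟨hV.fromSpec q, hw⟩ = q := hV.fromSpec.isOpenEmbedding.injective (hV.fromSpec_primeIdealOf _)
    have hN : Nontrivial (G.presheaf.stalk (hV.fromSpec q)) :=
      (annihilator_le_of_nontrivial hV hG.1 hw).1 (by rw [hq]; exact hann)
    have hgq : f (i (hU.fromSpec Q)) = hV.fromSpec q := hcomap Q
    have hbd := hdim _ (hns _) (hgq ▸ hN)
    have hs : hV.fromSpec q ⤳ y := by
      have := ((PrimeSpectrum.le_iff_specializes q p).1 hle).map hV.fromSpec.continuous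
      rwa [hV.fromSpec_primeIdealOf] at this
    obtain ⟨n, -, hn⟩ := hδ (i (hU.fromSpec Q))
    rw [hgq] at hn
    have heq := CycDim.eq_of_delta_le hY hs (by omega)
    show q.asIdeal = p.asIdeal
    refine congrArg PrimeSpectrum.asIdeal (hV.fromSpec.isOpenEmbedding.injective ?_)
    rw [hV.fromSpec_primeIdealOf]
    exact heq
  have hdeg : ∀ z : {z // z ∈ hF'.toFinset},
      CycDim.lenAt p (Γ(J.subscheme, g ⁻¹ᵁ V) ⧸ (φ z).asIdeal) = g.residueDegree z.1 := fun z => by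
    have h : (⟨y, hyV⟩ : V) = ⟨g z.1, hmem z.1 z.2⟩ := Subtype.ext (hF'.mem_toFinset.1 z.2 : g z.1 = y).symm
    show CycDim.lenAt (hV.primeIdealOf ⟨y, hyV⟩) _ = _
    rw [h]
    exact CycSheafPush.lenAt_point g hV hU hfin (hmem z.1 z.2)
  let ℓ : J.subscheme → ℕ → ℕ∞ := fun z n => Module.length (X.presheaf.stalk (i z))
    (DRing.Tor (X.presheaf.stalk (i z)) n (((Coh.push i).obj G').presheaf.stalk (i z))
      (((Scheme.Modules.pullback f).obj G).presheaf.stalk (i z)))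
  have hmain : ∀ n, ((Module.length (Y.presheaf.stalk y) (DRing.Tor (Y.presheaf.stalk y) n
      (((Coh.push g).obj G').presheaf.stalk y) (G.presheaf.stalk y))).toNat : ℤ) =
      ∑ z ∈ hF'.toFinset, (g.residueDegree z : ℤ) * ((ℓ z n).toNat : ℤ) := by
    intro n
    obtain ⟨hsum, hne⟩ := exists_tor_push Γ(Y, V) Γ(J.subscheme, g ⁻¹ᵁ V) Γ(G', g ⁻¹ᵁ V) Γ(G, V) n p hdeep T hT
    have hb : CycDim.lenAt p (DRing.Tor Γ(Y, V) n Γ(G', g ⁻¹ᵁ V) Γ(G, V)) = _ := length_base f i hV hG' hG.1 hyV n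
    rw [← hb, hsum, Finset.sum_image hinj.injOn, ENat.toNat_sum, Nat.cast_sum, ← Finset.sum_attach hF'.toFinset]
    · refine Finset.sum_congr rfl fun z _ => ?_
      have hp : CycDim.lenAt (φ z) (torMod Γ(Y, V) Γ(J.subscheme, g ⁻¹ᵁ V) Γ(G', g ⁻¹ᵁ V) Γ(G, V) n) = ℓ z.1 n :=
        length_point f i hU hV hG'.1 hG.1 (hmem z.1 z.2) n
      rw [hdeg z, hp, ENat.toNat_mul, ENat.toNat_natCast, Nat.cast_mul]
    · intro z _
      exact WithTop.mul_ne_top (by rw [hdeg z]; exact ENat.natCast_ne_top _) (hne _ (Finset.mem_image_of_mem φ (Finset.mem_attach _ z)))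
  have hL : IntMult.chi (Y.presheaf.stalk y) (((Coh.push f).obj F).presheaf.stalk y) (G.presheaf.stalk y) =
      ∑ z ∈ hF'.toFinset, (g.residueDegree z : ℤ) * IntMult.chi (X.presheaf.stalk (i z))
        (((Coh.push i).obj G').presheaf.stalk (i z)) (((Scheme.Modules.pullback f).obj G).presheaf.stalk (i z)) := by
    refine (chi_congr_equiv (N := G.presheaf.stalk y) ((DerSch.stalkFunctor Y y).mapIso e').toLinearEquiv
      (LinearEquiv.refl _ _)).trans ?_
    show ∑ᶠ n : ℕ, (-1 : ℤ) ^ n * ((Module.length (Y.presheaf.stalk y) (DRing.Tor (Y.presheaf.stalk y) n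
      (((Coh.push g).obj G').presheaf.stalk y) (G.presheaf.stalk y))).toNat : ℤ) = _
    simp only [hmain, Finset.mul_sum]
    rw [finsum_sum_comm]
    · refine Finset.sum_congr rfl fun z _ => ?_
      rw [IntMult.chi, mul_finsum]
      exact finsum_congr fun n => by show _ = _ * ((-1 : ℤ) ^ n * ((ℓ z n).toNat : ℤ)); ring
    · intro z _
      obtain ⟨d, hd⟩ := SerreReg.exists_dim (X.presheaf.stalk (i z))
      refine (Finset.range (d + 1)).finite_toSet.subset fun n hn => ?_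
      rw [Finset.coe_range, Set.mem_Iio]
      by_contra h
      haveI := tor_vanish_gt hd (((Coh.push i).obj G').presheaf.stalk (i z))
        (((Scheme.Modules.pullback f).obj G).presheaf.stalk (i z)) (show d < n by omega)
      exact hn (show (-1 : ℤ) ^ n * ((g.residueDegree z : ℤ) * ((ℓ z n).toNat : ℤ)) = 0 by
        simp [ℓ, Module.length_eq_zero])
  rw [hL]
  symm
  rw [finsum_mem_inter_support_eq' _ (f ⁻¹' {y}) (i '' (g ⁻¹' {y})) (fun x hx => ⟨fun hxy => by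
    by_cases hr : x ∈ Set.range i
    · obtain ⟨z, rfl⟩ := hr
      exact ⟨z, hxy, rfl⟩
    · rw [hrange] at hr
      haveI : Subsingleton (F.presheaf.stalk x) := not_not.1 hr
      exact absurd (show IntMult.chi (X.presheaf.stalk x) (F.presheaf.stalk x)
          (((Scheme.Modules.pullback f).obj G).presheaf.stalk x) * ((AlgebraicCycle.mapCoeff f δX δY x : ℕ) : ℤ) = 0 by
        rw [chi_subsingleton_left, zero_mul]) hx, by rintro ⟨z, hz, rfl⟩; exact hz⟩),
    finsum_mem_image i.isClosedEmbedding.injective.injOn, finsum_mem_eq_finite_toFinset_sum _ hF']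
  refine Finset.sum_congr rfl fun z hz => ?_
  have hgz : f (i z) = y := hF'.mem_toFinset.1 hz
  rw [AlgebraicCycle.mapCoeff, if_pos (show δX (i z) = δY (f (i z)) by rw [hgz, hδz z hgz]),
    Groth.Agent.CycPush.residueDegree_comp_closedImmersion i f z, mul_comm]
  congr 1
  exact chi_congr_equiv (N := ((Scheme.Modules.pullback f).obj G).presheaf.stalk (i z))
    ((DerSch.stalkFunctor X (i z)).mapIso e.symm).toLinearEquiv (LinearEquiv.refl _ _)

end Groth.Agent.BivarOps
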