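import Groth.Agent.BivarOps.InterAssoc
import Groth.Agent.BivarOps.TorPushScheme
import Groth.Agent.BivarOps.InterBilin
import Groth.Agent.S1897
import Groth.Agent.S1899
import Groth.Agent.S6470
import Groth.Agent.FMTool.BC
import Groth.Agent.TorFlatBC.Basic
import Groth.Agent.KFlat.ClosedImm
import Groth.Agent.KFlat.Pullback
import Groth.Agent.QC.Pullback

/-!
Intersecting a flat pullback with a section that is flat over the target.
-/

set_option autoImplicit false
set_option linter.style.haveILetI false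
set_option backward.isDefEq.respectTransparency false
set_option maxHeartbeats 1000000

universe u

open CategoryTheory CategoryTheory.Limits AlgebraicGeometry
open scoped TensorProduct

namespace Groth.Agent.BivarOps

theorem chi_eq_length_tensor {A : Type u} [CommRing A] (M N : Type u) [AddCommGroup M] [Module A M] [AddCommGroup N]
    [Module A N] (hT : ∀ i, 1 ≤ i → Subsingleton (DRing.Tor A i M N)) :
    IntMult.chi A M N = ((Module.length A (M ⊗[A] N)).toNat : ℤ) := by
  rw [IntMult.chi, finsum_eq_single _ 0 fun i hi => ?_]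
  · rw [pow_zero, one_mul]
    congr 2
    open Limits MonoidalCategory in
    haveI : PreservesFiniteColimits ((tensoringLeft (ModuleCat.{u} A)).obj (ModuleCat.of A M)) :=
      inferInstanceAs (PreservesFiniteColimits (tensorLeft (ModuleCat.of A M)))
    open Limits MonoidalCategory in
    exact (((tensoringLeft (ModuleCat.{u} A)).obj (ModuleCat.of A M)).leftDerivedZeroIsoSelf.app
      (ModuleCat.of A N)).toLinearEquiv.length_eq
  · haveI := hT i (Nat.one_le_iff_ne_zero.2 hi)
    simp [Module.length_eq_zero]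

variable {X Y W : Scheme.{u}} (q : W ⟶ Y) [Flat q] (σ : X ⟶ W) [IsClosedImmersion σ] [Flat (σ ≫ q)]

/-- The structure sheaf of a section and a flat pullback are independent of higher torsion. -/
theorem chi_section_pull (G : Y.Modules) (x : X) :
    IntMult.chi (W.presheaf.stalk (σ x)) (((Coh.push σ).obj (Coh.structureModule X)).presheaf.stalk (σ x))
        (((Scheme.Modules.pullback q).obj G).presheaf.stalk (σ x)) =
      ((Module.length (X.presheaf.stalk x) (((Scheme.Modules.pullback (σ ≫ q)).obj G).presheaf.stalk x)).toNat : ℤ) := by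
  obtain ⟨e, -⟩ := Groth.Agent.RefStalk.exists_structStalk (X := X) x
  letI algA : Algebra (Y.presheaf.stalk (q (σ x))) (W.presheaf.stalk (σ x)) := (q.stalkMap (σ x)).hom.toAlgebra
  letI algB : Algebra (W.presheaf.stalk (σ x)) (X.presheaf.stalk x) := (σ.stalkMap x).hom.toAlgebra
  letI algR : Algebra (Y.presheaf.stalk (q (σ x))) (X.presheaf.stalk x) := ((σ ≫ q).stalkMap x).hom.toAlgebra
  haveI : IsScalarTower (Y.presheaf.stalk (q (σ x))) (W.presheaf.stalk (σ x)) (X.presheaf.stalk x) :=
    IsScalarTower.of_algebraMap_eq fun a => by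
      show ((σ ≫ q).stalkMap x).hom a = (σ.stalkMap x).hom ((q.stalkMap (σ x)).hom a)
      rw [Scheme.Hom.stalkMap_comp]
      rfl
  haveI : Module.Flat (Y.presheaf.stalk (q (σ x))) (W.presheaf.stalk (σ x)) := Flat.stalkMap q (σ x)
  haveI : Module.Flat (Y.presheaf.stalk (q (σ x))) (X.presheaf.stalk x) := Flat.stalkMap (σ ≫ q) x
  let L : ((Coh.push σ).obj (Coh.structureModule X)).presheaf.stalk (σ x) →ₗ[W.presheaf.stalk (σ x)] X.presheaf.stalk x :=
    { toFun := fun m => e.symm (Groth.Agent.KFlat.pushStalk σ x (Coh.structureModule X) m)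
      map_add' := fun a b => (congrArg e.symm (map_add (Groth.Agent.KFlat.pushStalk σ x (Coh.structureModule X)) a b)).trans
        (map_add e.symm _ _)
      map_smul' := fun r m => (congrArg e.symm (Groth.Agent.KFlat.pushStalk_smul σ x (Coh.structureModule X) r m)).trans
        (map_smul e.symm ((σ.stalkMap x).hom r) _) }
  let eL := LinearEquiv.ofBijective L
    (e.symm.bijective.comp (Groth.Agent.KFlat.pushStalk_bijective σ x (Coh.structureModule X)))
  let eN : ((Scheme.Modules.pullback q).obj G).presheaf.stalk (σ x) ≃ₗ[W.presheaf.stalk (σ x)]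
      W.presheaf.stalk (σ x) ⊗[Y.presheaf.stalk (q (σ x))] G.presheaf.stalk (q (σ x)) :=
    ((KFlat.pullStalkIso q (σ x)).app G).toLinearEquiv
  let eR : ((Scheme.Modules.pullback (σ ≫ q)).obj G).presheaf.stalk x ≃ₗ[X.presheaf.stalk x]
      X.presheaf.stalk x ⊗[Y.presheaf.stalk (q (σ x))] G.presheaf.stalk (q (σ x)) :=
    ((KFlat.pullStalkIso (σ ≫ q) x).app G).toLinearEquiv
  rw [chi_congr_equiv eL eN, chi_eq_length_tensor _ _ fun i hi => ?_, eR.length_eq,
    (TensorProduct.AlgebraTensorModule.cancelBaseChange (Y.presheaf.stalk (q (σ x))) (W.presheaf.stalk (σ x))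
      (W.presheaf.stalk (σ x)) (X.presheaf.stalk x) (G.presheaf.stalk (q (σ x)))).length_eq,
    Module.length_eq_of_surjective (R := X.presheaf.stalk x) (S := W.presheaf.stalk (σ x))
      (show Function.Surjective (algebraMap (W.presheaf.stalk (σ x)) (X.presheaf.stalk x)) from
        σ.stalkMap_surjective x)]
  haveI := Groth.Agent.FMTool.subsingleton_tor_flat (A := Y.presheaf.stalk (q (σ x)))
    (M := X.presheaf.stalk x) (G.presheaf.stalk (q (σ x))) (i := i) hi
  obtain ⟨t, ht⟩ := TorFlatBC.exists_tor_bc (A := Y.presheaf.stalk (q (σ x))) (A' := W.presheaf.stalk (σ x))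
    (P' := X.presheaf.stalk x) (ModuleCat.of (Y.presheaf.stalk (q (σ x))) (G.presheaf.stalk (q (σ x)))) i
  exact ⟨fun a b => by
    obtain ⟨a, rfl⟩ := ht.2 a
    obtain ⟨b, rfl⟩ := ht.2 b
    exact congrArg t (Subsingleton.elim (α := DRing.Tor (Y.presheaf.stalk (q (σ x))) i (X.presheaf.stalk x)
      (G.presheaf.stalk (q (σ x)))) a b)⟩

variable {δW : W → ℤ} {δX : X → ℤ} {δY : Y → ℤ}

/-- The product of a section with the pullback of a point is the pullback along the section. -/
theorem interProd_section {K : Type u} [Field K] [IsAlgClosed K] (gW : W ⟶ Spec (CommRingCat.of K)) [Smooth gW]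
    [IsSeparated gW] [QuasiCompact gW] [IsIntegral W] [IsIntegral X] [LocallyOfFiniteType q]
    [LocallyOfFiniteType (σ ≫ q)]
    (hW : Cyc.IsSetup W δW) (hX : Cyc.IsSetup X δX) (hY : Cyc.IsSetup Y δY)
    (hδW : Cyc.DeltaCompat gW δW fun _ => 0) (hq : Cyc.DeltaCompat q δW δY) (hh : Cyc.DeltaCompat (σ ≫ q) δX δY)
    (hσ : ∀ x, δW (σ x) = δX x) {N : ℤ} (hN : δW (genericPoint W) = N) {n : ℤ} (hn : δX (genericPoint X) = n)
    {d e : ℕ} (hd : Cyc.HasRelDim q d) (he : Cyc.HasRelDim (σ ≫ q) e) (hNe : (e : ℤ) = n + d - N)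
    (x : X) (hx : δX x = δY ((σ ≫ q) x) + e) :
    IntMult.interProd δW N (Set.indicator {σ (genericPoint X)} 1)
        (Cyc.pullFun q δW δY d (Set.indicator {(σ ≫ q) x} 1)) (σ x) =
      Cyc.pullFun (σ ≫ q) δX δY e (Set.indicator {(σ ≫ q) x} 1) x := by
  classical
  haveI := hW.1
  haveI := hX.1
  haveI := hY.1
  obtain ⟨G, hG, hGs, hGd, hGv⟩ := exists_pointSheaf hY ((σ ≫ q) x)
  have hval : Set.indicator {(σ ≫ q) x} (1 : Y → ℤ) = Cyc.sheafFun δY (δY ((σ ≫ q) x)) G :=
    funext fun w => by rw [hGv]; simp [Set.indicator_apply]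
  obtain ⟨hdq, heq⟩ := Groth.Agent.S1897.result W Y δW δY hW hY q d hd hq _ G hG hGd
  obtain ⟨-, heh⟩ := Groth.Agent.S1897.result X Y δX δY hX hY (σ ≫ q) e he hh _ G hG hGd
  let F := (Coh.push σ).obj (Coh.structureModule X)
  have hF : Coh.IsCoh F := Intersect.isCoh_push' σ RefStalk.isCoh_structureModule
  have hFs : ∀ w, Nontrivial (F.presheaf.stalk w) → w ∈ Set.range σ := fun w hw => by
    by_contra h
    exact not_subsingleton_iff_nontrivial.2 hw (KFlat.subsingleton_stalk_push σ _ h)
  have hle : ∀ x' : X, δX x' ≤ n := fun x' => hn ▸ (dim_stalk hX.2.2 x').2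
  have hFv : Set.indicator {σ (genericPoint X)} (1 : W → ℤ) = Cyc.sheafFun δW n F := by
    funext w
    rw [← Groth.Agent.S1899.result W X δW hW σ n (fun z => (hσ z).trans_le (hle z)), Cyc.subschemeFun]
    by_cases hw : w = σ (genericPoint X)
    · subst hw
      have hset : {z | σ z = σ (genericPoint X)} = {genericPoint X} :=
        Set.ext fun z => ⟨fun h => σ.isClosedEmbedding.injective h, fun h => congrArg σ h⟩
      rw [if_pos ((hσ _).trans hn), hset, finsum_mem_singleton, Set.indicator_of_mem (Set.mem_singleton _)]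
      have h2 : Module.length X.functionField X.functionField = 1 := by
        rw [Module.length_eq_one_iff]
        exact isSimpleModule_iff _ _ |>.2 inferInstance
      rw [show Module.length (X.presheaf.stalk (genericPoint X)) (X.presheaf.stalk (genericPoint X)) = 1 from h2]
      rfl
    · rw [Set.indicator_of_notMem (show w ∉ ({σ (genericPoint X)} : Set W) from hw)]
      split_ifs with hdw
      · refine (finsum_mem_eq_zero_of_forall_eq_zero fun z hz => ?_).symm
        exfalso
        have hz' : σ z = w := hz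
        rw [← hz', hσ, ← hn] at hdw
        refine hw ?_
        rw [← hz', CycDim.eq_of_delta_le hX.2.2 (genericPoint_specializes z) hdw.ge]
      · rfl
  rw [hval, hFv, heh, show Cyc.pullFun q δW δY d (Cyc.sheafFun δY (δY ((σ ≫ q) x)) G) = _ from heq]
  have hFd : ∀ w, Nontrivial (F.presheaf.stalk w) → δW w ≤ n := fun w hw => by
    obtain ⟨z, rfl⟩ := hFs w hw
    exact (hσ z).trans_le (hle z)
  have hrs : ∀ w, Nontrivial (F.presheaf.stalk w) →
      Nontrivial (((Scheme.Modules.pullback q).obj G).presheaf.stalk w) → δW w ≤ n + (δY ((σ ≫ q) x) + d) - N := by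
    intro w hw hw'
    obtain ⟨z, rfl⟩ := hFs w hw
    have hg : Nontrivial (G.presheaf.stalk (q (σ z))) := by
      by_contra hc
      haveI := not_nontrivial_iff_subsingleton.1 hc
      letI := (q.stalkMap (σ z)).hom.toAlgebra
      exact not_subsingleton_iff_nontrivial.2 hw' (@Equiv.subsingleton _ _
        ((KFlat.pullStalkIso q (σ z)).app G).toLinearEquiv.toEquiv
        (inferInstance : Subsingleton (TensorProduct (Y.presheaf.stalk (q (σ z))) (W.presheaf.stalk (σ z))
          (G.presheaf.stalk (q (σ z))))))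
    have h1 := (CycDim.delta_le (σ ≫ q) hh he z).1
    have h2 : δY ((σ ≫ q) z) ≤ δY ((σ ≫ q) x) := hGd _ hg
    rw [hσ]
    omega
  obtain ⟨-, hv⟩ := Groth.Agent.S6470.result K W gW δW hW hδW N hN F _ hF (QC.isCoh_pullback q hG) n
    (δY ((σ ≫ q) x) + d) hFd hdq hrs
  rw [hv, if_pos (by rw [hσ, hx]; omega), chi_section_pull q σ G x, Cyc.sheafFun, if_pos (by omega)]

end Groth.Agent.BivarOps
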