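import Groth.Agent.BivarOps.GraphDecomp
import Groth.Agent.BivarOps.ChowHoms

/-!
Operational classes of a scheme with the Künneth property.
-/

set_option autoImplicit false
set_option linter.unusedSectionVars false
set_option linter.unusedVariables false
set_option linter.style.haveILetI false
set_option backward.isDefEq.respectTransparency false
set_option backward.isDefEq.respectTransparency.types false
set_option maxHeartbeats 1000000

universe u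

open CategoryTheory CategoryTheory.Limits AlgebraicGeometry Opposite
open Groth.Agent.CycPB (Cy RZ pushF ptF)
open scoped TensorProduct

noncomputable section

namespace Groth.Agent.BivarOps

variable {K : Type u} [Field K] {X : Scheme.{u}} {pX : X ⟶ Spec (.of K)} {δX : X → ℤ} [IsProper pX]

/-- a bilinear Künneth map with its properties -/
structure KunMap (C : KProd pX δX) : Type (u + 1) where
  κ : ∀ a m : ℤ, ChowOps.CH X δX a →ₗ[ℤ] ChowOps.CH C.Y C.δY (m - a) →ₗ[ℤ] ChowOps.CH C.P C.δP m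
  spec : ∀ (a m : ℤ) (α : AlgebraicCycle X ℤ) (hα : α ∈ Cyc.Zk X δX a)
    (β : AlgebraicCycle C.Y ℤ) (hβ : β ∈ Cyc.Zk C.Y C.δY (m - a))
    (ζ : AlgebraicCycle C.P ℤ) (hζ : ζ ∈ Cyc.Zk C.P C.δP m),
      ⇑ζ = C.ext ⇑α ⇑β → κ a m (ChowOps.cl α hα) (ChowOps.cl β hβ) = ChowOps.cl ζ hζ
  bij : ∀ m : ℤ, Function.Bijective
    (DirectSum.toModule ℤ ℤ (ChowOps.CH C.P C.δP m) (fun a : ℤ => TensorProduct.lift (κ a m)))

variable {p : ℤ} (φ : ChowOps.CH X δX p →+ ℤ)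

/-- the functional extended by zero -/
def sc (a : ℤ) : ChowOps.CH X δX a →+ ℤ :=
  if h : a = p then φ.comp (Bivar.chCast X δX h).toAddMonoidHom else 0

theorem sc_self : sc φ p = φ := by
  unfold sc
  rw [dif_pos rfl]
  rfl

theorem sc_ne {a : ℤ} (h : a ≠ p) : sc φ a = 0 := dif_neg h

/-- the bilinear target -/
def tgt (Z : Scheme.{u}) (δ : Z → ℤ) (a m : ℤ) :
    ChowOps.CH X δX a →ₗ[ℤ] ChowOps.CH Z δ (m - a) →ₗ[ℤ] ChowOps.CH Z δ (m - p) :=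
  if h : a = p then
    ((LinearMap.lsmul ℤ (ChowOps.CH Z δ (m - p))).comp (sc φ a).toIntLinearMap).compl₂
      (Bivar.chCast Z δ (show m - a = m - p by rw [h])).toAddMonoidHom.toIntLinearMap
  else 0

theorem tgt_self (Z : Scheme.{u}) (δ : Z → ℤ) (m : ℤ) (x : ChowOps.CH X δX p) (y : ChowOps.CH Z δ (m - p)) :
    tgt φ Z δ p m x y = φ x • y := by
  unfold tgt
  rw [dif_pos rfl, LinearMap.compl₂_apply, LinearMap.comp_apply, LinearMap.lsmul_apply, sc_self]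
  rfl

theorem tgt_ne (Z : Scheme.{u}) (δ : Z → ℤ) {a : ℤ} (h : a ≠ p) (m : ℤ) : tgt φ Z δ a m = 0 := dif_neg h

theorem tgt_nat {Z Z' : Scheme.{u}} {δ : Z → ℤ} {δ' : Z' → ℤ} {a m m' : ℤ}
    (F : ∀ b : ℤ, ChowOps.CH Z δ (m - b) →+ ChowOps.CH Z' δ' (m' - b)) (x : ChowOps.CH X δX a)
    (y : ChowOps.CH Z δ (m - a)) : F p (tgt φ Z δ a m x y) = tgt φ Z' δ' a m' x (F a y) := by
  by_cases h : a = p
  · subst h
    rw [tgt_self, tgt_self, map_zsmul]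
  · rw [tgt_ne φ Z δ h, tgt_ne φ Z' δ' h]
    exact map_zero _

variable {C C' : KProd pX δX}

/-- the retraction -/
def KunMap.L (M : KunMap C) (m : ℤ) : ChowOps.CH C.P C.δP m →+ ChowOps.CH C.Y C.δY (m - p) :=
  ((DirectSum.toModule ℤ ℤ (ChowOps.CH C.Y C.δY (m - p)) (fun a : ℤ => TensorProduct.lift (tgt φ C.Y C.δY a m))).comp
    (LinearEquiv.ofBijective _ (M.bij m)).symm.toLinearMap).toAddMonoidHom

theorem KunMap.L_cl (M : KunMap C) {a m : ℤ} (α : AlgebraicCycle X ℤ) (hα : α ∈ Cyc.Zk X δX a)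
    (β : AlgebraicCycle C.Y ℤ) (hβ : β ∈ Cyc.Zk C.Y C.δY (m - a))
    (ζ : AlgebraicCycle C.P ℤ) (hζ : ζ ∈ Cyc.Zk C.P C.δP m) (e : ⇑ζ = C.ext ⇑α ⇑β) :
    M.L φ m (ChowOps.cl ζ hζ) = tgt φ C.Y C.δY a m (ChowOps.cl α hα) (ChowOps.cl β hβ) := by
  have e0 : (LinearEquiv.ofBijective _ (M.bij m)).symm (ChowOps.cl ζ hζ) =
      DirectSum.lof ℤ ℤ (fun b : ℤ => ChowOps.CH X δX b ⊗[ℤ] ChowOps.CH C.Y C.δY (m - b)) a
        (ChowOps.cl α hα ⊗ₜ ChowOps.cl β hβ) := by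
    rw [LinearEquiv.symm_apply_eq]
    show _ = DirectSum.toModule ℤ ℤ _ _ (DirectSum.lof ℤ ℤ _ a _)
    rw [DirectSum.toModule_lof, TensorProduct.lift.tmul, M.spec a m α hα β hβ ζ hζ e]
  show (DirectSum.toModule ℤ ℤ _ _) ((LinearEquiv.ofBijective _ (M.bij m)).symm (ChowOps.cl ζ hζ)) = _
  rw [e0, DirectSum.toModule_lof, TensorProduct.lift.tmul]

variable (hX : Cyc.IsSetup X δX) (hδX : Cyc.DeltaCompat pX δX fun _ => 0)

include hX hδX in
/-- additive maps agreeing on exterior products are equal -/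
theorem KunMap.hom_ext (M : KunMap C) {m : ℤ} {G : Type*} [AddCommGroup G] (f g : ChowOps.CH C.P C.δP m →+ G)
    (h : ∀ (a : ℤ) (α : AlgebraicCycle X ℤ) (hα : α ∈ Cyc.Zk X δX a) (β : AlgebraicCycle C.Y ℤ)
      (hβ : β ∈ Cyc.Zk C.Y C.δY (m - a)) (ζ : AlgebraicCycle C.P ℤ) (hζ : ζ ∈ Cyc.Zk C.P C.δP m),
        ⇑ζ = C.ext ⇑α ⇑β → f (ChowOps.cl ζ hζ) = g (ChowOps.cl ζ hζ)) : f = g := by
  classical
  refine AddMonoidHom.ext fun x => ?_
  obtain ⟨y, rfl⟩ := (M.bij m).2 x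
  induction y using DirectSum.induction_on with
  | zero => simp
  | of a t =>
    show f (DirectSum.toModule ℤ ℤ _ _ (DirectSum.lof ℤ ℤ (fun b : ℤ => ChowOps.CH X δX b ⊗[ℤ] ChowOps.CH C.Y C.δY (m - b)) a t)) =
      g (DirectSum.toModule ℤ ℤ _ _ (DirectSum.lof ℤ ℤ (fun b : ℤ => ChowOps.CH X δX b ⊗[ℤ] ChowOps.CH C.Y C.δY (m - b)) a t))
    rw [DirectSum.toModule_lof]
    induction t using TensorProduct.induction_on with
    | zero => simp
    | add t t' ht ht' => simp only [map_add, ht, ht']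
    | tmul u v =>
      obtain ⟨α, hα, rfl⟩ := Bivar.exists_rep u
      obtain ⟨β, hβ, rfl⟩ := Bivar.exists_rep v
      obtain ⟨ζ, hζ, hζk⟩ := C.ext_cy hX hδX (CycPB.Cy.mk hα) (CycPB.Cy.mk hβ)
      rw [show a + (m - a) = m by ring] at hζk
      rw [TensorProduct.lift.tmul, M.spec a m α hα β hβ ζ hζk hζ]
      exact h a α hα β hβ ζ hζk hζ
  | add y y' hy hy' => simp only [map_add, hy, hy']

include hX hδX in
theorem L_push (M : KunMap C) (M' : KunMap C') (μ : KMor C C') [IsProper μ.h] [IsProper μ.H] (m : ℤ)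
    (x : ChowOps.CH C'.P C'.δP m) :
    pushHom C'.setupY C.setupY μ.h μ.compat (m - p) (M'.L φ m x) =
      M.L φ m (pushHom C'.setupP C.setupP μ.H μ.compatH m x) := by
  refine DFunLike.congr_fun (M'.hom_ext hX hδX ((pushHom C'.setupY C.setupY μ.h μ.compat (m - p)).comp (M'.L φ m))
    ((M.L φ m).comp (pushHom C'.setupP C.setupP μ.H μ.compatH m)) fun a α hα β hβ ζ hζ e => ?_) x
  rw [AddMonoidHom.comp_apply, AddMonoidHom.comp_apply]
  rw [M'.L_cl φ α hα β hβ ζ hζ e, pushHom_map C'.setupP C.setupP μ.H μ.compatH ζ hζ,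
    M.L_cl φ α hα _ (Bivar.cycMap_mem_Zk μ.h C'.δY C.δY (m - a) hβ) _ _ ?_,
    tgt_nat φ (fun b => pushHom C'.setupY C.setupY μ.h μ.compat (m - b)), pushHom_map]
  exact (congrArg (pushF μ.H C'.δP C.δP) e).trans (μ.ext_push hX hδX (CycPB.Cy.mk hα) (CycPB.Cy.mk hβ))

include hX hδX in
theorem L_pull (M : KunMap C) (M' : KunMap C') (μ : KMor C C') [Flat μ.h] [Flat μ.H] [LocallyOfFiniteType μ.h]
    [LocallyOfFiniteType μ.H] {r : ℕ} (hr : Cyc.HasRelDim μ.h r) {m m' : ℤ} (hm : m + r = m')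
    (x : ChowOps.CH C.P C.δP m) :
    pullHom C'.setupY C.setupY μ.h hr μ.compat (show m - p + r = m' - p by omega) (M.L φ m x) =
      M'.L φ m' (pullHom C'.setupP C.setupP μ.H (μ.relDim_H hr) μ.compatH hm x) := by
  refine DFunLike.congr_fun (M.hom_ext hX hδX
    ((pullHom C'.setupY C.setupY μ.h hr μ.compat (show m - p + r = m' - p by omega)).comp (M.L φ m))
    ((M'.L φ m').comp (pullHom C'.setupP C.setupP μ.H (μ.relDim_H hr) μ.compatH hm))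
    fun a α hα β hβ ζ hζ e => ?_) x
  rw [AddMonoidHom.comp_apply, AddMonoidHom.comp_apply]
  haveI := C.setupY.1; haveI := C.setupP.1
  obtain ⟨β', hβ', hβ'k⟩ := (CycPB.Cy.mk hβ).pullR C'.setupY μ.h μ.compat hr
  rw [show m - a + (r : ℤ) = m' - a by omega] at hβ'k
  obtain ⟨ζ', hζ', hζ'k⟩ := (CycPB.Cy.mk hζ).pullR C'.setupP μ.H μ.compatH (μ.relDim_H hr)
  rw [hm] at hζ'k
  rw [M.L_cl φ α hα β hβ ζ hζ e, pullHom_cl _ _ μ.H (μ.relDim_H hr) _ hm ζ hζ ζ' hζ'k hζ',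
    M'.L_cl φ α hα β' hβ'k ζ' hζ'k ?_,
    tgt_nat φ (fun b => pullHom C'.setupY C.setupY μ.h hr μ.compat (show m - b + r = m' - b by omega)),
    pullHom_cl _ _ μ.h hr _ _ β hβ β' hβ'k hβ']
  rw [hζ', e, μ.ext_pull hX hδX hr (CycPB.Cy.mk hα) (CycPB.Cy.mk hβ), hβ']

include hX hδX in
theorem L_gysin (M : KunMap C) (M' : KunMap C') (μ : KMor C C') [IsClosedImmersion μ.h] [IsClosedImmersion μ.H]
    (hd : C'.δY = fun d => C.δY (μ.h d)) (hdP : C'.δP = fun d => C.δP (μ.H d))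
    {L : C.Y.Modules} (hL : PicF.IsInvertible L) {σ : Γ(L, (⊤ : C.Y.Opens))} (hσ : Cyc.IsZeroSchemeOf μ.h L σ)
    {τ : Γ((Scheme.Modules.pullback C.q₂).obj L, (⊤ : C.P.Opens))}
    (hτ : Cyc.IsZeroSchemeOf μ.H ((Scheme.Modules.pullback C.q₂).obj L) τ)
    (w : (ξ : C.Y) → Cyc.secFibre L ξ) (hw : ∀ ξ, w ξ ≠ 0)
    (w' : (ξ : C.P) → Cyc.secFibre ((Scheme.Modules.pullback C.q₂).obj L) ξ) (hw' : ∀ ξ, w' ξ ≠ 0)
    {m m' : ℤ} (hm : m' + 1 = m) (x : ChowOps.CH C.P C.δP m) :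
    gysHom C.setupY μ.h hd hL hσ w hw (show m' - p + 1 = m - p by omega) (M.L φ m x) =
      M'.L φ m' (gysHom C.setupP μ.H hdP (PicLoc.isInvertible_pullback C.q₂ hL) hτ w' hw' hm x) := by
  have hM := PicLoc.isInvertible_pullback C.q₂ hL
  refine DFunLike.congr_fun (M.hom_ext hX hδX
    ((gysHom C.setupY μ.h hd hL hσ w hw (show m' - p + 1 = m - p by omega)).comp (M.L φ m))
    ((M'.L φ m').comp (gysHom C.setupP μ.H hdP hM hτ w' hw' hm))
    fun a α hα β hβ ζ hζ e => ?_) x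
  rw [AddMonoidHom.comp_apply, AddMonoidHom.comp_apply]
  have hβ1 : Cy C.δY (m' - a + 1) ⇑β := by
    rw [show m' - a + 1 = m - a by omega]; exact CycPB.Cy.mk hβ
  obtain ⟨β', hβ', hβ'k⟩ := gys_cy C.setupY μ.h hL (CycK0.gysinChoice_ne_zero (s := σ) hw) hβ1
  rw [← hd] at hβ'k
  obtain ⟨ζ', hζ', hζ'k⟩ := C'.ext_cy hX hδX (CycPB.Cy.mk hα) (CycPB.Cy.mk hβ'k)
  rw [show a + (m' - a) = m' by ring] at hζ'k
  have key := μ.ext_gysin hX hδX hL hσ hτ w hw w' hw' (CycPB.Cy.mk hα) hβ1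
  rw [show a + (m' - a) = m' by ring, ← hβ', ← e, ← hζ'] at key
  rw [M.L_cl φ α hα β hβ ζ hζ e, gysHom_cl _ μ.H hdP hM hτ w' hw' hm ζ hζ ζ' hζ'k key,
    M'.L_cl φ α hα β' hβ'k ζ' hζ'k hζ',
    tgt_nat φ (fun b => gysHom C.setupY μ.h hd hL hσ w hw (show m' - b + 1 = m - b by omega)),
    gysHom_cl _ μ.h hd hL hσ w hw _ β hβ β' hβ'k (CycPB.RZ.zero.eq (funext fun d => by rw [hβ', sub_self]))]

end Groth.Agent.BivarOps
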