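import Groth.Agent.BivarOps.Kunneth

/-!
The operational class of a functional on the Chow group.
-/

set_option autoImplicit false
set_option linter.unusedSectionVars false
set_option linter.unusedVariables false
set_option linter.style.haveILetI false
set_option backward.isDefEq.respectTransparency false
set_option backward.isDefEq.respectTransparency.types false
set_option maxHeartbeats 1000000

universe u

open CategoryTheory CategoryTheory.Limits AlgebraicGeometry Opposite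
open Groth.Agent.CycPB (Cy RZ pushF ptF)

noncomputable section

namespace Groth.Agent.BivarOps

variable {K : Type u} [Field K] {X : Scheme.{u}} {pX : X ⟶ Spec (.of K)} {δX : X → ℤ} [IsProper pX]
  (hX : Cyc.IsSetup X δX) (hδX : Cyc.DeltaCompat pX δX fun _ => 0)

/-- the product with a test scheme -/
abbrev prodS (s : Bivar.OSq X δX) : KProd pX δX :=
  haveI := s.lft
  ⟨s.Y, pullback pX (s.g ≫ pX), s.g ≫ pX, pullback.fst _ _, pullback.snd _ _, inferInstance,
    IsPullback.of_hasPullback _ _, s.δ, (CycPB.exists_isSetup hX (pullback.fst pX (s.g ≫ pX))).choose,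
    Bivar.deltaCompat_comp s.g pX _ _ _ s.compat hδX,
    (CycPB.exists_isSetup hX (pullback.fst pX (s.g ≫ pX))).choose_spec.2, isSetup_test hX s.g s.compat,
    (CycPB.exists_isSetup hX (pullback.fst pX (s.g ≫ pX))).choose_spec.1⟩

/-- the graph -/
def graph (s : Bivar.OSq X δX) : s.Y ⟶ (prodS hX hδX s).P :=
  (prodS hX hδX s).sq.lift s.g (𝟙 s.Y) (Category.id_comp _).symm

theorem graph₁ (s : Bivar.OSq X δX) : graph hX hδX s ≫ (prodS hX hδX s).q₁ = s.g := IsPullback.lift_fst _ _ _ _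

theorem graph₂ (s : Bivar.OSq X δX) : graph hX hδX s ≫ (prodS hX hδX s).q₂ = 𝟙 s.Y := IsPullback.lift_snd _ _ _ _

theorem graph_closed (s : Bivar.OSq X δX) : IsClosedImmersion (graph hX hδX s) := by
  haveI : IsSeparated (prodS hX hδX s).q₂ := (KProd.proper₂ (prodS hX hδX s)).toIsSeparated
  haveI : IsClosedImmersion (graph hX hδX s ≫ (prodS hX hδX s).q₂) := by rw [graph₂]; infer_instance
  exact IsClosedImmersion.of_comp _ (prodS hX hδX s).q₂

instance (s : Bivar.OSq X δX) : IsClosedImmersion (graph hX hδX s) := graph_closed hX hδX s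

theorem graph_compat (s : Bivar.OSq X δX) : Cyc.DeltaCompat (graph hX hδX s) s.δ (prodS hX hδX s).δP :=
  deltaCompat_of_comp (graph₁ hX hδX s) (prodS hX hδX s).compatP s.compat

/-- the class of the graph push forward -/
def γHom (s : Bivar.OSq X δX) (k : ℤ) : ChowOps.CH s.Y s.δ k →+ ChowOps.CH (prodS hX hδX s).P (prodS hX hδX s).δP k :=
  pushHom (prodS hX hδX s).setupY (prodS hX hδX s).setupP (graph hX hδX s)
    (graph_compat hX hδX s) k

variable {p : ℤ} (φ : ChowOps.CH X δX p →+ ℤ) (M : ∀ C : KProd pX δX, KunMap C)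

/-- the operations -/
def kOp (s : Bivar.OSq X δX) (k : ℤ) : ChowOps.CH s.Y s.δ k →+ ChowOps.CH s.Y s.δ (k - p) :=
  ((M (prodS hX hδX s)).L φ k).comp (γHom hX hδX s k)

/-- the map of products over a map of test schemes -/
def morS (s t : Bivar.OSq X δX) (h : t.Y ⟶ s.Y) (w : h ≫ s.g = t.g) :
    KMor (prodS hX hδX s) (prodS hX hδX t) :=
  KMor.of _ _ h (show h ≫ s.g ≫ pX = t.g ≫ pX by rw [← w, Category.assoc])

theorem graph_mor (s t : Bivar.OSq X δX) (h : t.Y ⟶ s.Y) (w : h ≫ s.g = t.g) :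
    graph hX hδX t ≫ (morS hX hδX s t h w).H = h ≫ graph hX hδX s := by
  refine (prodS hX hδX s).sq.hom_ext ?_ ?_
  · rw [Category.assoc, (morS hX hδX s t h w).w₁, graph₁, Category.assoc, graph₁, w]
  · rw [Category.assoc, (morS hX hδX s t h w).w₂, ← Category.assoc, graph₂, Category.assoc, graph₂, Category.id_comp,
      Category.comp_id]
    rfl

theorem graph_sq (s t : Bivar.OSq X δX) (h : t.Y ⟶ s.Y) (w : h ≫ s.g = t.g) :
    IsPullback h (graph hX hδX t) (graph hX hδX s) (morS hX hδX s t h w).H :=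
  IsPullback.of_bot (h₂₁ := (morS hX hδX s t h w).H) (v₂₁ := (prodS hX hδX t).q₂) (v₂₂ := (prodS hX hδX s).q₂) (h₃₁ := h)
    (by
      rw [graph₂, graph₂]
      exact IsPullback.of_vert_isIso ⟨by rw [Category.comp_id, Category.id_comp]⟩)
    (graph_mor hX hδX s t h w).symm (morS hX hδX s t h w).sq.flip

/-- **The class of a functional.** -/
def kClass : Bivar.OpCl p X δX where
  op := kOp hX hδX φ M
  push s t h _ w k := by
    intro α hα
    let μ := morS hX hδX s t h w
    haveI : IsProper μ.h := inferInstanceAs (IsProper h)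
    haveI : IsProper μ.H := μ.proper_H
    obtain ⟨β, hβ, e⟩ := Bivar.exists_rep (kOp hX hδX φ M t k (ChowOps.cl α hα))
    refine ⟨β, hβ, e.symm, ?_⟩
    rw [← pushHom_map (prodS hX hδX t).setupY (prodS hX hδX s).setupY h μ.compat α hα,
      ← pushHom_map (prodS hX hδX t).setupY (prodS hX hδX s).setupY h μ.compat β hβ, e]
    show (M (prodS hX hδX s)).L φ k _ = pushHom _ _ μ.h μ.compat (k - p) ((M (prodS hX hδX t)).L φ k _)
    rw [L_push φ hX hδX (M (prodS hX hδX s)) (M (prodS hX hδX t)) μ k]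
    refine congrArg _ ?_
    have hh : Cyc.DeltaCompat (h ≫ graph hX hδX s) t.δ (prodS hX hδX s).δP :=
      Bivar.deltaCompat_comp h _ _ _ _ μ.compat (graph_compat hX hδX s)
    rw [γHom, γHom, pushHom_comp _ _ _ h (graph hX hδX s) (h ≫ graph hX hδX s) rfl μ.compat _ hh,
      pushHom_comp _ _ _ (graph hX hδX t) μ.H (h ≫ graph hX hδX s) (graph_mor hX hδX s t h w) _ μ.compatH hh]
  pull s t h _ r hr w k := by
    intro α hα
    haveI := s.lft; haveI := t.lft
    let μ := morS hX hδX s t h w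
    haveI : LocallyOfFiniteType μ.h := μ.lft
    haveI : LocallyOfFiniteType h := μ.lft
    haveI : Flat μ.h := inferInstanceAs (Flat h)
    haveI : Flat μ.H := μ.flat_H
    haveI : LocallyOfFiniteType μ.H := MorphismProperty.of_isPullback μ.sq μ.lft
    have hs := (prodS hX hδX s).setupY
    have ht := (prodS hX hδX t).setupY
    haveI := hs.1; haveI := ht.1
    haveI := (prodS hX hδX s).setupP.1; haveI := (prodS hX hδX t).setupP.1
    have hlk : k - p + (r : ℤ) = k + r - p := by ring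
    obtain ⟨β, hβ, e⟩ := Bivar.exists_rep (kOp hX hδX φ M s k (ChowOps.cl α hα))
    refine ⟨β, hβ, e.symm, fun α₁ hα₁e hα₁ => ?_⟩
    obtain ⟨β₁, hβ₁e, hβ₁⟩ := (CycPB.Cy.mk hβ).pullR ht h μ.compat hr
    rw [hlk] at hβ₁
    refine ⟨β₁, hβ₁, hβ₁e, ?_⟩
    rw [← pullHom_cl ht hs h hr μ.compat (rfl : k + (r : ℤ) = k + r) α hα α₁ hα₁ hα₁e,
      ← pullHom_cl ht hs h hr μ.compat hlk β hβ β₁ hβ₁ hβ₁e, e]
    show (M (prodS hX hδX t)).L φ (k + r) _ = pullHom _ _ μ.h hr μ.compat hlk ((M (prodS hX hδX s)).L φ k _)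
    rw [L_pull φ hX hδX (M (prodS hX hδX s)) (M (prodS hX hδX t)) μ hr (rfl : k + (r : ℤ) = k + r)]
    refine congrArg _ ?_
    rw [pullHom_cl ht hs h hr μ.compat (rfl : k + (r : ℤ) = k + r) α hα α₁ hα₁ hα₁e]
    unfold γHom
    rw [pushHom_map _ _ (graph hX hδX s) _ α hα, pushHom_map _ _ (graph hX hδX t) _ α₁ hα₁]
    refine (pullHom_cl _ _ μ.H _ _ _ _ _ _ _ ?_).symm
    funext z
    show pushF (graph hX hδX t) t.δ (prodS hX hδX t).δP ⇑α₁ z =
      Cyc.pullFun μ.H (prodS hX hδX t).δP (prodS hX hδX s).δP r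
        (pushF (graph hX hδX s) s.δ (prodS hX hδX s).δP ⇑α) z
    rw [hα₁e]
    exact (CycFin.push_pull (graph_sq hX hδX s t h w) (prodS hX hδX t).setupP.2.2 ht.2.2 (graph_compat hX hδX s)
      (graph_compat hX hδX t) (hc_of μ.compatH (μ.relDim_H hr)) (hc_of μ.compat hr) α z).symm
  gysin s t i _ w L hL σ hσ k := by
    intro α hα
    let μ := morS hX hδX s t i w
    haveI : IsClosedImmersion μ.h := inferInstanceAs (IsClosedImmersion i)
    haveI : IsClosedImmersion μ.H := MorphismProperty.of_isPullback μ.sq ‹IsClosedImmersion μ.h›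
    have hs := (prodS hX hδX s).setupY
    have hsP := (prodS hX hδX s).setupP
    haveI := hs.1; haveI := hsP.1
    have hd : t.δ = fun d => s.δ (i d) := delta_closed i μ.compat
    have hdP : (prodS hX hδX t).δP = fun d => (prodS hX hδX s).δP (μ.H d) := delta_closed μ.H μ.compatH
    obtain ⟨β, hβ, e⟩ := Bivar.exists_rep (kOp hX hδX φ M s k (ChowOps.cl α hα))
    refine ⟨β, hβ, e.symm, fun w₀ hw₀ γ hγe hγ => ?_⟩
    have hβ1 : Cy s.δ (k - 1 - p + 1) ⇑β := by
      rw [show k - 1 - p + 1 = k - p by ring]; exact CycPB.Cy.mk hβ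
    obtain ⟨ζ, hζe, hζ⟩ := gys_cy hs i hL (CycK0.gysinChoice_ne_zero (s := σ) hw₀) hβ1
    rw [← hd] at hζ
    refine ⟨ζ, hζ, fun d => congrFun hζe d, ?_⟩
    rw [← gysHom_cl hs i hd hL hσ w₀ hw₀ (show k - 1 + 1 = k by ring) α hα γ hγ
        (CycPB.RZ.zero.eq (funext fun d => by rw [hγe, sub_self])),
      ← gysHom_cl hs i hd hL hσ w₀ hw₀ (show k - 1 - p + 1 = k - p by ring) β hβ ζ hζ
        (CycPB.RZ.zero.eq (funext fun d => by rw [hζe, sub_self])), e]
    have hM := PicLoc.isInvertible_pullback (prodS hX hδX s).q₂ hL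
    obtain ⟨τ, hτ, -⟩ := CycPB.isZeroSchemeOf_pullback (prodS hX hδX s).q₂ μ.sq.flip hL hσ
    obtain ⟨w', hw'⟩ := CycPB.exists_sections hM
    show (M (prodS hX hδX t)).L φ (k - 1) _ = gysHom hs μ.h hd hL hσ w₀ hw₀ _ ((M (prodS hX hδX s)).L φ k _)
    rw [L_gysin φ hX hδX (M (prodS hX hδX s)) (M (prodS hX hδX t)) μ hd hdP hL hσ hτ w₀ hw₀ w' hw'
      (show k - 1 + 1 = k by ring)]
    refine congrArg _ ?_
    rw [gysHom_cl hs i hd hL hσ w₀ hw₀ (show k - 1 + 1 = k by ring) α hα γ hγ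
      (CycPB.RZ.zero.eq (funext fun d => by rw [hγe, sub_self]))]
    unfold γHom
    rw [pushHom_map _ _ (graph hX hδX s) _ α hα, pushHom_map _ _ (graph hX hδX t) _ γ hγ]
    refine (gysHom_cl hsP μ.H hdP hM hτ w' hw' _ _ _ _ _ ?_).symm
    have hsq := graph_sq hX hδX s t i w
    obtain ⟨τ', hτ', -⟩ := CycPB.isZeroSchemeOf_pullback (graph hX hδX s) hsq hM hτ
    have hM' := PicLoc.isInvertible_pullback (graph hX hδX s) hM
    obtain ⟨w'', hw''⟩ := CycPB.exists_sections hM'
    have hα1 : α ∈ Cyc.Zk s.Y s.δ (k - 1 + 1) := by rwa [sub_add_cancel]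
    have key1 := gysin_push_sq (k := k - 1) hsP hs (graph hX hδX s) (graph_compat hX hδX s) hM hτ hsq hτ' α hα1
      w' hw' w'' hw''
    have key2 := gysin_indep (k := k - 1) (i := i) hs hL hM'
      (((Scheme.Modules.pullbackId s.Y).app L).symm ≪≫ pullIso (graph₂ hX hδX s) L) hσ hτ' hw₀ hw''
      (CycPB.Cy.mk hα1)
    have hc1 := gys_cy hs i hM' (CycK0.gysinChoice_ne_zero (s := τ') hw'') (CycPB.Cy.mk hα1)
    rw [← hd] at key2 hc1
    have key2' := key2.push (graph hX hδX t) (prodS hX hδX t).setupP (prodS hX hδX t).setupY (graph_compat hX hδX t)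
    rw [CycPB.pushF_sub' _ _ hc1 ⟨γ, funext hγe, hγ⟩] at key2'
    rw [← hdP, ← hd] at key1
    refine (key1.trans key2').eq (funext fun d => ?_)
    rw [show (fun d => Cyc.c1CapFun s.δ L ⇑α (Cyc.gysinChoice L σ w₀) (i d)) = ⇑γ from (funext hγe).symm]
    rfl

end Groth.Agent.BivarOps
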