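import Groth.Agent.BivarOps.KunnethClass

/-!
The Kronecker functional of the class of a functional, and uniqueness.
-/

set_option autoImplicit false
set_option linter.unusedSectionVars false
set_option linter.unusedVariables false
set_option linter.style.haveILetI false
set_option backward.isDefEq.respectTransparency false
set_option backward.isDefEq.respectTransparency.types false
set_option maxHeartbeats 1000000

universe u

open CategoryTheory CategoryTheory.Limits AlgebraicGeometry Opposite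
open Groth.Agent.CycPB (Cy RZ pushF ptF)

noncomputable section

namespace Groth.Agent.BivarOps

variable {K : Type u} [Field K]

theorem degF_smul {Z : Scheme.{u}} (q : Z ⟶ Spec (CommRingCat.of K)) [IsProper q] (δ : Z → ℤ) (n : ℤ) (a : Z → ℤ) :
    degF q δ (fun z => n * a z) = n * degF q δ a :=
  congrFun (CycPB.pushF_smul q δ (fun _ => (0 : ℤ)) n a) _

/-- the degree of classes -/
def degHom {Z : Scheme.{u}} (q : Z ⟶ Spec (CommRingCat.of K)) [IsProper q] {δ : Z → ℤ} (hZ : Cyc.IsSetup Z δ)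
    (hδ : Cyc.DeltaCompat q δ fun _ => 0) (k : ℤ) : ChowOps.CH Z δ k →+ ℤ :=
  QuotientAddGroup.lift (ChowOps.ratTriv Z δ k)
    (AddMonoidHom.mk' (fun A => degF q δ ⇑A.1) fun A B =>
      CycPB.pushF_addP hZ q (CycPB.Cy.mk A.2) (CycPB.Cy.mk B.2) _)
    ((AddSubgroup.closure_le _).2 fun A hA => degF_rz q hZ (CycDeg.isSetup_field K) hδ ⟨A.1, rfl, A.2, hA⟩)

theorem degHom_cl {Z : Scheme.{u}} (q : Z ⟶ Spec (CommRingCat.of K)) [IsProper q] {δ : Z → ℤ} (hZ : Cyc.IsSetup Z δ)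
    (hδ : Cyc.DeltaCompat q δ fun _ => 0) {k : ℤ} (A : AlgebraicCycle Z ℤ) (hA : A ∈ Cyc.Zk Z δ k) :
    degHom q hZ hδ k (ChowOps.cl A hA) = ChowOps.deg q δ A := rfl

variable {X : Scheme.{u}} {pX : X ⟶ Spec (.of K)} {δX : X → ℤ} [IsProper pX]
  (hX : Cyc.IsSetup X δX) (hδX : Cyc.DeltaCompat pX δX fun _ => 0) {p : ℤ} (φ : ChowOps.CH X δX p →+ ℤ)
  (M : ∀ C : KProd pX δX, KunMap C)

include hX hδX in
theorem kClass_kronecker (α : AlgebraicCycle X ℤ) (hα : α ∈ Cyc.Zk X δX p) (β : AlgebraicCycle X ℤ)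
    (hβ : β ∈ Cyc.Zk X δX (p - p))
    (e : (kClass hX hδX φ M).cap p (ChowOps.cl α hα) = ChowOps.cl β hβ) :
    φ (ChowOps.cl α hα) = ChowOps.deg pX δX β := by
  let s := Bivar.OSq.self X δX
  let C := prodS hX hδX s
  haveI : IsProper C.pY := inferInstanceAs (IsProper (𝟙 X ≫ pX))
  haveI : IsProper C.q₁ := MorphismProperty.of_isPullback C.sq.flip ‹IsProper C.pY›
  have cY : Cyc.DeltaCompat C.pY C.δY fun _ => 0 := C.compatY
  have key : (degHom C.pY C.setupY cY (p - p)).comp ((M C).L φ p) = φ.comp (pushHom C.setupP hX C.q₁ C.compatP p) := by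
    refine (M C).hom_ext hX hδX _ _ fun a u hu v hv ζ hζ he => ?_
    rw [AddMonoidHom.comp_apply, AddMonoidHom.comp_apply, (M C).L_cl φ u hu v hv ζ hζ he]
    obtain ⟨D, hD, hDk⟩ := (CycPB.Cy.mk hζ).pushP hX C.setupP C.q₁
    rw [pushHom_cl C.setupP hX C.q₁ C.compatP ζ hζ D hDk
      (CycPB.RZ.zero.eq (funext fun y => by rw [hD, sub_self]))]
    have hD' : ⇑D = fun x => degF C.pY C.δY ⇑v * u x := by
      rw [hD, he, C.push_first hX hδX (CycPB.Cy.mk hu) v hv]
    by_cases ha : a = p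
    · subst ha
      have hDe : D = degF C.pY C.δY ⇑v • u := DFunLike.ext' (hD'.trans (funext fun x => (smul_eq_mul _ _).symm))
      rw [tgt_self, map_zsmul, degHom_cl, Bivar.cl_congr hDe hDk ((ChowOps.zk _ _ _).zsmul_mem hu _),
        cl_zsmul u hu, map_zsmul, smul_eq_mul, smul_eq_mul, deg_eq, mul_comm]
    · rw [tgt_ne φ _ _ ha]
      have hne : degF C.pY C.δY ⇑v = 0 := degF_ne C.pY C.setupY (sub_ne_zero.2 (Ne.symm ha)) (CycPB.Cy.mk hv)
      have hD0 : D = 0 := DFunLike.ext' (hD'.trans (funext fun x => by rw [hne, zero_mul]; rfl))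
      rw [Bivar.cl_congr hD0 hDk ((ChowOps.zk _ _ _).zero_mem), Bivar.cl_zero, map_zero]
      exact map_zero _
  have h1 := DFunLike.congr_fun key (γHom hX hδX s p (ChowOps.cl α hα))
  rw [AddMonoidHom.comp_apply, AddMonoidHom.comp_apply] at h1
  have h2 : pushHom C.setupP hX C.q₁ C.compatP p (γHom hX hδX s p (ChowOps.cl α hα)) = ChowOps.cl α hα := by
    unfold γHom
    rw [pushHom_comp C.setupY C.setupP hX (graph hX hδX s) C.q₁ (𝟙 X) (graph₁ hX hδX s) (graph_compat hX hδX s)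
      C.compatP (Bivar.deltaCompat_id δX) p]
    exact pushHom_cl _ _ _ _ _ _ _ _ (CycPB.RZ.zero.eq (funext fun y =>
      ((sub_eq_zero.2 (CycPB.pushF_closed (𝟙 X) δX ⇑α y)).symm)))
  rw [h2] at h1
  have h3 : (M C).L φ p (γHom hX hδX s p (ChowOps.cl α hα)) = ChowOps.cl β hβ := e
  rw [h3, degHom_cl] at h1
  refine h1.symm.trans ?_
  rw [deg_eq, deg_eq]
  exact congrFun (pushF_hom_eq (Category.id_comp pX) δX (fun _ => (0 : ℤ)) ⇑β) _

include hX hδX in
theorem eq_kClass (c : Bivar.OpCl p X δX)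
    (hc : ∀ (α : AlgebraicCycle X ℤ) (hα : α ∈ Cyc.Zk X δX p) (β : AlgebraicCycle X ℤ)
      (hβ : β ∈ Cyc.Zk X δX (p - p)), c.cap p (ChowOps.cl α hα) = ChowOps.cl β hβ →
      φ (ChowOps.cl α hα) = ChowOps.deg pX δX β) :
    c = kClass hX hδX φ M := by
  refine Bivar.OpCl.ext (funext fun s => funext fun k => ch_hom_ext fun z hz => ?_)
  let C := prodS hX hδX s
  haveI : IsProper C.q₂ := C.proper₂
  have cq : Cyc.DeltaCompat C.q₂ C.δP C.δY := C.compat₂ hδX
  have hψ : (pushHom C.setupP C.setupY C.q₂ cq (k - p)).comp (c.op C.oP k) = (M C).L φ k := by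
    refine (M C).hom_ext hX hδX _ _ fun a u hu v hv ζ hζ he => ?_
    rw [AddMonoidHom.comp_apply, (M C).L_cl φ u hu v hv ζ hζ he]
    obtain ⟨β, hβ, eβ⟩ := Bivar.exists_rep (c.cap a (ChowOps.cl u hu))
    obtain ⟨B, hB, eB⟩ := Bivar.exists_rep (c.op C.oP k (ChowOps.cl ζ hζ))
    have hb : ORel c C.oP (a + (k - a)) (C.ext ⇑u ⇑v) ⇑B := by
      rw [show a + (k - a) = k by ring]
      exact ⟨ζ, hζ, B, hB, he, rfl, eB.symm⟩
    have hz := cap_ext hX hδX c u β hu hβ (ORel.of_cl (q := Bivar.OSq.self X δX) eβ.symm) C v hv hb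
    rw [show a + (k - a) - p = k - p by ring] at hz
    obtain ⟨D, hD, hDk⟩ := cy_deg_smul (l := k - a) pX hX (CycPB.Cy.mk hβ) (CycPB.Cy.mk hv)
    rw [show a + (k - a) - p = k - p by ring] at hDk
    rw [← eB, pushHom_cl C.setupP C.setupY C.q₂ cq B hB D hDk (hD ▸ hz)]
    by_cases ha : a = p
    · subst ha
      have hDe : D = degF pX δX ⇑β • v := DFunLike.ext' (hD.trans (funext fun x => (smul_eq_mul _ _).symm))
      rw [tgt_self, hc u hu β hβ eβ.symm, Bivar.cl_congr hDe hDk ((ChowOps.zk _ _ _).zsmul_mem hv _), cl_zsmul v hv,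
        deg_eq]
    · rw [tgt_ne φ _ _ ha]
      have hne : degF pX δX ⇑β = 0 := degF_ne pX hX (sub_ne_zero.2 ha) (CycPB.Cy.mk hβ)
      have hD0 : D = 0 := DFunLike.ext' (hD.trans (funext fun x => by rw [hne, zero_mul]; rfl))
      rw [Bivar.cl_congr hD0 hDk ((ChowOps.zk _ _ _).zero_mem), Bivar.cl_zero]
      rfl
  obtain ⟨B, hB, e0, e1⟩ := c.push C.oP s (graph hX hδX s) (graph₁ hX hδX s) k z hz
  show c.op s k (ChowOps.cl z hz) = (M C).L φ k (γHom hX hδX s k (ChowOps.cl z hz))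
  rw [← hψ, AddMonoidHom.comp_apply, e0]
  have eg : γHom hX hδX s k (ChowOps.cl z hz) = ChowOps.cl (AlgebraicCycle.map (graph hX hδX s) s.δ C.δP z)
      (Bivar.cycMap_mem_Zk (graph hX hδX s) s.δ C.δP k hz) := pushHom_map _ _ _ _ z hz
  rw [eg, e1]
  refine (pushHom_cl C.setupP C.setupY C.q₂ cq _ _ B hB
    (CycPB.RZ.zero.eq (funext fun y => (sub_eq_zero.2 ?_).symm))).symm
  refine (congrFun (pushF_pushF C.setupY C.setupP C.setupY (graph hX hδX s) C.q₂ (graph_compat hX hδX s) cq B hB) y).trans ?_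
  refine (congrFun (pushF_hom_eq (graph₂ hX hδX s) s.δ s.δ ⇑B) y).trans ?_
  exact CycPB.pushF_closed (𝟙 s.Y) s.δ ⇑B y

end Groth.Agent.BivarOps
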