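import Groth.Agent.BivarOps.Gysin
import Groth.Agent.CycPB.ProjExist
import Groth.Agent.CycPB.SubBundle
import Groth.Agent.CycPB.Filt
import Groth.Agent.CycPB.ChernExt
import Groth.Agent.W7Adic.Embed
import Groth.Agent.KFlat.PullTensor

/-!
Every invertible module is the normal module of a section cut out by a global section.
-/

set_option autoImplicit false
set_option linter.unusedSectionVars false
set_option linter.style.haveILetI false
set_option backward.isDefEq.respectTransparency false
set_option backward.isDefEq.respectTransparency.types false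
set_option maxHeartbeats 1000000

universe u

open CategoryTheory CategoryTheory.Limits AlgebraicGeometry Opposite

noncomputable section

namespace Groth.Agent.BivarOps

variable {X : Scheme.{u}}

theorem isInvertible_one (X : Scheme.{u}) : PicF.IsInvertible (Coh.structureModule X) :=
  PicLoc.isInvertible_structureModule X

/-- the trivial projective bundle -/
theorem isProjBundle_trivial (X : Scheme.{u}) :
    KRR.IsProjBundle (𝟙 X) (Coh.structureModule X) (Coh.structureModule X)
      ((Scheme.Modules.pullbackId X).hom.app (Coh.structureModule X)) := by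
  refine ⟨CurveRR.isFinLocFreeOfRank_one (isInvertible_one X), inferInstance, ?_⟩
  intro T g Lt hLt t ht
  haveI := ht
  haveI : IsIso t := W7Adic.isIso_of_epi_invertible
    (PicLoc.isInvertible_pullback g (isInvertible_one X)) (ZeroSch.isInvertible_of_rankOne hLt) t
  refine ⟨g, ⟨Category.comp_id g, asIso t, ?_⟩, fun h ⟨hh, _⟩ => by rw [← hh, Category.comp_id]⟩
  refine PBundle.ext_sec' g fun U x => ?_
  refine (PBundle.sec'_bc ((Scheme.Modules.pullbackId X).hom.app (Coh.structureModule X)) g t U x).trans ?_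
  exact congrArg (fun y => t.app _ (OmegaSh.pullSect g (Coh.structureModule X) U y))
    (PBundle.pullbackId_hom_pullSect (Coh.structureModule X) U x)

/-- Every invertible module is the restriction of an invertible module to a section which is cut out by a section of
the latter. -/
theorem exists_sectionDiv {L : X.Modules} (hL : PicF.IsInvertible L) :
    ∃ (P : Scheme.{u}) (p : P ⟶ X) (_ : LocallyOfFiniteType p) (i : X ⟶ P) (_ : IsClosedImmersion i)
      (_ : i ≫ p = 𝟙 X) (N : P.Modules) (_ : PicF.IsInvertible N) (σ : Γ(N, (⊤ : P.Opens))),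
      Cyc.IsZeroSchemeOf i N σ ∧ Nonempty ((Scheme.Modules.pullback i).obj N ≅ L) := by
  obtain ⟨B, hB, ⟨θ⟩⟩ := SymAlg.exists_inverse hL
  let S : ShortComplex X.Modules := ShortComplex.mk (biprod.inl : B ⟶ B ⊞ Coh.structureModule X) biprod.snd
    biprod.inl_snd
  have hS : S.ShortExact := (ShortComplex.Splitting.ofHasBinaryBiproduct B (Coh.structureModule X)).shortExact
  have hE : FlatMod.IsFinLocFreeOfRank (1 + 1) (B ⊞ Coh.structureModule X) :=
    CycPB.isFinLocFreeOfRank_middle hS (CurveRR.isFinLocFreeOfRank_one hB)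
      (CurveRR.isFinLocFreeOfRank_one (isInvertible_one X))
  obtain ⟨P, p, O, q, hP, hp, -⟩ := CycPB.exists_projBundle hE
  haveI := hp
  obtain ⟨Z, ι, hι, N, hN, σ, hσ, ⟨qZ, hqZ⟩, ⟨η⟩⟩ := CycPB.exists_subBundle hP hB _ _ biprod.inl_snd hS
  haveI := hι
  obtain ⟨h, hg, e, -⟩ := PBundle.exists_iso hqZ (isProjBundle_trivial X)
  let i : X ⟶ P := h.hom ≫ ι
  have hip : i ≫ p = 𝟙 X := by
    show (h.hom ≫ ι) ≫ p = 𝟙 X
    rw [Category.assoc]
    exact hg
  refine ⟨P, p, inferInstance, i, inferInstance, hip, N, hN, σ, CycK0.isZeroSchemeOf_iso h hσ, ?_⟩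
  let Ni := (Scheme.Modules.pullback i).obj N
  let eB : (Scheme.Modules.pullback i).obj ((Scheme.Modules.pullback p).obj B) ≅ B :=
    (Scheme.Modules.pullbackComp i p).app B ≪≫ (Scheme.Modules.pullbackCongr hip).app B ≪≫
      (Scheme.Modules.pullbackId X).app B
  let eO : (Scheme.Modules.pullback i).obj O ≅ Coh.structureModule X :=
    ((Scheme.Modules.pullbackComp h.hom ι).app O).symm ≪≫ e
  let e1 : CohB1.tensorMod Ni B ≅ Coh.structureModule X :=
    PicGrp.tensorModIso (Iso.refl Ni) eB.symm ≪≫ (KFlat.pullTensorIso i N ((Scheme.Modules.pullback p).obj B)) ≪≫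
      (Scheme.Modules.pullback i).mapIso η ≪≫ eO
  exact ⟨(SecTwist.unitorR Ni).symm ≪≫ PicGrp.tensorModIso (Iso.refl Ni) θ.symm ≪≫
    PicGrp.tensorModIso (Iso.refl Ni) (TMul.commIso L B) ≪≫ (TMul.assocIso Ni B L).symm ≪≫
      PicGrp.tensorModIso e1 (Iso.refl L) ≪≫ TMul.commIso _ L ≪≫ SecTwist.unitorR L⟩

end Groth.Agent.BivarOps
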