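import Groth.Agent.BivarOps.SubBundleRel
import Groth.Agent.BivarOps.SectionDiv
import Groth.Agent.PicPn.Main
import Groth.Agent.ThetaLib.Frame
import Groth.Agent.RefStalk.RankOne
import Groth.Agent.CycPB.HomInv

/-!
A projective line bundle with a section, and an open neighbourhood of the section on which the twisted normal
module is trivial.
-/

set_option autoImplicit false
set_option linter.unusedSectionVars false
set_option linter.style.haveILetI false
set_option backward.isDefEq.respectTransparency false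
set_option backward.isDefEq.respectTransparency.types false
set_option maxHeartbeats 1000000

universe u

open CategoryTheory CategoryTheory.Limits AlgebraicGeometry TopologicalSpace Opposite
open Groth.Agent.WeakAssLib (mgerm)

noncomputable section

namespace Groth.Agent.BivarOps

variable {X : Scheme.{u}}

/-- the image of a generator of a line bundle under a pulled back surjection onto one is a generator -/
theorem isGen_epi {Z : Scheme.{u}} (g : Z ⟶ X) {O : Z.Modules} (hO : PicF.IsInvertible O)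
    (q : (Scheme.Modules.pullback g).obj (Coh.structureModule X) ⟶ O) [Epi q] :
    TMul.IsGen (N := O) (U := g ⁻¹ᵁ ⊤)
      (PBundle.sec' g q ⊤ (show Γ(Coh.structureModule X, ⊤) from (1 : Γ(X, ⊤)))) := by
  haveI := W7Adic.isIso_of_epi_invertible (PicLoc.isInvertible_pullback g (isInvertible_one X)) hO q
  exact MeroLib.IsGen.map_iso q (CycSec.isGen_pe g (ThetaLib.isGen_one X ⊤))

/-- A projective line bundle with a section cut out by a section of `N`, and an open neighbourhood of the section on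
which `N ⊗ L` is trivial. -/
theorem exists_lineData {L : X.Modules} (hL : PicF.IsInvertible L) :
    ∃ (P : Scheme.{u}) (p : P ⟶ X) (_ : IsProper p) (E : X.Modules) (O : P.Modules)
      (q : (Scheme.Modules.pullback p).obj E ⟶ O) (_ : KRR.IsProjBundle p E O q)
      (_ : FlatMod.IsFinLocFreeOfRank (1 + 1) E) (z : X ⟶ P) (_ : IsClosedImmersion z) (_ : z ≫ p = 𝟙 X)
      (N : P.Modules) (_ : PicF.IsInvertible N) (ξ : Γ(N, (⊤ : P.Opens))) (W : P.Opens),
      Cyc.IsZeroSchemeOf z N ξ ∧ Set.range z ⊆ (W : Set P) ∧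
      Nonempty ((Scheme.Modules.pullback W.ι).obj (CohB1.tensorMod N ((Scheme.Modules.pullback p).obj L)) ≅
        Coh.structureModule (↑W : Scheme.{u})) := by
  let S : ShortComplex X.Modules := ShortComplex.mk (biprod.inl : L ⟶ L ⊞ Coh.structureModule X) biprod.snd
    biprod.inl_snd
  have hS : S.ShortExact := (ShortComplex.Splitting.ofHasBinaryBiproduct L (Coh.structureModule X)).shortExact
  have hE : FlatMod.IsFinLocFreeOfRank (1 + 1) (L ⊞ Coh.structureModule X) :=
    CycPB.isFinLocFreeOfRank_middle hS (CurveRR.isFinLocFreeOfRank_one hL)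
      (CurveRR.isFinLocFreeOfRank_one (isInvertible_one X))
  obtain ⟨P, p, O, q, hP, hp, -⟩ := CycPB.exists_projBundle hE
  haveI := hp
  obtain ⟨Z, ι, hι, N, hN, σ, hσ, ⟨qZ, hqZ, hrel⟩, ⟨η⟩⟩ := exists_subBundle_rel hP hL _ _ biprod.inl_snd hS
  haveI := hι
  obtain ⟨h, hg, -, -⟩ := PBundle.exists_iso hqZ (isProjBundle_trivial X)
  have hiz : (h.hom ≫ ι) ≫ p = 𝟙 X := by
    rw [Category.assoc]
    exact hg
  have hO := PBundle.isInvertible hP
  let one : Γ(Coh.structureModule X, (⊤ : X.Opens)) := (show Γ(Coh.structureModule X, ⊤) from (1 : Γ(X, ⊤)))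
  let e : Γ(O, (⊤ : P.Opens)) :=
    PBundle.sec' p q ⊤ ((biprod.inr : Coh.structureModule X ⟶ L ⊞ Coh.structureModule X).app ⊤ one)
  let I := PicF2.zeroScheme O (TMul.homOf e)
  let W : P.Opens := ⟨(Set.range I.subschemeι)ᶜ, I.subschemeι.isClosedEmbedding.isClosed_range.isOpen_compl⟩
  have hI := CycPB.isZeroSchemeOf_zeroScheme hO e
  have hW : ∀ x, x ∈ W ↔ (Submodule.Quotient.mk (mgerm O (show x ∈ (⊤ : P.Opens) from trivial) e) :
      Cyc.secFibre O x) ≠ 0 := fun x => by
    show x ∈ (Set.range I.subschemeι)ᶜ ↔ _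
    rw [Set.mem_compl_iff, hI.1]
    rfl
  have hgen : TMul.IsGen (N := (Scheme.Modules.pullback ι).obj O) (U := ι ⁻¹ᵁ (p ⁻¹ᵁ ⊤))
      (OmegaSh.pullSect ι O (p ⁻¹ᵁ ⊤) e) := by
    haveI := hqZ.epi
    have h1 := isGen_epi (ι ≫ p) (PicLoc.isInvertible_pullback ι hO) qZ
    have h2 := hrel ⊤ ((biprod.inr : Coh.structureModule X ⟶ L ⊞ Coh.structureModule X).app ⊤ one)
    rw [show (biprod.snd : L ⊞ Coh.structureModule X ⟶ Coh.structureModule X).app ⊤
      ((biprod.inr : Coh.structureModule X ⟶ L ⊞ Coh.structureModule X).app ⊤ one) = one from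
        RegKos.app_snd_inr one] at h2
    exact h2 ▸ h1
  have hZW : ∀ z : Z, ι z ∈ W := fun z hz => by
    obtain ⟨A, g, hxA, hg, c, hc⟩ := CycK0.exists_coefficient hO e (ι z)
    have h1 : ¬ IsUnit c := fun hu => C1Cap.mk_gen_ne_zero hg hxA hu (by
      rw [← hc]
      exact Set.ext_iff.1 hI.1 (ι z) |>.1 hz)
    refine h1 ((isUnit_map_iff (ι.stalkMap z).hom c).1 ?_)
    have hz' : z ∈ ι ⁻¹ᵁ A := hxA
    have h2 : mgerm ((Scheme.Modules.pullback ι).obj O) (show z ∈ ι ⁻¹ᵁ (p ⁻¹ᵁ ⊤) from trivial)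
        (OmegaSh.pullSect ι O (p ⁻¹ᵁ ⊤) e) =
        (ι.stalkMap z).hom c • mgerm ((Scheme.Modules.pullback ι).obj O) hz' (CycSec.pe ι g) := by
      refine (KFlat.kap_germ ι z O ⊤ (show ι z ∈ (⊤ : P.Opens) from trivial) e).symm.trans ?_
      refine (congrArg (KFlat.kap ι z O) hc).trans ((KFlat.kap_smul ι z O c _).trans ?_)
      exact congrArg (_ • ·) (KFlat.kap_germ ι z O A hxA g)
    by_contra hu
    refine C1Cap.mk_gen_ne_zero hgen (show z ∈ ι ⁻¹ᵁ (p ⁻¹ᵁ ⊤) from trivial) (φ := 1) isUnit_one ?_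
    rw [one_smul]
    exact (congrArg _ h2).trans ((Submodule.Quotient.mk_eq_zero _).2 (Submodule.smul_mem_smul
      ((IsLocalRing.mem_maximalIdeal _).2 hu) Submodule.mem_top))
  have htriv : Nonempty ((Scheme.Modules.pullback W.ι).obj O ≅ Coh.structureModule (↑W : Scheme.{u})) := by
    have hg : TMul.IsGen (CycSec.pe W.ι (A := ⊤) e) := by
      refine RefStalk.isGen_of_stalk fun x hx => ?_
      obtain ⟨A, g, hxA, hg, c, hc⟩ := CycK0.exists_coefficient hO e (W.ι x)
      have hu : IsUnit c := CycK0.isUnit_of_notMem hI (show W.ι x ∉ Set.range I.subschemeι from x.2) hxA hc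
      have h2 : mgerm ((Scheme.Modules.pullback W.ι).obj O) hx (CycSec.pe W.ι (A := ⊤) e) =
          (W.ι.stalkMap x).hom c • mgerm ((Scheme.Modules.pullback W.ι).obj O) (show x ∈ W.ι ⁻¹ᵁ A from hxA)
            (CycSec.pe W.ι g) := by
        refine (KFlat.kap_germ W.ι x O ⊤ (show W.ι x ∈ (⊤ : P.Opens) from trivial) e).symm.trans ?_
        refine (congrArg (KFlat.kap W.ι x O) hc).trans ((KFlat.kap_smul W.ι x O c _).trans ?_)
        exact congrArg (_ • ·) (KFlat.kap_germ W.ι x O A hxA g)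
      obtain ⟨v, hv⟩ := hu.map (W.ι.stalkMap x).hom
      have hb := RefDiv.bijective_germ_of_isGen (CycSec.isGen_pe W.ι hg) (show x ∈ W.ι ⁻¹ᵁ A from hxA)
      rw [h2, ← hv]
      have hmul : Function.Bijective fun a : (↑W : Scheme.{u}).presheaf.stalk x => a * (v : _) :=
        ⟨v.isUnit.mul_left_injective, fun y => ⟨y * ↑v⁻¹, by simp [mul_assoc]⟩⟩
      simpa only [Function.comp_def, smul_smul] using hb.comp hmul
    haveI := PicPn.isIso_homOf hg
    exact ⟨(asIso (TMul.homOf (CycSec.pe W.ι (A := ⊤) e))).symm⟩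
  obtain ⟨θ⟩ := htriv
  refine ⟨P, p, hp, L ⊞ Coh.structureModule X, O, q, hP, hE, h.hom ≫ ι, inferInstance, hiz, N, hN, σ, W,
    CycK0.isZeroSchemeOf_iso h hσ, ?_, ⟨(Scheme.Modules.pullback W.ι).mapIso η ≪≫ θ⟩⟩
  rintro _ ⟨x, rfl⟩
  exact hZW (h.hom x)

end Groth.Agent.BivarOps
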