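import Groth.Agent.BivarOps.P1Inter
import Groth.Agent.CycDim.PushPull

/-!
The pullback of a point to the projective line over a variety.
-/

set_option autoImplicit false
set_option linter.style.haveILetI false
set_option backward.isDefEq.respectTransparency false

universe u

open CategoryTheory CategoryTheory.Limits AlgebraicGeometry

namespace Groth.Agent.BivarOps

variable {X : Scheme.{u}}

/-- The pullback of a point to the line is the generic point of its fibre. -/
theorem pullFun_point_line [IsLocallyNoetherian X] {δ : X → ℤ} {δP : ↥(CohB1.ProjSpaceOver 1 X) → ℤ}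
    (hP : Cyc.DeltaCompat (CohB1.ProjSpaceOver.toBase 1 X) δP δ) {v : X} {u : ↥(CohB1.ProjSpaceOver 1 X)}
    (hu : CohB1.ProjSpaceOver.toBase 1 X u = v) (hd : δP u = δ v + 1) :
    Cyc.pullFun (CohB1.ProjSpaceOver.toBase 1 X) δP δ 1 (Set.indicator {v} 1) = Set.indicator {u} 1 := by
  classical
  let π := CohB1.ProjSpaceOver.toBase 1 X
  obtain ⟨φ, -, -⟩ := CycPB.hasPnFibres_of_isProjBundle (PBundle.isProjBundle_free 1 X)
    (isFinLocFreeOfRank_free (1 + 1)) v
  haveI := Horrocks.isIntegral_projSpace (k := X.residueField v) (n := 1)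
  haveI : Nonempty ↥(π.fiber v) := ⟨φ.hom (Classical.arbitrary _)⟩
  haveI : IsIntegral (π.fiber v) := isIntegral_of_isOpenImmersion φ.inv
  have hgen : ∀ z, π z = v → δP z = δ v + 1 → π.fiberι v (genericPoint ↥(π.fiber v)) = z := by
    intro z hz hdz
    have hmax := (CycDim.delta_le π hP hasRelDim_line z).2.1 (by
      rw [show (CohB1.ProjSpaceOver.toBase 1 X) z = v from hz]; exact hdz)
    obtain ⟨t, rfl⟩ : z ∈ Set.range (π.fiberι v) := by
      rw [Scheme.Hom.range_fiberι]; exact hz
    have hg : π (π.fiberι v (genericPoint ↥(π.fiber v))) = v := by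
      have : π.fiberι v (genericPoint ↥(π.fiber v)) ∈ Set.range (π.fiberι v) := ⟨_, rfl⟩
      rw [Scheme.Hom.range_fiberι] at this
      exact this
    exact hmax _ (hg.trans hz.symm) ((genericPoint_specializes t).map (π.fiberι v).continuous)
  funext z
  rw [Cyc.pullFun]
  by_cases hz : z = u
  · subst hz
    rw [if_pos (by rw [hu]; exact hd), Set.indicator_of_mem (Set.mem_singleton _),
      Set.indicator_of_mem (show (CohB1.ProjSpaceOver.toBase 1 X) z ∈ ({v} : Set X) from hu)]
    have h1 := CycFin.length_fibre_stalk π (genericPoint ↥(π.fiber v))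
    rw [hgen z hu hd] at h1
    have h2 : Module.length ((π.fiber v).functionField) ((π.fiber v).functionField) = 1 := by
      rw [Module.length_eq_one_iff]
      exact isSimpleModule_iff _ _ |>.2 inferInstance
    show (1 : ℤ) * ((CycFin.fibLen π z).toNat : ℤ) = 1
    rw [← h1, show Module.length ((π.fiber v).presheaf.stalk (genericPoint ↥(π.fiber v)))
      ((π.fiber v).presheaf.stalk (genericPoint ↥(π.fiber v))) = 1 from h2]
    rfl
  · rw [Set.indicator_of_notMem (show z ∉ ({u} : Set _) from hz)]
    split_ifs with hdz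
    · by_cases hzv : (CohB1.ProjSpaceOver.toBase 1 X) z = v
      · exact absurd ((hgen z hzv (by rw [hdz, hzv])).symm.trans (hgen u hu hd)) hz
      · rw [Set.indicator_of_notMem (show (CohB1.ProjSpaceOver.toBase 1 X) z ∉ ({v} : Set X) from hzv), zero_mul]
    · rfl

end Groth.Agent.BivarOps
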