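import Groth.Agent.BivarOps.InterAssocLocal
import Groth.Agent.BivarOps.InterBilin
import Groth.Agent.P1Div.Fibres
import Groth.Agent.CycDim.Div
import Groth.Agent.CycPB.BundleSmooth
import Groth.Agent.DerPerf.Local

/-!
The projective line over a variety as an ambient space for intersection products.
-/

set_option autoImplicit false
set_option linter.style.haveILetI false
set_option backward.isDefEq.respectTransparency false

universe u

open CategoryTheory CategoryTheory.Limits AlgebraicGeometry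
open Groth.Agent.CDivNormal (genPrime mem_genPrime exists_genPrime_eq specializes_of_le)

namespace Groth.Agent.BivarOps

variable {X : Scheme.{u}}

theorem isFinLocFreeOfRank_free (n : ℕ) : FlatMod.IsFinLocFreeOfRank n (FlatMod.freeMod X n) := fun _ =>
  ⟨⊤, trivial, ⟨(Scheme.Modules.restrictFunctorIsoPullback (⊤ : X.Opens).ι).app _ ≪≫ DerPerf.pullFreeIso _ n⟩⟩

theorem isIntegral_line [IsIntegral X] : IsIntegral (CohB1.ProjSpaceOver 1 X) :=
  CycPB.isIntegral_of_isProjBundle (PBundle.isProjBundle_free 1 X) (isFinLocFreeOfRank_free (1 + 1))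

theorem hasRelDim_line : Cyc.HasRelDim (CohB1.ProjSpaceOver.toBase 1 X) 1 :=
  CycPB.hasRelDim_of_hasPnFibres
    (CycPB.hasPnFibres_of_isProjBundle (PBundle.isProjBundle_free 1 X) (isFinLocFreeOfRank_free (1 + 1)))

theorem delta_generic_line [IsLocallyNoetherian X] [IsIntegral X] [IsIntegral (CohB1.ProjSpaceOver 1 X)] {δ : X → ℤ}
    {δP : ↥(CohB1.ProjSpaceOver 1 X) → ℤ} (hP : Cyc.DeltaCompat (CohB1.ProjSpaceOver.toBase 1 X) δP δ) :
    δP (genericPoint ↥(CohB1.ProjSpaceOver 1 X)) = δ (genericPoint X) + 1 := by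
  have hπ : CohB1.ProjSpaceOver.toBase 1 X (genericPoint ↥(CohB1.ProjSpaceOver 1 X)) = genericPoint X := by
    have h := (genericPoint_specializes (P1.sect X 0 (genericPoint X))).map (CohB1.ProjSpaceOver.toBase 1 X).continuous
    rw [← Scheme.Hom.comp_apply, P1Div.sect_toBase] at h
    exact (h.antisymm (genericPoint_specializes _)).eq
  have h := (CycDim.delta_le (CohB1.ProjSpaceOver.toBase 1 X) hP hasRelDim_line
    (genericPoint ↥(CohB1.ProjSpaceOver 1 X))).2.2 fun w _ hw => (hw.antisymm (genericPoint_specializes w)).eq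
  rw [h, hπ]
  rfl

/-- A subvariety not inside a section meets it in points of dimension one less. -/
theorem exists_top_sect [IsLocallyNoetherian X] {δ : X → ℤ} {δP : ↥(CohB1.ProjSpaceOver 1 X) → ℤ}
    (hD : Cyc.IsDimFun _ δP) (hP : Cyc.DeltaCompat (CohB1.ProjSpaceOver.toBase 1 X) δP δ) (i : Fin (1 + 1))
    {η : ↥(CohB1.ProjSpaceOver 1 X)} {x : X} (h : η ⤳ P1.sect X i x) :
    ∃ y : X, y ⤳ x ∧ η ⤳ P1.sect X i y ∧ δP η ≤ δ y + 1 := by
  haveI := P1Div.isLocallyNoetherian_over (X := X)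
  let A := (CohB1.ProjSpaceOver 1 X).presheaf.stalk (P1.sect X i x)
  let t : A := P1Div.tStk i _ (P1Div.mem_dom_sect i x)
  have hle : genPrime h ⊔ Ideal.span {t} ≤ IsLocalRing.maximalIdeal A :=
    sup_le (IsLocalRing.le_maximalIdeal (Ideal.IsPrime.ne_top inferInstance))
      ((Ideal.span_singleton_le_iff_mem _).2 (P1Div.not_isUnit_tStk_sect i x))
  obtain ⟨Q, hQ, -⟩ := Ideal.exists_minimalPrimes_le hle
  haveI : Q.IsPrime := hQ.1.1
  obtain ⟨z, hz, hzQ⟩ := exists_genPrime_eq (P1.sect X i x) Q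
  have hηz : η ⤳ z := specializes_of_le h hz (hzQ ▸ le_sup_left.trans hQ.1.2)
  have hzd : z ∈ P1Div.dom X i := hz.mem_open (P1Div.dom X i).2 (P1Div.mem_dom_sect i x)
  have hzr : z ∈ Set.range (P1.sect X i) := by
    refine P1Div.mem_range_sect i z hzd fun hu => ?_
    have htz : t ∈ genPrime hz := hzQ ▸ hQ.1.2 (Ideal.mem_sup_right (Ideal.mem_span_singleton_self t))
    rw [mem_genPrime] at htz
    refine htz ?_
    show IsUnit (((CohB1.ProjSpaceOver 1 X).presheaf.stalkSpecializes hz).hom t)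
    rw [P1Div.spz_tStk]
    exact hu
  obtain ⟨y, rfl⟩ := hzr
  refine ⟨y, ?_, hηz, ?_⟩
  · have := hz.map (CohB1.ProjSpaceOver.toBase 1 X).continuous
    rwa [← Scheme.Hom.comp_apply, ← Scheme.Hom.comp_apply, P1Div.sect_toBase] at this
  rw [← P1Div.delta_sect hP i y]
  let B := (CohB1.ProjSpaceOver 1 X).presheaf.stalk (P1.sect X i y)
  let s : B := ((CohB1.ProjSpaceOver 1 X).presheaf.stalkSpecializes hz).hom t
  have hmin : IsLocalRing.maximalIdeal (B ⧸ genPrime hηz) ∈
      (Ideal.span {Ideal.Quotient.mk (genPrime hηz) s}).minimalPrimes := by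
    haveI : Nontrivial (B ⧸ genPrime hηz) := Ideal.Quotient.nontrivial_iff.2 (Ideal.IsPrime.ne_top inferInstance)
    refine ⟨⟨inferInstance, (Ideal.span_singleton_le_iff_mem _).2 ?_⟩, fun L hL hLm => ?_⟩
    · intro hu
      obtain ⟨c, hc⟩ := isUnit_iff_exists_inv.1 hu
      obtain ⟨c, rfl⟩ := Ideal.Quotient.mk_surjective c
      rw [← map_mul, ← map_one (Ideal.Quotient.mk (genPrime hηz)), Ideal.Quotient.eq] at hc
      have hs : s * c ∈ IsLocalRing.maximalIdeal B := Ideal.mul_mem_right _ _ (by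
        show ¬ IsUnit _
        rw [show s = _ from P1Div.spz_tStk i hz (P1Div.mem_dom_sect i x)]
        exact P1Div.not_isUnit_tStk_sect i y)
      have h1 := sub_mem hs (IsLocalRing.le_maximalIdeal (Ideal.IsPrime.ne_top inferInstance) hc)
      rw [sub_sub_cancel] at h1
      exact h1 isUnit_one
    · haveI := hL.1
      intro b _
      obtain ⟨b, rfl⟩ := Ideal.Quotient.mk_surjective b
      obtain ⟨z', hz', hz'L⟩ := exists_genPrime_eq (P1.sect X i y) (L.comap (Ideal.Quotient.mk (genPrime hηz)))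
      have h2 : genPrime (hz'.trans hz) = Q := by
        refine le_antisymm (hzQ ▸ CDivNormal.genPrime_mono hz' hz) (hQ.2 ⟨inferInstance, sup_le ?_ ?_⟩
          (hzQ ▸ CDivNormal.genPrime_mono hz' hz))
        · exact CDivNormal.genPrime_mono (specializes_of_le hηz hz' (hz'L ▸ fun a ha => by
            rw [Ideal.mem_comap, Ideal.Quotient.eq_zero_iff_mem.2 ha]; exact L.zero_mem)) (hz'.trans hz)
        · refine (Ideal.span_singleton_le_iff_mem _).2 ?_
          have hs' : s ∈ genPrime hz' := hz'L ▸ hL.2 (Ideal.mem_span_singleton_self _)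
          rw [mem_genPrime] at hs' ⊢
          rwa [← TopCat.Presheaf.stalkSpecializes_comp_apply _ hz' hz] at *
      have hzz : z' = P1.sect X i y := (hz'.antisymm (specializes_of_le hz (hz'.trans hz) (h2.trans hzQ.symm).ge)).eq
      subst hzz
      rw [CycDim.genPrime_rfl] at hz'L
      rw [← Ideal.mem_comap, ← hz'L]
      intro hu
      exact (by assumption : Ideal.Quotient.mk (genPrime hηz) b ∈ IsLocalRing.maximalIdeal _) (hu.map _)
  have hht := Ideal.height_le_one_of_isPrincipal_of_mem_minimalPrimes _ _ hmin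
  obtain ⟨hdim, hge⟩ := dim_quot_genPrime hD hηz
  rw [← IsLocalRing.maximalIdeal_height_eq_ringKrullDim] at hdim
  have h1 : (((δP η - δP (P1.sect X i y)).toNat : ℕ∞)) ≤ 1 := by
    have : (IsLocalRing.maximalIdeal (B ⧸ genPrime hηz)).height = ((δP η - δP (P1.sect X i y)).toNat : ℕ∞) := by
      exact_mod_cast hdim
    exact this ▸ hht
  have h2 : (δP η - δP (P1.sect X i y)).toNat ≤ 1 := by exact_mod_cast h1
  omega

/-- A function supported on maximal points of a closed set is finite on affine opens. -/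
theorem finite_of_maximal [IsLocallyNoetherian X] {δ : X → ℤ} (hδ : Cyc.IsDimFun X δ) {Z : Set X} (hZ : IsClosed Z)
    (F : X → ℤ) (hF : ∀ x, F x ≠ 0 → x ∈ Z ∧ ∀ y ∈ Z, y ⤳ x → δ y ≤ δ x) {U : X.Opens} (hU : IsAffineOpen U) :
    {x : X | x ∈ U ∧ F x ≠ 0}.Finite :=
  (CycDiv.finite_maximal hZ hU).subset fun x hx => ⟨hx.1, (hF x hx.2).1, fun y hy hyx =>
    CycDim.eq_of_delta_le hδ hyx ((hF x hx.2).2 y hy hyx)⟩

/-- The product only sees the first factor at points specialising to the point. -/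
theorem interProd_congr_left {δ : X → ℤ} {n : ℤ} {a a' b : X → ℤ} {ζ : X} (h : ∀ ξ, ξ ⤳ ζ → a ξ = a' ξ) :
    IntMult.interProd δ n a b ζ = IntMult.interProd δ n a' b ζ :=
  finsum_congr fun p => by rw [h _ p.2.1]

end Groth.Agent.BivarOps
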