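import Groth.Agent.BivarOps.ProdMaps

/-!
Push forward of exterior products to a factor.
-/

set_option autoImplicit false
set_option linter.unusedSectionVars false
set_option linter.unusedVariables false
set_option linter.style.haveILetI false
set_option backward.isDefEq.respectTransparency false
set_option backward.isDefEq.respectTransparency.types false
set_option maxHeartbeats 1000000

universe u

open CategoryTheory CategoryTheory.Limits AlgebraicGeometry Opposite
open Groth.Agent.CycPB (Cy RZ pushF ptF)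
open Groth.Agent.EquidimPt (IsFibMax)

noncomputable section

namespace Groth.Agent.BivarOps

variable {K : Type u} [Field K]

theorem pt_spec (z : ↥(Spec (CommRingCat.of K))) : z = IsLocalRing.closedPoint K := by
  haveI : Subsingleton (Spec (CommRingCat.of K)) := inferInstanceAs (Subsingleton (PrimeSpectrum K))
  exact Subsingleton.elim _ _

/-- the degree of a coefficient function -/
def degF {Z : Scheme.{u}} (p : Z ⟶ Spec (CommRingCat.of K)) [IsProper p] (δ : Z → ℤ) (a : Z → ℤ) : ℤ :=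
  pushF p δ (fun _ => (0 : ℤ)) a (IsLocalRing.closedPoint K)

theorem deg_eq {Z : Scheme.{u}} (p : Z ⟶ Spec (CommRingCat.of K)) [IsProper p] (δ : Z → ℤ) (A : AlgebraicCycle Z ℤ) :
    ChowOps.deg p δ A = degF p δ ⇑A := rfl

theorem degF_rz {Z : Scheme.{u}} (p : Z ⟶ Spec (CommRingCat.of K)) [IsProper p] {δ : Z → ℤ} (hZ : Cyc.IsSetup Z δ)
    (hS : Cyc.IsSetup (Spec (CommRingCat.of K)) fun _ => (0 : ℤ))
    (hδ : Cyc.DeltaCompat p δ fun _ => 0) {k : ℤ} {a : Z → ℤ} (ha : RZ δ k a) : degF p δ a = 0 := by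
  obtain ⟨A, hA, hAk, ι, ξ, f, h1, -, -, h5⟩ := ha.push p hS hZ hδ
  show pushF p δ _ a _ = 0
  rw [← hA]
  by_cases hk : k = 0
  · rw [h5]
    refine finsum_eq_zero_of_forall_eq_zero fun i => absurd (h1 i) (show ¬ (0 : ℤ) = k + 1 by omega)
  · exact hAk _ fun h => hk h.symm

/-- push forward to an integral factor -/
theorem push_piece_deg {U W Z : Scheme.{u}} [AlgebraicGeometry.IsIntegral U] {pU : U ⟶ Spec (.of K)}
    [LocallyOfFiniteType pU] {pZ : Z ⟶ Spec (.of K)} [IsProper pZ] {q : W ⟶ Z} {rV : W ⟶ U} [IsProper rV]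
    (hsq : IsPullback q rV pZ pU) {δU : U → ℤ} {δW : W → ℤ} {δZ : Z → ℤ} (hU : Cyc.IsSetup U δU)
    (hW : Cyc.IsSetup W δW) (hZ : Cyc.IsSetup Z δZ) (cU : Cyc.DeltaCompat pU δU fun _ => 0)
    (cZ : Cyc.DeltaCompat pZ δZ fun _ => 0) (cq : Cyc.DeltaCompat q δW δZ) (cr : Cyc.DeltaCompat rV δW δU) {d : ℕ}
    (hd : δU (genericPoint U) = d) (v : AlgebraicCycle Z ℤ) :
    pushF rV δW δU (Cyc.pullFun q δW δZ d ⇑v) = fun x => degF pZ δZ ⇑v * ptF (genericPoint U) x := by
  classical
  haveI := hU.1; haveI := hW.1; haveI := hZ.1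
  haveI : IsLocallyNoetherian (Spec (CommRingCat.of K)) := inferInstance
  haveI : Flat pU := AlgSpLib.flat_of_field pU
  haveI : LocallyOfFiniteType q := MorphismProperty.of_isPullback hsq.flip ‹LocallyOfFiniteType pU›
  have hgen : ∀ x, IsFibMax pU x → x = genericPoint U := fun x hx =>
    (hx _ ((pt_spec _).trans (pt_spec _).symm) ((genericPoint_spec U).specializes trivial)).symm
  have hrel : Cyc.HasRelDim pU d := CycDim.hasRelDim_of_trdeg _ d fun x hx => by
    obtain rfl := hgen x hx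
    obtain ⟨n, hn, hn'⟩ := cU (genericPoint U)
    have : n = d := by simp only [hd, zero_add] at hn'; exact_mod_cast hn'.symm
    subst this
    exact hn
  funext x
  refine (CycFin.push_pull hsq hU.2.2 hW.2.2 cZ cr (hc_of cU hrel) (hc_of cq ((S9358.result pU pZ rV q hsq.flip d).2.2 hrel)) v x).symm.trans ?_
  show (if δU x = (0 : ℤ) + d then pushF pZ δZ _ ⇑v (pU x) * _ else 0) = _
  rw [CycPB.ptF_apply]
  by_cases hx : x = genericPoint U
  · subst hx
    rw [if_pos (by rw [hd, zero_add]), if_pos rfl]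
    refine congrArg₂ (· * ·) (congrArg (pushF pZ δZ _ ⇑v) (pt_spec _)) ?_
    have hf : IsField (U.presheaf.stalk (genericPoint U)) := (inferInstance : Field U.functionField).toIsField
    have h0 : Ideal.map (pU.stalkMap (genericPoint U)).hom
        (IsLocalRing.maximalIdeal ((Spec (CommRingCat.of K)).presheaf.stalk (pU (genericPoint U)))) = ⊥ := by
      rw [← le_bot_iff, ← IsLocalRing.isField_iff_maximalIdeal_eq.1 hf, Ideal.map_le_iff_le_comap]
      intro m hm hu
      exact hm (isUnit_of_map_unit (pU.stalkMap (genericPoint U)).hom _ hu)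
    show (ENat.toNat (Module.length _ _) : ℤ) = 1
    rw [h0]
    have : Module.length (U.presheaf.stalk (genericPoint U))
        (U.presheaf.stalk (genericPoint U) ⧸ (⊥ : Ideal (U.presheaf.stalk (genericPoint U)))) = 1 := by
      rw [Module.length_eq_one_iff, isSimpleModule_iff_isCoatom, ← Ideal.isMaximal_def,
        ← IsLocalRing.isField_iff_maximalIdeal_eq.1 hf]
      exact IsLocalRing.maximalIdeal.isMaximal _
    rw [this]
    rfl
  · rw [if_neg hx, mul_zero, if_neg]
    intro h
    exact hx (hgen x (((CycDim.delta_le pU cU hrel x).2).1 h))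

variable {X : Scheme.{u}} {pX : X ⟶ Spec (.of K)} {δX : X → ℤ} [IsProper pX] (hX : Cyc.IsSetup X δX)
  (hδX : Cyc.DeltaCompat pX δX fun _ => 0) (C : KProd pX δX)

namespace KProd

include hX hδX in
/-- exterior product with the fundamental cycle of an integral factor -/
theorem ext_generic [AlgebraicGeometry.IsIntegral C.Y] {d : ℕ} (hd : C.δY (genericPoint C.Y) = d) (n : ℤ) (u : X → ℤ) :
    C.ext u (fun y => n * ptF (genericPoint C.Y) y) = fun t => n * Cyc.pullFun C.q₁ C.δP δX d u t := by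
  have h := extF_pt C.q₁ C.q₂ δX C.δY C.δP C.sq hX C.compatY C.compatP
    (j := 𝟙 C.Y) (jW := 𝟙 C.P) (rV := C.q₂)
    (IsPullback.of_vert_isIso ⟨by rw [Category.comp_id, Category.id_comp]⟩) (d := d)
    (by simpa using hd) u
  replace h : extF C.q₁ C.q₂ δX C.δY C.δP u (ptF (genericPoint C.Y)) =
      pushF (𝟙 C.P) (fun z => C.δP ((𝟙 C.P : C.P ⟶ C.P) z)) C.δP
        (Cyc.pullFun C.q₁ (fun z => C.δP ((𝟙 C.P : C.P ⟶ C.P) z)) δX d u) := by
    simpa using h
  rw [KProd.ext, extF_smul_right, h]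
  funext t
  exact congrArg (n * ·) (CycPB.pushF_closed (𝟙 C.P) C.δP (Cyc.pullFun C.q₁ C.δP δX d u) t)

include hX hδX in
theorem push_generic [AlgebraicGeometry.IsIntegral C.Y] [IsProper C.q₂] {d : ℕ} (hd : C.δY (genericPoint C.Y) = d)
    (n : ℤ) (u : AlgebraicCycle X ℤ) :
    pushF C.q₂ C.δP C.δY (C.ext ⇑u fun y => n * ptF (genericPoint C.Y) y) =
      fun y => degF pX δX ⇑u * (n * ptF (genericPoint C.Y) y) := by
  rw [C.ext_generic hX hδX hd, CycPB.pushF_smul,
    push_piece_deg C.sq C.setupY C.setupP hX C.compatY hδX C.compatP (C.compat₂ hδX) hd u]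
  funext y
  ring

include hX hδX in
/-- push forward of an exterior product to the fixed factor -/
theorem push_first [IsProper C.pY] [IsProper C.q₁] {a l : ℤ} {u : X → ℤ} (hu : Cy δX a u) (v : AlgebraicCycle C.Y ℤ)
    (hv : v ∈ Cyc.Zk C.Y C.δY l) :
    pushF C.q₁ C.δP δX (C.ext u ⇑v) = fun x => degF C.pY C.δY ⇑v * u x := by
  haveI : CompactSpace X := QuasiCompact.compactSpace_of_compactSpace pX
  haveI := C.setupY.1
  have hvc : Cy C.δY l ⇑v := CycPB.Cy.mk hv
  refine fin_induct (fun u => pushF C.q₁ C.δP δX (C.ext u ⇑v) = fun x => degF C.pY C.δY ⇑v * u x)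
    ?_ (fun u u' hu hu' h h' => ?_) (fun n z hz => ?_) hu
  · show pushF _ _ _ (extF _ _ _ _ _ _ _) = _
    rw [extF_zero_left, pushF_zero']
    simp
  · show pushF _ _ _ (extF _ _ _ _ _ _ _) = _
    rw [extF_add_left]
    funext y
    rw [CycPB.pushF_addP C.setupP C.q₁ (C.ext_cy hX hδX hu hvc) (C.ext_cy hX hδX hu' hvc), mul_add]
    exact congrArg₂ (· + ·) (congrFun h y) (congrFun h' y)
  · obtain ⟨U, _, j, _, rfl⟩ := exists_integral_sub z
    obtain ⟨d, hd⟩ := exists_dim hδX (j (genericPoint U))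
    haveI : LocallyOfFiniteType (j ≫ pX) := inferInstance
    haveI : IsProper (pullback.fst j C.q₁) := MorphismProperty.of_isPullback (IsPullback.of_hasPullback j C.q₁).flip ‹IsProper C.q₁›
    have hs := CycK0.isSetup_closed (pullback.snd j C.q₁) C.setupP
    have hU := CycK0.isSetup_closed j hX
    have cP := CycPush.deltaCompat_preimmersion (pullback.snd j C.q₁) C.δP
    have cj := CycPush.deltaCompat_preimmersion j δX
    have cr : Cyc.DeltaCompat (pullback.fst j C.q₁) (fun z => C.δP (pullback.snd j C.q₁ z)) (fun x => δX (j x)) :=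
      deltaCompat_of_comp pullback.condition cj (Bivar.deltaCompat_comp _ C.q₁ _ _ _ cP C.compatP)
    obtain ⟨V, hV, hVk⟩ := C.cy_piece hX hδX j hd hvc
    rw [C.ext_pt hX hδX j hd, CycPB.pushF_smul, ← hV]
    funext y
    rw [pushF_pushF hs C.setupP hX _ C.q₁ cP C.compatP V hVk,
      pushF_hom_eq pullback.condition.symm _ _ _, ← pushF_pushF hs hU hX _ j cr cj V hVk, hV,
      push_piece_deg (piece_square C.q₂ C.q₁ C.sq.flip (IsPullback.of_hasPullback j C.q₁)) hU hs C.setupY
        (Bivar.deltaCompat_comp j pX _ _ _ cj hδX) C.compatY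
        (Bivar.deltaCompat_comp _ C.q₂ _ _ _ cP (C.compat₂ hδX)) cr hd v,
      CycPB.pushF_smul, CycPB.pushF_ptF]
    ring

end KProd

end Groth.Agent.BivarOps
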