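import Groth.Agent.BivarOps.ExtProd
import Groth.Agent.BivarOps.BiratVanish
import Groth.Agent.BivarOps.ProperPush
import Groth.Agent.BivarOps.FlatPull
import Groth.Agent.BivarOps.Gysin
import Groth.Agent.CycPB.OpsPush

/-!
Functoriality of exterior products with a proper factor.
-/

set_option autoImplicit false
set_option linter.unusedSectionVars false
set_option linter.unusedVariables false
set_option linter.style.haveILetI false
set_option backward.isDefEq.respectTransparency false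
set_option backward.isDefEq.respectTransparency.types false
set_option maxHeartbeats 1000000

universe u

open CategoryTheory CategoryTheory.Limits AlgebraicGeometry Opposite
open Groth.Agent.CycPB (Cy RZ pushF ptF)
open Groth.Agent.EquidimPt (IsFibMax)

noncomputable section

namespace Groth.Agent.BivarOps

variable {K : Type u} [Field K] {X : Scheme.{u}}

/-- a product with a fixed scheme over a field -/
structure KProd (pX : X ⟶ Spec (.of K)) (δX : X → ℤ) : Type (u + 1) where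
  Y : Scheme.{u}
  P : Scheme.{u}
  pY : Y ⟶ Spec (.of K)
  q₁ : P ⟶ X
  q₂ : P ⟶ Y
  lft : LocallyOfFiniteType pY
  sq : IsPullback q₁ q₂ pX pY
  δY : Y → ℤ
  δP : P → ℤ
  compatY : Cyc.DeltaCompat pY δY fun _ => 0
  compatP : Cyc.DeltaCompat q₁ δP δX
  setupY : Cyc.IsSetup Y δY
  setupP : Cyc.IsSetup P δP

attribute [instance] KProd.lft

/-- a point is generic in an integral closed subscheme -/
theorem exists_integral_sub {Z : Scheme.{u}} (z : Z) : ∃ (V : Scheme.{u}) (_ : AlgebraicGeometry.IsIntegral V)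
    (j : V ⟶ Z) (_ : IsClosedImmersion j), j (genericPoint V) = z := by
  obtain ⟨η, hη⟩ := (FlatFunLib.range_closureSub z).ge (subset_closure (s := {z}) rfl)
  haveI : IsReduced (FlatFunLib.closureSub z).subscheme := DvrDom.isReduced_vanishingIdeal_subscheme _
  haveI : IrreducibleSpace (FlatFunLib.closureSub z).subscheme := by
    haveI : Nonempty (FlatFunLib.closureSub z).subscheme := ⟨η⟩
    haveI : PreirreducibleSpace (FlatFunLib.closureSub z).subscheme := ⟨by
      have h : closure {η} = Set.univ := Set.eq_univ_of_forall fun w =>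
        (closureSub_irreducible z η hη w).mem_closure
      exact h ▸ isIrreducible_singleton.closure.2⟩
    constructor; infer_instance
  haveI hi : AlgebraicGeometry.IsIntegral (FlatFunLib.closureSub z).subscheme :=
    isIntegral_of_irreducibleSpace_of_isReduced _
  refine ⟨_, hi, (FlatFunLib.closureSub z).subschemeι, inferInstance, ?_⟩
  rw [((genericPoint_spec (FlatFunLib.closureSub z).subscheme).specializes trivial).antisymm
    (closureSub_irreducible z η hη _) |>.eq, hη]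

theorem exists_dim {Z : Scheme.{u}} {p : Z ⟶ Spec (.of K)} {δ : Z → ℤ} (h : Cyc.DeltaCompat p δ fun _ => 0) (z : Z) :
    ∃ d : ℕ, δ z = d := by
  obtain ⟨d, -, hd⟩ := h z
  exact ⟨d, by simpa using hd⟩

/-- induction on finitely supported coefficient functions -/
theorem fin_induct [CompactSpace X] {δX : X → ℤ} {a : ℤ} (Q : (X → ℤ) → Prop) (h0 : Q fun _ => 0)
    (hadd : ∀ u u', Cy δX a u → Cy δX a u' → Q u → Q u' → Q fun x => u x + u' x)
    (hpt : ∀ (n : ℤ) (z : X), δX z = a → Q fun x => n * ptF z x) {u : X → ℤ} (hu : Cy δX a u) : Q u := by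
  classical
  obtain ⟨A, rfl, hA⟩ := hu
  have hfin : (Function.support ⇑A).Finite := by
    simpa using A.locallyFiniteSupport.finite_inter_support_of_isCompact (isCompact_univ (X := X))
  have key : ∀ S : Finset X, (∀ z ∈ S, δX z = a) →
      Q (fun x => ∑ z ∈ S, A z * ptF z x) ∧ Cy δX a (fun x => ∑ z ∈ S, A z * ptF z x) := by
    intro S
    induction S using Finset.induction with
    | empty => exact fun _ => ⟨by simpa using h0, by simpa using (CycPB.Cy.zero (δ := δX) (k := a))⟩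
    | insert z S hz ih =>
      intro hS
      obtain ⟨h1, h2⟩ := ih fun w hw => hS w (Finset.mem_insert_of_mem hw)
      have hc : Cy δX a fun x => A z * ptF z x := by
        have := (CycPB.cy_ptF δX z).smul (A z)
        rwa [hS z (Finset.mem_insert_self z S)] at this
      simp only [Finset.sum_insert hz]
      exact ⟨hadd _ _ hc h2 (hpt _ z (hS z (Finset.mem_insert_self z S))) h1, hc.add h2⟩
  have e : ⇑A = fun x => ∑ z ∈ hfin.toFinset, A z * ptF z x := funext fun x => by
    simp only [CycPB.ptF_apply, mul_ite, mul_one, mul_zero, Finset.sum_ite_eq]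
    by_cases hx : x ∈ hfin.toFinset
    · rw [if_pos hx]
    · rw [if_neg hx]
      simpa using hx
  rw [e]
  exact (key _ fun z hz => by_contra fun h => by simpa [hA z h] using hz).1

theorem pullFun_zero' {A B : Scheme.{u}} (f : A ⟶ B) (δA : A → ℤ) (δB : B → ℤ) (r : ℤ) :
    Cyc.pullFun f δA δB r (fun _ => 0) = fun _ => 0 := Bivar.pullFun_zero f δA δB r

theorem pushF_zero' {A B : Scheme.{u}} (f : A ⟶ B) [IsProper f] (δA : A → ℤ) (δB : B → ℤ) :
    pushF f δA δB (fun _ => 0) = fun _ => 0 :=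
  funext fun _ => finsum_mem_of_eqOn_zero fun _ _ => zero_mul _

theorem pushF_hom_eq {A B : Scheme.{u}} {g g' : A ⟶ B} [IsProper g] [IsProper g'] (e : g = g') (δA : A → ℤ) (δB : B → ℤ)
    (a : A → ℤ) : pushF g δA δB a = pushF g' δA δB a := by
  subst e
  rfl

variable {pX : X ⟶ Spec (.of K)} {δX : X → ℤ} [IsProper pX] (hX : Cyc.IsSetup X δX)
  (hδX : Cyc.DeltaCompat pX δX fun _ => 0)

namespace KProd

variable (C : KProd pX δX)

/-- exterior products -/
abbrev ext (u : X → ℤ) (v : C.Y → ℤ) : C.P → ℤ := extF C.q₁ C.q₂ δX C.δY C.δP u v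

include hδX in
theorem compat₂ : Cyc.DeltaCompat C.q₂ C.δP C.δY :=
  deltaCompat_of_comp C.sq.w.symm C.compatY (Bivar.deltaCompat_comp C.q₁ pX _ _ _ C.compatP hδX)

theorem proper₂ : IsProper C.q₂ := MorphismProperty.of_isPullback C.sq ‹_›

theorem lft₁ : LocallyOfFiniteType C.q₁ := MorphismProperty.of_isPullback C.sq.flip C.lft

include hX hδX in
theorem ext_pt {U : Scheme.{u}} [AlgebraicGeometry.IsIntegral U] (j : U ⟶ X) [IsClosedImmersion j] {d : ℕ}
    (hd : δX (j (genericPoint U)) = d) (n : ℤ) (v : C.Y → ℤ) :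
    C.ext (fun x => n * ptF (j (genericPoint U)) x) v = fun t => n *
      pushF (pullback.snd j C.q₁) (fun z => C.δP (pullback.snd j C.q₁ z)) C.δP
        (Cyc.pullFun (pullback.snd j C.q₁ ≫ C.q₂) (fun z => C.δP (pullback.snd j C.q₁ z)) C.δY d v) t := by
  rw [KProd.ext, extF_smul_left, extF_symm C.q₁ C.q₂,
    extF_pt C.q₂ C.q₁ C.δY δX C.δP C.sq.flip C.setupY hδX (C.compat₂ hδX) (IsPullback.of_hasPullback _ _) hd v]

include hX hδX in
theorem cy_piece {U : Scheme.{u}} [AlgebraicGeometry.IsIntegral U] (j : U ⟶ X) [IsClosedImmersion j] {d : ℕ}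
    (hd : δX (j (genericPoint U)) = d) {l : ℤ} {v : C.Y → ℤ} (hv : Cy C.δY l v) :
    Cy (fun z => C.δP (pullback.snd j C.q₁ z)) (l + d)
      (Cyc.pullFun (pullback.snd j C.q₁ ≫ C.q₂) (fun z => C.δP (pullback.snd j C.q₁ z)) C.δY d v) := by
  haveI := C.setupY.1
  haveI := C.proper₂
  exact hv.pullR (CycK0.isSetup_closed _ C.setupP) _
    (Bivar.deltaCompat_comp _ C.q₂ _ _ _ (CycPush.deltaCompat_preimmersion _ C.δP) (C.compat₂ hδX))
    (piece_relDim C.q₂ C.q₁ δX C.sq.flip hδX (IsPullback.of_hasPullback j C.q₁) hd)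

include hX hδX in
/-- exterior products of cycles are cycles -/
theorem ext_cy {a l : ℤ} {u : X → ℤ} (hu : Cy δX a u) {v : C.Y → ℤ} (hv : Cy C.δY l v) :
    Cy C.δP (a + l) (C.ext u v) := by
  haveI : CompactSpace X := QuasiCompact.compactSpace_of_compactSpace pX
  refine fin_induct (fun u => Cy C.δP (a + l) (C.ext u v)) ?_ (fun u u' _ _ h h' => ?_) (fun n z hz => ?_) hu
  · show Cy _ _ (extF _ _ _ _ _ _ _)
    rw [extF_zero_left]
    exact CycPB.Cy.zero
  · show Cy _ _ (extF _ _ _ _ _ _ _)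
    rw [extF_add_left]
    exact h.add h'
  · obtain ⟨U, _, j, _, rfl⟩ := exists_integral_sub z
    obtain ⟨d, hd⟩ := exists_dim hδX (j (genericPoint U))
    show Cy C.δP (a + l) (C.ext _ v)
    rw [C.ext_pt hX hδX j hd n v, show a + l = l + d by omega]
    exact ((C.cy_piece hX hδX j hd hv).pushP C.setupP (CycK0.isSetup_closed _ C.setupP) _).smul n

end KProd

/-- a morphism of products -/
structure KMor (C C' : KProd pX δX) : Type (u + 1) where
  h : C'.Y ⟶ C.Y
  H : C'.P ⟶ C.P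
  wY : h ≫ C.pY = C'.pY
  w₁ : H ≫ C.q₁ = C'.q₁
  w₂ : H ≫ C.q₂ = C'.q₂ ≫ h

namespace KMor

variable {C C' : KProd pX δX} (m : KMor C C')

theorem sq : IsPullback C'.q₂ m.H m.h C.q₂ :=
  IsPullback.of_bot (m.w₁.symm ▸ m.wY.symm ▸ C'.sq.flip) m.w₂.symm C.sq.flip

theorem lft : LocallyOfFiniteType m.h :=
  haveI : LocallyOfFiniteType (m.h ≫ C.pY) := by rw [m.wY]; infer_instance
  locallyOfFiniteType_of_comp m.h C.pY

theorem compat : Cyc.DeltaCompat m.h C'.δY C.δY := deltaCompat_of_comp m.wY C.compatY C'.compatY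

theorem compatH : Cyc.DeltaCompat m.H C'.δP C.δP := deltaCompat_of_comp m.w₁ C.compatP C'.compatP

/-- the map on pieces -/
def piece {U : Scheme.{u}} (j : U ⟶ X) : pullback j C'.q₁ ⟶ pullback j C.q₁ :=
  pullback.lift (pullback.fst _ _) (pullback.snd _ _ ≫ m.H) (by rw [Category.assoc, m.w₁, pullback.condition])

theorem piece_snd {U : Scheme.{u}} (j : U ⟶ X) :
    m.piece j ≫ pullback.snd j C.q₁ = pullback.snd j C'.q₁ ≫ m.H := pullback.lift_snd _ _ _

theorem piece_sq {U : Scheme.{u}} (j : U ⟶ X) :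
    IsPullback (pullback.snd j C'.q₁) (m.piece j) m.H (pullback.snd j C.q₁) :=
  (IsPullback.of_right (h₁₂ := pullback.fst j C.q₁) (v₁₃ := j) (h₂₂ := C.q₁) (h₁₁ := m.piece j)
    (by rw [m.w₁, show m.piece j ≫ pullback.fst j C.q₁ = pullback.fst j C'.q₁ from pullback.lift_fst _ _ _]
        exact IsPullback.of_hasPullback _ _)
    (m.piece_snd j) (IsPullback.of_hasPullback _ _)).flip

theorem piece_sq₂ {U : Scheme.{u}} (j : U ⟶ X) :
    IsPullback (pullback.snd j C'.q₁ ≫ C'.q₂) (m.piece j) m.h (pullback.snd j C.q₁ ≫ C.q₂) :=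
  (m.piece_sq j).paste_horiz m.sq

theorem proper_H [IsProper m.h] : IsProper m.H := MorphismProperty.of_isPullback m.sq ‹_›

theorem flat_H [Flat m.h] : Flat m.H := MorphismProperty.of_isPullback m.sq ‹_›

theorem relDim_H {r : ℕ} (hr : Cyc.HasRelDim m.h r) : Cyc.HasRelDim m.H r :=
  haveI := m.lft
  (S9358.result m.h C.q₂ C'.q₂ m.H m.sq r).2.2 hr

include hX hδX in
/-- exterior products commute with proper push forward -/
theorem ext_push [IsProper m.h] [IsProper m.H] {a l : ℤ} {u : X → ℤ} (hu : Cy δX a u) {v : C'.Y → ℤ}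
    (hv : Cy C'.δY l v) :
    pushF m.H C'.δP C.δP (C'.ext u v) = C.ext u (pushF m.h C'.δY C.δY v) := by
  haveI : CompactSpace X := QuasiCompact.compactSpace_of_compactSpace pX
  haveI := C.setupY.1
  haveI := C'.setupY.1
  refine fin_induct (fun u => pushF m.H C'.δP C.δP (C'.ext u v) = C.ext u (pushF m.h C'.δY C.δY v))
    ?_ (fun u u' hu hu' h h' => ?_) (fun n z hz => ?_) hu
  · show pushF m.H _ _ (extF _ _ _ _ _ _ _) = extF _ _ _ _ _ _ _
    rw [extF_zero_left, extF_zero_left, pushF_zero']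
  · show pushF m.H _ _ (extF _ _ _ _ _ _ _) = extF _ _ _ _ _ _ _
    rw [extF_add_left, extF_add_left]
    funext y
    rw [CycPB.pushF_addP C'.setupP m.H (C'.ext_cy hX hδX hu hv) (C'.ext_cy hX hδX hu' hv)]
    exact congrArg₂ (· + ·) (congrFun h y) (congrFun h' y)
  · obtain ⟨U, _, j, _, rfl⟩ := exists_integral_sub z
    obtain ⟨d, hd⟩ := exists_dim hδX (j (genericPoint U))
    rw [C.ext_pt hX hδX j hd, C'.ext_pt hX hδX j hd, CycPB.pushF_smul]
    funext y
    refine congrArg (n * ·) ?_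
    haveI : IsProper (m.piece j) := MorphismProperty.of_isPullback (m.piece_sq₂ j) ‹IsProper m.h›
    haveI := C.lft₁; haveI := C'.lft₁
    haveI := C.proper₂; haveI := C'.proper₂
    have hs := CycK0.isSetup_closed (pullback.snd j C.q₁) C.setupP
    have hs' := CycK0.isSetup_closed (pullback.snd j C'.q₁) C'.setupP
    haveI := C.setupP.1; haveI := C'.setupP.1
    haveI := hs.1; haveI := hs'.1
    haveI := piece_flat (K := K) C.q₂ C.q₁ C.sq.flip (IsPullback.of_hasPullback j C.q₁)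
    have cP := CycPush.deltaCompat_preimmersion (pullback.snd j C.q₁) C.δP
    have cP' := CycPush.deltaCompat_preimmersion (pullback.snd j C'.q₁) C'.δP
    have hd1 := Bivar.deltaCompat_comp _ C.q₂ _ _ _ cP (C.compat₂ hδX)
    have hd2 := Bivar.deltaCompat_comp _ C'.q₂ _ _ _ cP' (C'.compat₂ hδX)
    have hpiece : Cyc.DeltaCompat (m.piece j) (fun z => C'.δP (pullback.snd j C'.q₁ z))
        (fun z => C.δP (pullback.snd j C.q₁ z)) :=
      deltaCompat_of_comp (m.piece_snd j) cP (Bivar.deltaCompat_comp _ m.H _ _ _ cP' m.compatH)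
    obtain ⟨V, hV, hVk⟩ := C'.cy_piece hX hδX j hd hv
    obtain ⟨v', rfl, hv'⟩ := hv
    have e2 : Cyc.pullFun (pullback.snd j C.q₁ ≫ C.q₂) (fun z => C.δP (pullback.snd j C.q₁ z)) C.δY d
        (pushF m.h C'.δY C.δY ⇑v') = pushF (m.piece j) (fun z => C'.δP (pullback.snd j C'.q₁ z))
          (fun z => C.δP (pullback.snd j C.q₁ z))
          (Cyc.pullFun (pullback.snd j C'.q₁ ≫ C'.q₂) (fun z => C'.δP (pullback.snd j C'.q₁ z)) C'.δY d ⇑v') :=
      funext fun x' => CycFin.push_pull (m.piece_sq₂ j) hs.2.2 hs'.2.2 m.compat hpiece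
        (hc_of hd1 (piece_relDim C.q₂ C.q₁ δX C.sq.flip hδX (IsPullback.of_hasPullback j C.q₁) hd))
        (hc_of hd2 (piece_relDim C'.q₂ C'.q₁ δX C'.sq.flip hδX (IsPullback.of_hasPullback j C'.q₁) hd)) v' x'
    rw [e2, ← hV]
    refine Eq.trans ?_ (congrFun (pushF_pushF hs' hs C.setupP (m.piece j) _ hpiece cP V hVk).symm y)
    refine (congrFun (pushF_pushF hs' C'.setupP C.setupP _ m.H cP' m.compatH V hVk) y).trans ?_
    exact congrFun (pushF_hom_eq (m.piece_snd j).symm _ _ _) y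

include hX hδX in
/-- exterior products commute with flat pull back -/
theorem ext_pull [Flat m.h] {r : ℕ} (hr : Cyc.HasRelDim m.h r) {a l : ℤ} {u : X → ℤ} (hu : Cy δX a u) {v : C.Y → ℤ}
    (hv : Cy C.δY l v) :
    Cyc.pullFun m.H C'.δP C.δP r (C.ext u v) = C'.ext u (Cyc.pullFun m.h C'.δY C.δY r v) := by
  haveI : CompactSpace X := QuasiCompact.compactSpace_of_compactSpace pX
  haveI := C.setupY.1
  haveI := C'.setupY.1
  refine fin_induct (fun u => Cyc.pullFun m.H C'.δP C.δP r (C.ext u v) = C'.ext u (Cyc.pullFun m.h C'.δY C.δY r v))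
    ?_ (fun u u' hu hu' h h' => ?_) (fun n z hz => ?_) hu
  · show Cyc.pullFun m.H _ _ _ (extF _ _ _ _ _ _ _) = extF _ _ _ _ _ _ _
    rw [extF_zero_left, extF_zero_left, pullFun_zero']
  · show Cyc.pullFun m.H _ _ _ (extF _ _ _ _ _ _ _) = extF _ _ _ _ _ _ _
    rw [extF_add_left, extF_add_left, CycPB.pullFun_add]
    funext y
    exact congrArg₂ (· + ·) (congrFun h y) (congrFun h' y)
  · obtain ⟨U, _, j, _, rfl⟩ := exists_integral_sub z
    obtain ⟨d, hd⟩ := exists_dim hδX (j (genericPoint U))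
    rw [C.ext_pt hX hδX j hd, C'.ext_pt hX hδX j hd, CycPB.pullFun_smul]
    funext y
    refine congrArg (n * ·) ?_
    haveI := C.lft₁; haveI := C'.lft₁
    haveI := C.proper₂; haveI := C'.proper₂
    haveI := m.lft
    haveI := m.flat_H
    haveI : LocallyOfFiniteType m.H := MorphismProperty.of_isPullback m.sq m.lft
    haveI : Flat (m.piece j) := MorphismProperty.of_isPullback (m.piece_sq₂ j) ‹Flat m.h›
    haveI : LocallyOfFiniteType (m.piece j) := MorphismProperty.of_isPullback (m.piece_sq₂ j) m.lft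
    have hs := CycK0.isSetup_closed (pullback.snd j C.q₁) C.setupP
    have hs' := CycK0.isSetup_closed (pullback.snd j C'.q₁) C'.setupP
    haveI := C.setupP.1; haveI := C'.setupP.1
    haveI := hs.1; haveI := hs'.1
    haveI := piece_flat (K := K) C.q₂ C.q₁ C.sq.flip (IsPullback.of_hasPullback j C.q₁)
    haveI := piece_flat (K := K) C'.q₂ C'.q₁ C'.sq.flip (IsPullback.of_hasPullback j C'.q₁)
    have cP := CycPush.deltaCompat_preimmersion (pullback.snd j C.q₁) C.δP
    have cP' := CycPush.deltaCompat_preimmersion (pullback.snd j C'.q₁) C'.δP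
    have hd1 := Bivar.deltaCompat_comp _ C.q₂ _ _ _ cP (C.compat₂ hδX)
    have hd2 := Bivar.deltaCompat_comp _ C'.q₂ _ _ _ cP' (C'.compat₂ hδX)
    have hpiece : Cyc.DeltaCompat (m.piece j) (fun z => C'.δP (pullback.snd j C'.q₁ z))
        (fun z => C.δP (pullback.snd j C.q₁ z)) :=
      deltaCompat_of_comp (m.piece_snd j) cP (Bivar.deltaCompat_comp _ m.H _ _ _ cP' m.compatH)
    have hrelp : Cyc.HasRelDim (m.piece j) r :=
      (S9358.result m.h _ _ (m.piece j) (m.piece_sq₂ j) r).2.2 hr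
    have h1 := hc_of hd1 (piece_relDim C.q₂ C.q₁ δX C.sq.flip hδX (IsPullback.of_hasPullback j C.q₁) hd)
    have h2 := hc_of hd2 (piece_relDim C'.q₂ C'.q₁ δX C'.sq.flip hδX (IsPullback.of_hasPullback j C'.q₁) hd)
    obtain ⟨V, hV, hVk⟩ := C.cy_piece hX hδX j hd hv
    rw [← hV]
    refine (CycFin.push_pull (m.piece_sq j).flip C'.setupP.2.2 hs'.2.2 cP cP'
      (hc_of m.compatH (m.relDim_H hr)) (hc_of hpiece hrelp) V y).trans ?_
    refine congrArg (fun b => pushF (pullback.snd j C'.q₁) (fun z => C'.δP (pullback.snd j C'.q₁ z)) C'.δP b y) ?_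
    rw [hV, ← CycPull.pullFun_comp _ (m.piece j) hs'.2.2 h1 (hc_of hpiece hrelp),
      ← CycPull.pullFun_comp m.h _ hs'.2.2 (hc_of m.compat hr) h2, add_comm (r : ℤ), (m.piece_sq₂ j).w]

include hX hδX in
/-- exterior products commute with Gysin maps -/
theorem ext_gysin [IsClosedImmersion m.h] [IsClosedImmersion m.H] {L : C.Y.Modules} (hL : PicF.IsInvertible L)
    {σ : Γ(L, (⊤ : C.Y.Opens))} (hσ : Cyc.IsZeroSchemeOf m.h L σ)
    {τ : Γ((Scheme.Modules.pullback C.q₂).obj L, (⊤ : C.P.Opens))}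
    (hτ : Cyc.IsZeroSchemeOf m.H ((Scheme.Modules.pullback C.q₂).obj L) τ)
    (w : (ξ : C.Y) → Cyc.secFibre L ξ) (hw : ∀ ξ, w ξ ≠ 0)
    (w' : (ξ : C.P) → Cyc.secFibre ((Scheme.Modules.pullback C.q₂).obj L) ξ) (hw' : ∀ ξ, w' ξ ≠ 0)
    {a l : ℤ} {u : X → ℤ} (hu : Cy δX a u) {v : C.Y → ℤ} (hv : Cy C.δY (l + 1) v) :
    RZ C'.δP (a + l) fun d =>
      Cyc.c1CapFun C.δP ((Scheme.Modules.pullback C.q₂).obj L) (C.ext u v)
          (Cyc.gysinChoice ((Scheme.Modules.pullback C.q₂).obj L) τ w') (m.H d) -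
        C'.ext u (fun d' => Cyc.c1CapFun C.δY L v (Cyc.gysinChoice L σ w) (m.h d')) d := by
  haveI : CompactSpace X := QuasiCompact.compactSpace_of_compactSpace pX
  haveI := C.setupY.1
  haveI := C'.setupY.1
  haveI := C.setupP.1
  haveI := C'.setupP.1
  haveI := C.lft₁; haveI := C'.lft₁
  haveI := C.proper₂; haveI := C'.proper₂
  have eY : C'.δY = fun d => C.δY (m.h d) := delta_closed m.h m.compat
  have eP : C'.δP = fun d => C.δP (m.H d) := delta_closed m.H m.compatH
  have hM := PicLoc.isInvertible_pullback C.q₂ hL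
  refine fin_induct (fun u => RZ C'.δP (a + l) fun d =>
      Cyc.c1CapFun C.δP ((Scheme.Modules.pullback C.q₂).obj L) (C.ext u v)
          (Cyc.gysinChoice ((Scheme.Modules.pullback C.q₂).obj L) τ w') (m.H d) -
        C'.ext u (fun d' => Cyc.c1CapFun C.δY L v (Cyc.gysinChoice L σ w) (m.h d')) d)
    ?_ (fun u u' hu hu' h h' => ?_) (fun n z hz => ?_) hu
  · refine CycPB.RZ.zero.eq (funext fun d => ?_)
    show (0 : ℤ) = Cyc.c1CapFun _ _ (extF _ _ _ _ _ _ _) _ _ - extF _ _ _ _ _ _ _ d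
    rw [extF_zero_left, extF_zero_left, sub_zero]
    exact (finsum_eq_zero_of_forall_eq_zero fun ξ => zero_mul _).symm
  · refine (h.add h').eq (funext fun d => ?_)
    show _ = Cyc.c1CapFun _ _ (extF _ _ _ _ _ _ _) _ _ - extF _ _ _ _ _ _ _ d
    rw [extF_add_left, extF_add_left, (C.ext_cy hX hδX hu hv).cap_add (C.ext_cy hX hδX hu' hv)]
    show _ = _ + _ - (_ + _)
    simp only [KProd.ext]
    ring
  · obtain ⟨U, _, j, _, rfl⟩ := exists_integral_sub z
    obtain ⟨d, hd⟩ := exists_dim hδX (j (genericPoint U))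
    have had : a = d := hz.symm.trans hd
    have hs := CycK0.isSetup_closed (pullback.snd j C.q₁) C.setupP
    have hs' := CycK0.isSetup_closed (pullback.snd j C'.q₁) C'.setupP
    haveI := hs.1; haveI := hs'.1
    haveI := piece_flat (K := K) C.q₂ C.q₁ C.sq.flip (IsPullback.of_hasPullback j C.q₁)
    haveI : IsClosedImmersion (m.piece j) := MorphismProperty.of_isPullback (m.piece_sq₂ j) ‹IsClosedImmersion m.h›
    have cP := CycPush.deltaCompat_preimmersion (pullback.snd j C.q₁) C.δP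
    have hd1 := Bivar.deltaCompat_comp _ C.q₂ _ _ _ cP (C.compat₂ hδX)
    obtain ⟨V, hV, hVk⟩ := C.cy_piece hX hδX j hd hv
    have hVk' : V ∈ Cyc.Zk (pullback j C.q₁) (fun z => C.δP (pullback.snd j C.q₁ z)) (a + l + 1) := by
      rw [show a + l + 1 = l + 1 + d by omega]; exact hVk
    obtain ⟨τ₁, hτ₁, -⟩ := CycPB.isZeroSchemeOf_pullback (pullback.snd j C.q₁) (m.piece_sq j).flip hM hτ
    obtain ⟨τ₂, hτ₂, -⟩ := CycPB.isZeroSchemeOf_pullback (pullback.snd j C.q₁ ≫ C.q₂) (m.piece_sq₂ j).flip hL hσ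
    have hM₁ := PicLoc.isInvertible_pullback (pullback.snd j C.q₁) hM
    have hM₂ := PicLoc.isInvertible_pullback (pullback.snd j C.q₁ ≫ C.q₂) hL
    obtain ⟨w₁, hw₁⟩ := CycPB.exists_sections hM₁
    obtain ⟨w₂, hw₂⟩ := CycPB.exists_sections hM₂
    have key1 := gysin_push_sq (k := a + l) C.setupP hs (pullback.snd j C.q₁) cP hM hτ (m.piece_sq j).flip hτ₁ V hVk'
      w' hw' w₁ hw₁
    obtain ⟨v', rfl, hv'⟩ := hv
    have key2 := gysin_pull_sq (k := l) C.setupY hs (pullback.snd j C.q₁ ≫ C.q₂)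
      (piece_relDim C.q₂ C.q₁ δX C.sq.flip hδX (IsPullback.of_hasPullback j C.q₁) hd) hd1 hL hσ (m.piece_sq₂ j).flip
      hτ₂ v' hv' w hw w₂ hw₂
    have key3 := gysin_indep (k := a + l) (i := m.piece j) hs hM₁ hM₂ (pullIso rfl L).symm hτ₁ hτ₂ hw₁ hw₂
      (CycPB.Cy.mk hVk')
    have eW : (fun z => C.δP (pullback.snd j C.q₁ (m.piece j z))) = fun z => C'.δP (pullback.snd j C'.q₁ z) :=
      funext fun z => by
        rw [eP]
        show C.δP _ = C.δP _
        rw [← Scheme.Hom.comp_apply, m.piece_snd, Scheme.Hom.comp_apply]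
    rw [← hV, show l + (d : ℤ) = a + l by omega, eW, ← eY] at key2
    rw [eW] at key3
    have hk := (key2.trans key3).neg_diff
    have hG := gys_cy hs (m.piece j) hM₁ (CycK0.gysinChoice_ne_zero (s := τ₁) hw₁) (CycPB.Cy.mk hVk')
    rw [eW] at hG
    have hcg := gys_cy C.setupY m.h hL (CycK0.gysinChoice_ne_zero (s := σ) hw) (CycPB.Cy.mk hv')
    rw [← eY] at hcg
    have hpl := C'.cy_piece hX hδX j hd hcg
    rw [show l + (d : ℤ) = a + l by omega] at hpl
    have hk2 := hk.push (pullback.snd j C'.q₁) C'.setupP hs' (CycPush.deltaCompat_preimmersion _ C'.δP)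
    rw [CycPB.pushF_sub' _ C'.δP hG hpl] at hk2
    rw [eW, ← eP] at key1
    refine ((key1.trans hk2).smul n).eq (funext fun x => ?_)
    rw [C.ext_pt hX hδX j hd, C'.ext_pt hX hδX j hd, ← hV, mul_sub]
    refine congrArg₂ (· - ·) ?_ rfl
    unfold Cyc.c1CapFun
    show _ * ∑ᶠ ξ, _ = _
    rw [mul_finsum]
    exact finsum_congr fun ξ => (mul_assoc _ _ _).symm

end KMor

end Groth.Agent.BivarOps
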