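import Groth.Agent.BivarOps.Basic
import Groth.Agent.CycPB.OpsPush
import Groth.Agent.CycPB.LinCls

/-!
Proper push forward and flat pull back on Chow groups.
-/

set_option autoImplicit false
set_option linter.unusedSectionVars false
set_option linter.style.haveILetI false
set_option backward.isDefEq.respectTransparency false
set_option backward.isDefEq.respectTransparency.types false

universe u

open CategoryTheory CategoryTheory.Limits AlgebraicGeometry Opposite
open Groth.Agent.CycPB (Cy RZ pushF)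

noncomputable section

namespace Groth.Agent.BivarOps

variable {A B : Scheme.{u}} {δA : A → ℤ} {δB : B → ℤ}

/-- push forward of classes -/
def pushHom (hA : Cyc.IsSetup A δA) (hB : Cyc.IsSetup B δB) (h : A ⟶ B) [IsProper h]
    (hd : Cyc.DeltaCompat h δA δB) (k : ℤ) : ChowOps.CH A δA k →+ ChowOps.CH B δB k :=
  mkHom (fun a => pushF h δA δB a) (fun _ ha => ha.pushP hB hA h)
    (fun _ _ ha hb => funext fun y => CycPB.pushF_addP hA h ha hb y)
    (fun _ ha => ha.push h hB hA hd)

variable (hA : Cyc.IsSetup A δA) (hB : Cyc.IsSetup B δB) (h : A ⟶ B) [IsProper h]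
    (hd : Cyc.DeltaCompat h δA δB) {k : ℤ}

theorem pushHom_cl (α : AlgebraicCycle A ℤ) (hα : α ∈ Cyc.Zk A δA k) (C : AlgebraicCycle B ℤ)
    (hC : C ∈ Cyc.Zk B δB k) (e : RZ δB k fun y => pushF h δA δB ⇑α y - C y) :
    pushHom hA hB h hd k (ChowOps.cl α hα) = ChowOps.cl C hC :=
  mkHom_cl _ _ _ _ α hα C hC e

theorem pushHom_map (α : AlgebraicCycle A ℤ) (hα : α ∈ Cyc.Zk A δA k) :
    pushHom hA hB h hd k (ChowOps.cl α hα) =
      ChowOps.cl (AlgebraicCycle.map h δA δB α) (Bivar.cycMap_mem_Zk h δA δB k hα) :=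
  pushHom_cl hA hB h hd α hα _ _ (CycPB.RZ.zero.eq (funext fun _ => (sub_self _).symm))

end Groth.Agent.BivarOps
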