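import Groth.Agent.BivarOps.SecProd
import Groth.Agent.BivarOps.Clopen
import Groth.Agent.CycPB.ChernExt

/-!
The Gysin map of a section of a projective line bundle, restricted to an open neighbourhood, undoes flat pull back.
-/

set_option autoImplicit false
set_option linter.unusedSectionVars false
set_option linter.style.haveILetI false
set_option backward.isDefEq.respectTransparency false
set_option backward.isDefEq.respectTransparency.types false
set_option maxHeartbeats 1000000

universe u

open CategoryTheory CategoryTheory.Limits AlgebraicGeometry TopologicalSpace Opposite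
open Groth.Agent.CycPB (Cy RZ pushF HasPnFibres)

noncomputable section

namespace Groth.Agent.BivarOps

variable {S P : Scheme.{u}} {p : P ⟶ S}

theorem hasRelDim_openBundle [IsLocallyNoetherian S] [LocallyOfFiniteType p] {O : P.Modules}
    (hF : HasPnFibres p O 1) (W : P.Opens) : Cyc.HasRelDim (W.ι ≫ p) 1 := by
  haveI : IsLocallyNoetherian P := LocallyOfFiniteType.isLocallyNoetherian p
  have h := CycDim.hasRelDim_comp W.ι p (hasRelDim_openImm W.ι) (CycPB.hasRelDim_of_hasPnFibres hF)
  simpa using h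

/-- a section of an open part of a projective line bundle, cut out by a section of an invertible module -/
theorem gysin_section_open {δ : S → ℤ} (hS : Cyc.IsSetup S δ) [LocallyOfFiniteType p] [Flat p]
    [IsSeparated p] {O : P.Modules} (hF : HasPnFibres p O 1) (W : P.Opens) {δW : ↥W → ℤ} (hW : Cyc.IsSetup (↑W : Scheme.{u}) δW)
    (hδ : Cyc.DeltaCompat (W.ι ≫ p) δW δ) (zW : S ⟶ ↑W) [IsClosedImmersion zW] (hz : zW ≫ W.ι ≫ p = 𝟙 S)
    {N : (↑W : Scheme.{u}).Modules} (hN : PicF.IsInvertible N) {ξ : Γ(N, (⊤ : (↑W : Scheme.{u}).Opens))}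
    (hξ : Cyc.IsZeroSchemeOf zW N ξ) (w : (x : ↥W) → Cyc.secFibre N x) {l : ℤ} (a : AlgebraicCycle S ℤ)
    (ha : a ∈ Cyc.Zk S δ (l + 1)) (y : S) :
    Cyc.c1CapFun δW N (Cyc.pullFun (W.ι ≫ p) δW δ (1 : ℕ) ⇑a) (Cyc.gysinChoice N ξ w) (zW y) = a y := by
  haveI := hS.1
  have hrD : Cyc.HasRelDim (zW ≫ W.ι ≫ p) 0 := by rw [hz]; exact hasRelDim_openImm (𝟙 S)
  have hint : ∀ d : S, (Ideal.map ((W.ι ≫ p).stalkMap (zW d)).hom
      (IsLocalRing.maximalIdeal (S.presheaf.stalk ((W.ι ≫ p) (zW d))))).IsPrime ∧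
        ∃ v : ↥W, v ⤳ zW d ∧ (W.ι ≫ p) v = (W.ι ≫ p) (zW d) ∧ v ∉ Set.range zW := by
    intro d
    let x := W.ι (zW d)
    obtain ⟨φ, -, -⟩ := hF (p x)
    haveI := Horrocks.isIntegral_projSpace (k := S.residueField (p x)) (n := 1)
    haveI : Nonempty ↥(p.fiber (p x)) := ⟨φ.hom (genericPoint _)⟩
    haveI : IsIntegral (p.fiber (p x)) := isIntegral_of_isOpenImmersion φ.inv
    refine ⟨?_, ?_⟩
    · have hP : (Ideal.map (p.stalkMap x).hom (IsLocalRing.maximalIdeal (S.presheaf.stalk (p x)))).IsPrime := by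
        obtain ⟨e1⟩ := CMFlat.nonempty_stalk_equiv_asFiber p x (p.asFiber x) (p.fiberι_asFiber _)
        obtain ⟨e2⟩ := CMFlat.nonempty_fiberStalk_equiv p x
        refine (Ideal.Quotient.isDomain_iff_prime _).1 ?_
        exact MulEquiv.isDomain ((p.fiber (p x)).presheaf.stalk (p.asFiber x)) (e2.trans e1.symm).toMulEquiv
      let e := (asIso (W.ι.stalkMap (zW d))).commRingCatIsoToRingEquiv
      have h2 := Ideal.map_isPrime_of_equiv e (I := Ideal.map (p.stalkMap x).hom
        (IsLocalRing.maximalIdeal (S.presheaf.stalk (p x))))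
      have h3 : Ideal.map ((W.ι ≫ p).stalkMap (zW d)).hom
          (IsLocalRing.maximalIdeal (S.presheaf.stalk ((W.ι ≫ p) (zW d)))) =
          (Ideal.map (p.stalkMap x).hom (IsLocalRing.maximalIdeal (S.presheaf.stalk (p x)))).map
            (W.ι.stalkMap (zW d)).hom := by
        rw [Ideal.map_map, Scheme.Hom.stalkMap_comp]
        rfl
      rw [h3]
      exact h2
    · let η := genericPoint (p.fiber (p x))
      have h1 : p (p.fiberι _ η) = p x := by
        have : p.fiberι (p x) η ∈ Set.range (p.fiberι (p x)) := ⟨η, rfl⟩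
        rw [p.range_fiberι] at this
        exact this
      have h2 : p.fiberι (p x) η ⤳ x := by
        have := (genericPoint_specializes (p.asFiber x)).map (p.fiberι (p x)).continuous
        rwa [p.fiberι_asFiber] at this
      obtain ⟨v, hv⟩ : p.fiberι (p x) η ∈ Set.range W.ι := by
        rw [Scheme.Opens.range_ι]
        exact h2.mem_open W.2 (zW d).2
      have hvd : v ⤳ zW d := W.ι.isOpenEmbedding.isInducing.specializes_iff.1 (by rw [hv]; exact h2)
      refine ⟨v, hvd, (congrArg p hv).trans h1, fun ⟨d', hd'⟩ => ?_⟩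
      obtain rfl : d' = d := by
        have e1 := (congrArg p hv).trans h1
        rw [← hd'] at e1
        have e2 : (zW ≫ W.ι ≫ p) d' = (zW ≫ W.ι ≫ p) d := e1
        rw [hz] at e2
        exact e2
      have e3 : p.fiberι (p x) η = x := by rw [← hv, ← hd']
      haveI : IsClosedImmersion ((zW ≫ W.ι) ≫ p) := by rw [Category.assoc, hz]; infer_instance
      haveI : IsClosedImmersion (zW ≫ W.ι) := IsClosedImmersion.of_comp (zW ≫ W.ι) p
      have key : ∀ c : ↥(p.fiber (p x)), p.fiberι (p x) c = x := fun c => by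
        have h4 : x ⤳ p.fiberι (p x) c :=
          (specializes_of_eq e3.symm).trans ((genericPoint_specializes c).map (p.fiberι (p x)).continuous)
        obtain ⟨b', hb'⟩ : p.fiberι (p x) c ∈ Set.range (zW ≫ W.ι) :=
          h4.mem_closed (zW ≫ W.ι).isClosedEmbedding.isClosed_range ⟨d', rfl⟩
        have e4 : (zW ≫ W.ι ≫ p) b' = (zW ≫ W.ι ≫ p) d' := by
          show p ((zW ≫ W.ι) b') = p x
          rw [hb']
          have : p.fiberι (p x) c ∈ Set.range (p.fiberι (p x)) := ⟨c, rfl⟩
          rw [p.range_fiberι] at this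
          exact this
        rw [hz] at e4
        have e5 : b' = d' := e4
        rw [← hb', e5]
        rfl
      haveI : Subsingleton ↥(p.fiber (p x)) :=
        ⟨fun a b => (p.fiberι (p x)).isEmbedding.injective ((key a).trans (key b).symm)⟩
      have hd := CycPB.krullDim_of_hasPnFibres hF (p x)
      have h0 := topologicalKrullDim_zero_of_discreteTopology ↥(p.fiber (p x))
      rw [hd] at h0
      norm_num at h0
  haveI : LocallyOfFiniteType (W.ι ≫ p) := inferInstance
  have h := CycPB.gysin_pullFun_fibre hW hS (W.ι ≫ p) 0 (hasRelDim_openBundle hF W) hδ hN ξ zW hξ hint hrD l a ha w y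
  push_cast at h ⊢
  rw [h]
  have hid : ∀ g : S ⟶ S, g = 𝟙 S → Cyc.DeltaCompat g (fun d => δW (zW d)) δ →
      Cyc.pullFun g (fun d => δW (zW d)) δ 0 ⇑a y = a y := by
    rintro g rfl hg
    exact congrFun (pullFun_openImm (𝟙 S) hg ⇑a) y
  exact hid _ hz (CycK0.deltaCompat_closed_comp zW (W.ι ≫ p) hδ)

end Groth.Agent.BivarOps
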