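import Groth.Agent.BivarOps.Basic
import Groth.Agent.CycK0.GysFunct
import Groth.Agent.CycPB.TrivDiv
import Groth.Agent.S9358

/-!
Maps of squares over a morphism; transfer of rational equivalence along isomorphisms.
-/

set_option autoImplicit false
set_option linter.unusedSectionVars false
set_option linter.style.haveILetI false
set_option backward.isDefEq.respectTransparency false
set_option backward.isDefEq.respectTransparency.types false

universe u

open CategoryTheory CategoryTheory.Limits AlgebraicGeometry Opposite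
open Groth.Agent.CycPB (Cy RZ pushF)

noncomputable section

namespace Groth.Agent.BivarOps

variable {X Y T T' : Scheme.{u}}

theorem isSetup_sqY {f : X ⟶ Y} {δX : X → ℤ} {δY : Y → ℤ} (hY : Cyc.IsSetup Y δY) (s : Bivar.Sq f δX δY) :
    Cyc.IsSetup s.Y' s.δY' :=
  haveI := s.lft
  isSetup_test hY s.g s.compatY

theorem lft_g' {f : X ⟶ Y} {δX : X → ℤ} {δY : Y → ℤ} (s : Bivar.Sq f δX δY) : LocallyOfFiniteType s.g' :=
  MorphismProperty.of_isPullback s.isPullback s.lft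

theorem isSetup_sqX {f : X ⟶ Y} {δX : X → ℤ} {δY : Y → ℤ} (hX : Cyc.IsSetup X δX) (s : Bivar.Sq f δX δY) :
    Cyc.IsSetup s.X' s.δX' :=
  haveI := lft_g' s
  isSetup_test hX s.g' s.compatX

theorem deltaCompat_f' {f : X ⟶ Y} {δX : X → ℤ} {δY : Y → ℤ} (hf : Cyc.DeltaCompat f δX δY) (s : Bivar.Sq f δX δY) :
    Cyc.DeltaCompat s.f' s.δX' s.δY' :=
  CycPB.deltaCompat_square s.isPullback.w hf s.compatY s.compatX

/-- a map of squares is cartesian -/
theorem isPullback_mor {f : X ⟶ Y} {δX : X → ℤ} {δY : Y → ℤ} {s t : Bivar.Sq f δX δY} {h : t.Y' ⟶ s.Y'}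
    {h' : t.X' ⟶ s.X'} (w₁ : h ≫ s.g = t.g) (w₂ : h' ≫ s.f' = t.f' ≫ h) (w₃ : h' ≫ s.g' = t.g') :
    IsPullback t.f' h' h s.f' :=
  IsPullback.of_bot (w₃.symm ▸ w₁.symm ▸ t.isPullback) w₂.symm s.isPullback

/-- rational equivalence along an isomorphism -/
theorem rz_comp_iso (e : T ≅ T') {δ' : T' → ℤ} (hT' : Cyc.IsSetup T' δ') {k : ℤ} {a : T' → ℤ} (ha : RZ δ' k a) :
    RZ (fun x => δ' (e.hom x)) k fun x => a (e.hom x) := by
  have hr : ∀ y : T', e.hom (e.inv y) = y := fun y => by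
    rw [← Scheme.Hom.comp_apply, e.inv_hom_id]
    rfl
  have hl : ∀ x : T, e.inv (e.hom x) = x := fun x => by
    rw [← Scheme.Hom.comp_apply, e.hom_inv_id]
    rfl
  let δT : T → ℤ := fun x => δ' (e.hom x)
  have hδ : δ' = fun y => δT (e.inv y) := funext fun y => (congrArg δ' (hr y)).symm
  have h0 := CycPush.deltaCompat_preimmersion e.inv δT
  have hd : Cyc.DeltaCompat e.inv δ' δT := Eq.mpr (congrArg (fun d => Cyc.DeltaCompat e.inv d δT) hδ) h0
  refine (CycPB.RZ.push e.inv (CycK0.isSetup_closed e.hom hT') hT' hd ha).eq (funext fun x => ?_)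
  refine (congrArg (fun d => pushF e.inv d δT a x) hδ).trans ?_
  refine (congrArg (pushF e.inv (fun y => δT (e.inv y)) δT a) (hl x).symm).trans ?_
  exact CycPB.pushF_closed e.inv δT a (e.hom x)

variable {D : Scheme.{u}} {δ : X → ℤ} {δ' : Y → ℤ} {k : ℤ}

/-- the Gysin map commutes with flat pull back, on any fibre product -/
theorem gysin_pull_sq {r : ℕ} (hX : Cyc.IsSetup X δ) (hY : Cyc.IsSetup Y δ') (f : Y ⟶ X) [Flat f]
    [LocallyOfFiniteType f] (hr : Cyc.HasRelDim f r) (hδ : Cyc.DeltaCompat f δ' δ) {L : X.Modules}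
    (hL : PicF.IsInvertible L) {s : Γ(L, (⊤ : X.Opens))} {i : D ⟶ X} [IsClosedImmersion i]
    (hD : Cyc.IsZeroSchemeOf i L s) {j : T ⟶ Y} [IsClosedImmersion j] {gD : T ⟶ D} (hsq : IsPullback j gD f i)
    {s' : ((Scheme.Modules.pullback f).obj L).presheaf.obj (op ⊤)}
    (hD' : Cyc.IsZeroSchemeOf j ((Scheme.Modules.pullback f).obj L) s')
    (α : AlgebraicCycle X ℤ) (hα : α ∈ Cyc.Zk X δ (k + 1))
    (w : (ξ : X) → Cyc.secFibre L ξ) (hw : ∀ ξ, w ξ ≠ 0)
    (w' : (ξ : Y) → Cyc.secFibre ((Scheme.Modules.pullback f).obj L) ξ) (hw' : ∀ ξ, w' ξ ≠ 0) :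
    RZ (fun z => δ' (j z)) (k + r) fun z =>
      Cyc.pullFun gD (fun z => δ' (j z)) (fun d => δ (i d)) r
          (fun d => Cyc.c1CapFun δ L ⇑α (Cyc.gysinChoice L s w) (i d)) z -
        Cyc.c1CapFun δ' ((Scheme.Modules.pullback f).obj L) (Cyc.pullFun f δ' δ r ⇑α)
          (Cyc.gysinChoice ((Scheme.Modules.pullback f).obj L) s' w') (j z) := by
  haveI := hX.1
  haveI := hY.1
  have hα' : Cy δ (k + 1) ⇑α := CycPB.Cy.mk hα
  have hL' := PicLoc.isInvertible_pullback f hL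
  obtain ⟨A, hA, hAk⟩ := ((hα'.cap hX hL (CycK0.gysinChoice_ne_zero hw))).pullR hY f hδ hr
  have hp : Cy δ' (k + r + 1) (Cyc.pullFun f δ' δ r ⇑α) := by
    have := hα'.pullR hY f hδ hr
    rwa [show k + 1 + (r : ℤ) = k + r + 1 by ring] at this
  obtain ⟨B, hB, hBk⟩ := hp.cap hY hL' (v := Cyc.gysinChoice _ s' w') (CycK0.gysinChoice_ne_zero hw')
  obtain ⟨ζ₂, hζ₂⟩ := CycK0.exists_comap (i := pullback.fst f i) A
  obtain ⟨ζ₁, hζ₁⟩ := CycK0.exists_comap (i := pullback.fst f i) B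
  have hz : Cyc.IsZeroSchemeOf (pullback.fst f i) ((Scheme.Modules.pullback f).obj L) s' := by
    have h := CycK0.isZeroSchemeOf_iso hsq.isoPullback.symm hD'
    rwa [show hsq.isoPullback.symm.hom ≫ j = pullback.fst f i from hsq.isoPullback_inv_fst] at h
  have key := CycK0.gysin_pull hX hY f hr hδ hL hD hz α hα w hw w' hw' ζ₁ ζ₂
    (fun z => by rw [hζ₁, hB]) (funext fun z => by
      rw [CycPB.pullFun_restrict f (IsPullback.of_hasPullback f i) δ δ' r
        (Cyc.c1CapFun δ L ⇑α (Cyc.gysinChoice L s w)) z, hζ₂, hA])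
  have h1 := CycPB.RZ.of_ratEquiv (δ := fun z => δ' (pullback.fst f i z)) (A := ζ₁) (B := ζ₂)
    (fun z hz => by rw [hζ₁]; exact hBk _ hz) (fun z hz => by rw [hζ₂]; exact hAk _ hz) key
  have h2 := rz_comp_iso hsq.isoPullback (CycK0.isSetup_closed (pullback.fst f i) hY) h1.neg_diff
  have e : ∀ z, pullback.fst f i (hsq.isoPullback.hom z) = j z := fun z => by
    rw [← Scheme.Hom.comp_apply, hsq.isoPullback_hom_fst]
  simp only [e] at h2
  refine h2.eq (funext fun z => ?_)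
  rw [hζ₁, hζ₂, hA, hB, e, CycPB.pullFun_restrict f hsq δ δ' r (Cyc.c1CapFun δ L ⇑α (Cyc.gysinChoice L s w)) z]

end Groth.Agent.BivarOps
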