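import Groth.Agent.CycDim.PushLength
import Groth.Agent.BivarOps.IntMultVanish
import Groth.Agent.TorFlatBC.Basic
import Groth.Agent.S6315

/-!
Tor over the base of a module over a finite algebra, localised upstairs.
-/

set_option autoImplicit false
set_option linter.style.haveILetI false
set_option backward.isDefEq.respectTransparency false

universe u

open CategoryTheory CategoryTheory.Limits CategoryTheory.MonoidalCategory TensorProduct

namespace Groth.Agent.BivarOps

open CycDim (lenAt)

section Sum

variable {A C : Type u} [CommRing A] [CommRing C] [Algebra A C]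

/-- The length below is the sum of the lengths above, for modules supported where the fibre is discrete. -/
theorem lenAt_eq_sum_supp [IsNoetherianRing C] [Algebra.IsIntegral A C] (p : PrimeSpectrum A)
    (Z : Set (PrimeSpectrum C))
    (hdeep : ∀ Q ∈ Z, Q.asIdeal.comap (algebraMap A C) ≤ p.asIdeal → Q.asIdeal.comap (algebraMap A C) = p.asIdeal)
    (T : Finset (PrimeSpectrum C)) (hT : ∀ Q : PrimeSpectrum C, Q ∈ T ↔ Q.asIdeal.comap (algebraMap A C) = p.asIdeal)
    (M : Type u) [AddCommGroup M] [Module C M] [Module.Finite C M] [Module A M] [IsScalarTower A C M]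
    (hM : Module.support C M ⊆ Z) :
    lenAt p M = ∑ Q ∈ T, lenAt p (C ⧸ Q.asIdeal) * lenAt Q M ∧ ∀ Q ∈ T, lenAt Q M ≠ ⊤ := by
  classical
  suffices H : Module.support C M ⊆ Z → ∀ [Module A M] [IsScalarTower A C M],
      lenAt p M = ∑ Q ∈ T, lenAt p (C ⧸ Q.asIdeal) * lenAt Q M ∧ ∀ Q ∈ T, lenAt Q M ≠ ⊤ from @H hM _ _
  clear * - hdeep hT
  induction ‹Module.Finite C M› using IsNoetherianRing.induction_on_isQuotientEquivQuotientPrime C with
  | subsingleton N =>
    intro _ _ _
    refine ⟨?_, fun Q _ => by rw [CycNorm.lenAt_of_subsingleton]; exact ENat.zero_ne_top⟩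
    rw [CycNorm.lenAt_of_subsingleton]
    exact (Finset.sum_eq_zero fun Q _ => by rw [CycNorm.lenAt_of_subsingleton Q N, mul_zero]).symm
  | quotient N q e =>
    intro hN' _ _
    have hqZ : q ∈ Z := hN' (by rw [e.support_eq, Module.mem_support_iff_of_finite, Ideal.annihilator_quotient])
    have hN : lenAt p N = lenAt p (C ⧸ q.asIdeal) := CycNorm.lenAt_congr' p (e.restrictScalars A)
    have hQ : ∀ Q ∈ T, lenAt Q N = if Q = q then 1 else 0 := by
      intro Q hQT
      rw [CycNorm.lenAt_congr' Q e]
      split
      · next h => subst h; exact CycNorm.lenAt_self Q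
      · next h =>
        refine CycNorm.lenAt_of_not_le fun hle => h (PrimeSpectrum.ext ?_)
        by_contra hne
        obtain ⟨x, hxQ, hxq⟩ := SetLike.exists_of_lt (lt_of_le_of_ne hle (fun e' => hne e'.symm))
        have hlt := Ideal.comap_lt_comap_of_integral_mem_sdiff (R := A) hle ⟨hxQ, hxq⟩
          (Algebra.IsIntegral.isIntegral x)
        rw [(hT Q).1 hQT] at hlt
        exact hlt.ne (hdeep q hqZ hlt.le)
    refine ⟨?_, fun Q hQT => by rw [hQ Q hQT]; split <;> simp⟩
    rw [hN, Finset.sum_congr rfl fun Q hQT => by rw [hQ Q hQT]]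
    simp only [mul_ite, mul_one, mul_zero, Finset.sum_ite_eq']
    split
    · rfl
    · next hq =>
      have hnle : ¬ q.asIdeal.comap (algebraMap A C) ≤ p.asIdeal := fun hle => hq ((hT q).2 (hdeep q hqZ hle))
      obtain ⟨a, haq, hap⟩ := SetLike.not_le_iff_exists.1 hnle
      refine CycNorm.lenAt_of_killed p hap fun m => ?_
      obtain ⟨b, rfl⟩ := Ideal.Quotient.mk_surjective m
      rw [← Ideal.Quotient.mkₐ_eq_mk A, ← map_smul, Ideal.Quotient.mkₐ_eq_mk, Ideal.Quotient.eq_zero_iff_mem,
        Algebra.smul_def]
      exact q.asIdeal.mul_mem_right _ haq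
  | exact N₁ N₂ N₃ f g hf hg hfg h₁ h₃ =>
    intro hN _ _
    letI : Module A N₁ := Module.compHom N₁ (algebraMap A C)
    letI : Module A N₃ := Module.compHom N₃ (algebraMap A C)
    haveI : IsScalarTower A C N₁ := IsScalarTower.of_algebraMap_smul fun _ _ => rfl
    haveI : IsScalarTower A C N₃ := IsScalarTower.of_algebraMap_smul fun _ _ => rfl
    have hs := Module.support_of_exact hfg hf hg
    obtain ⟨e₁, t₁⟩ := @h₁ (fun P hP => hN (hs ▸ Or.inl hP)) _ _
    obtain ⟨e₃, t₃⟩ := @h₃ (fun P hP => hN (hs ▸ Or.inr hP)) _ _
    have hadd : ∀ Q : PrimeSpectrum C, lenAt Q N₂ = lenAt Q N₁ + lenAt Q N₃ := fun Q =>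
      CycNorm.lenAt_add' Q f g hf hg hfg
    refine ⟨?_, fun Q hQT => by rw [hadd Q]; exact WithTop.add_ne_top.2 ⟨t₁ Q hQT, t₃ Q hQT⟩⟩
    rw [CycNorm.lenAt_add' p (f.restrictScalars A) (g.restrictScalars A) hf hg hfg, e₁, e₃, ← Finset.sum_add_distrib]
    exact Finset.sum_congr rfl fun Q _ => by rw [hadd Q, mul_add]

end Sum

section Functors

/-- Tensoring with a module over an algebra. -/
noncomputable def tensFun (R C : Type u) [CommRing R] [CommRing C] [Algebra R C] (M : Type u) [AddCommGroup M]
    [Module C M] [Module R M] [IsScalarTower R C M] : ModuleCat.{u} R ⥤ ModuleCat.{u} C where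
  obj X := ModuleCat.of C (M ⊗[R] X)
  map f := ModuleCat.ofHom (AlgebraTensorModule.map (LinearMap.id : M →ₗ[C] M) f.hom)
  map_id X := by
    apply ModuleCat.hom_ext
    refine LinearMap.ext fun z => ?_
    induction z using TensorProduct.induction_on with
    | zero => simp
    | add x y hx hy => rw [map_add, map_add, hx, hy]
    | tmul a b => rfl
  map_comp f g := by
    apply ModuleCat.hom_ext
    refine LinearMap.ext fun z => ?_
    induction z using TensorProduct.induction_on with
    | zero => simp
    | add x y hx hy => rw [map_add, map_add, hx, hy]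
    | tmul a b => rfl

instance (R C : Type u) [CommRing R] [CommRing C] [Algebra R C] (M : Type u) [AddCommGroup M]
    [Module C M] [Module R M] [IsScalarTower R C M] : (tensFun R C M).Additive where
  map_add {X Y f g} := by
    apply ModuleCat.hom_ext
    refine LinearMap.ext fun z => ?_
    induction z using TensorProduct.induction_on with
    | zero => simp
    | add x y hx hy => rw [map_add, map_add, hx, hy]
    | tmul a b => exact TensorProduct.tmul_add a (f.hom b) (g.hom b)

variable {R C : Type u} [CommRing R] [CommRing C] [Algebra R C] (M : Type u) [AddCommGroup M] [Module C M]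
  [Module R M] [IsScalarTower R C M] (N : Type u) [AddCommGroup N] [Module R N] (i : ℕ)

/-- Tor as a module over the algebra. -/
noncomputable def torMod (R C : Type u) [CommRing R] [CommRing C] [Algebra R C] (M : Type u) [AddCommGroup M]
    [Module C M] [Module R M] [IsScalarTower R C M] (N : Type u) [AddCommGroup N] [Module R N] (i : ℕ) :
    ModuleCat.{u} C :=
  (((tensFun R C M).mapHomologicalComplex _).obj (projectiveResolution (ModuleCat.of R N)).complex).homology i

/-- Restricting scalars of the tensor functor. -/
noncomputable def restrictEquiv (X : ModuleCat.{u} R) :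
    ↥((ModuleCat.restrictScalars.{u} (algebraMap R C)).obj ((tensFun R C M).obj X)) ≃ₗ[R]
      ↥((tensorLeft (ModuleCat.of R M)).obj X) where
  toFun z := z
  invFun z := z
  left_inv _ := rfl
  right_inv _ := rfl
  map_add' _ _ := rfl
  map_smul' r z := algebraMap_smul C r (show M ⊗[R] X from z)

/-- Localising the tensor functor. -/
noncomputable def localizeEquiv (S B : Type u) [CommRing S] [CommRing B] [Algebra C S]
    [Algebra R S] [IsScalarTower R C S] [Algebra R B] [Algebra B S] [IsScalarTower R B S] (X : ModuleCat.{u} R) :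
    ↥((ModuleCat.restrictScalars.{u} (algebraMap B S)).obj ((TorFlatBC.bcFun C S).obj ((tensFun R C M).obj X))) ≃ₗ[B]
      ↥((tensorLeft (ModuleCat.of B (S ⊗[C] M))).obj ((TorFlatBC.bcFun R B).obj X)) where
  toFun z := (AlgebraTensorModule.cancelBaseChange R B B (S ⊗[C] M) X).symm
    ((AlgebraTensorModule.assoc R C S S M X).symm z)
  invFun z := AlgebraTensorModule.assoc R C S S M X
    (AlgebraTensorModule.cancelBaseChange R B B (S ⊗[C] M) X z)
  left_inv z := (congrArg (AlgebraTensorModule.assoc R C S S M X)
    ((AlgebraTensorModule.cancelBaseChange R B B (S ⊗[C] M) X).apply_symm_apply _)).trans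
    ((AlgebraTensorModule.assoc R C S S M X).apply_symm_apply z)
  right_inv z := (congrArg (AlgebraTensorModule.cancelBaseChange R B B (S ⊗[C] M) X).symm
    ((AlgebraTensorModule.assoc R C S S M X).symm_apply_apply _)).trans
    ((AlgebraTensorModule.cancelBaseChange R B B (S ⊗[C] M) X).symm_apply_apply z)
  map_add' a b := (congrArg (AlgebraTensorModule.cancelBaseChange R B B (S ⊗[C] M) X).symm
    (map_add (AlgebraTensorModule.assoc R C S S M X).symm a b)).trans (map_add _ _ _)
  map_smul' b z := by
    refine (congrArg (AlgebraTensorModule.cancelBaseChange R B B (S ⊗[C] M) X).symm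
      ((AlgebraTensorModule.assoc R C S S M X).symm.map_smul (algebraMap B S b) z)).trans ?_
    exact (congrArg _ (algebraMap_smul S b ((AlgebraTensorModule.assoc R C S S M X).symm z))).trans
      ((AlgebraTensorModule.cancelBaseChange R B B (S ⊗[C] M) X).symm.map_smul b _)

theorem torMod_restrict : Nonempty ((ModuleCat.restrictScalars.{u} (algebraMap R C)).obj (torMod R C M N i) ≅
    ModuleCat.of R (DRing.Tor R i M N)) := by
  haveI := TorFlatBC.preservesHomology_restrict R C
  let G := ModuleCat.restrictScalars.{u} (algebraMap R C)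
  let P := projectiveResolution (ModuleCat.of R N)
  let K := ((tensFun R C M).mapHomologicalComplex _).obj P.complex
  let e : (G.mapHomologicalComplex _).obj K ≅
      ((tensorLeft (ModuleCat.of R M)).mapHomologicalComplex _).obj P.complex :=
    HomologicalComplex.Hom.isoOfComponents (fun m => (restrictEquiv M (P.complex.X m)).toModuleIso) (fun a b _ => by
      apply ModuleCat.hom_ext
      refine LinearMap.ext fun (z : M ⊗[R] P.complex.X a) => ?_
      show LinearMap.lTensor M (P.complex.d a b).hom z =
        AlgebraTensorModule.map (LinearMap.id : M →ₗ[C] M) (P.complex.d a b).hom z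
      induction z using TensorProduct.induction_on with
      | zero => simp
      | add x y hx hy => rw [map_add, map_add, hx, hy]
      | tmul x y => rfl)
  exact ⟨((K.sc i).mapHomologyIso G).symm ≪≫ HomologicalComplex.homologyMapIso e i ≪≫
    (P.isoLeftDerivedObj (tensorLeft (ModuleCat.of R M)) i).symm⟩

/-- The length of a localisation of Tor is a length of Tor over the local ring of the ambient space. -/
theorem length_torMod_localize (S B : Type u) [CommRing S] [CommRing B] [Algebra C S] [Module.Flat C S]
    [Algebra R S] [IsScalarTower R C S] [Algebra R B] [Module.Flat R B] [Algebra B S] [IsScalarTower R B S]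
    (hsurj : Function.Surjective (algebraMap B S)) :
    Module.length S (S ⊗[C] torMod R C M N i) = Module.length B (DRing.Tor B i (S ⊗[C] M) (B ⊗[R] N)) := by
  haveI := TorFlatBC.preservesHomology_bcFun C S
  haveI := TorFlatBC.preservesHomology_restrict B S
  haveI := TorFlatBC.preservesProjective_bcFun R B
  haveI := TorFlatBC.preservesHomology_bcFun R B
  let P := projectiveResolution (ModuleCat.of R N)
  let P' : ProjectiveResolution ((TorFlatBC.bcFun R B).obj (ModuleCat.of R N)) :=
    (TorFlatBC.bcFun R B).mapProjectiveResolution P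
  let K := ((tensFun R C M).mapHomologicalComplex _).obj P.complex
  let K' := ((TorFlatBC.bcFun C S).mapHomologicalComplex _).obj K
  let G := ModuleCat.restrictScalars.{u} (algebraMap B S)
  let L := ((tensorLeft (ModuleCat.of B (S ⊗[C] M))).mapHomologicalComplex _).obj P'.complex
  let e : (G.mapHomologicalComplex _).obj K' ≅ L :=
    HomologicalComplex.Hom.isoOfComponents (fun m => (localizeEquiv M S B (P.complex.X m)).toModuleIso) (fun a b _ => by
      apply ModuleCat.hom_ext
      refine LinearMap.ext fun (z : S ⊗[C] (M ⊗[R] P.complex.X a)) => ?_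
      show LinearMap.lTensor (S ⊗[C] M) ((P.complex.d a b).hom.baseChange B)
          ((AlgebraTensorModule.cancelBaseChange R B B (S ⊗[C] M) (P.complex.X a)).symm
            ((AlgebraTensorModule.assoc R C S S M (P.complex.X a)).symm z)) =
        (AlgebraTensorModule.cancelBaseChange R B B (S ⊗[C] M) (P.complex.X b)).symm
          ((AlgebraTensorModule.assoc R C S S M (P.complex.X b)).symm
            ((AlgebraTensorModule.map (LinearMap.id : M →ₗ[C] M) (P.complex.d a b).hom).baseChange S z))
      induction z using TensorProduct.induction_on with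
      | zero => simp
      | add x y hx hy => simp only [map_add, hx, hy]
      | tmul s w =>
        induction w using TensorProduct.induction_on with
        | zero => simp
        | add x y hx hy => simp only [tmul_add, map_add, hx, hy]
        | tmul x y => simp)
  let i₁ : G.obj (K'.homology i) ≅ ModuleCat.of B (DRing.Tor B i (S ⊗[C] M) (B ⊗[R] N)) :=
    ((K'.sc i).mapHomologyIso G).symm ≪≫ HomologicalComplex.homologyMapIso e i ≪≫
      (P'.isoLeftDerivedObj (tensorLeft (ModuleCat.of B (S ⊗[C] M))) i).symm
  let i₀ : K'.homology i ≅ (TorFlatBC.bcFun C S).obj (torMod R C M N i) :=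
    (K.sc i).mapHomologyIso (TorFlatBC.bcFun C S)
  refine Eq.trans ?_ i₁.toLinearEquiv.length_eq
  refine i₀.toLinearEquiv.length_eq.symm.trans ?_
  let W := K'.homology i
  letI : Module B W := Module.compHom W (algebraMap B S)
  haveI : IsScalarTower B S W := IsScalarTower.of_algebraMap_smul fun _ _ => rfl
  exact (Module.length_eq_of_surjective (R := S) (M := W) (S := B) hsurj).symm

end Functors

/-- Tor below as a sum over the primes above. -/
theorem exists_tor_push (R C : Type u) [CommRing R] [IsNoetherianRing R] [CommRing C] [Algebra R C]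
    [Module.Finite R C] (M : Type u) [AddCommGroup M] [Module C M] [Module R M] [IsScalarTower R C M]
    [Module.Finite C M] (N : Type u) [AddCommGroup N] [Module R N] [Module.Finite R N] (i : ℕ)
    (p : PrimeSpectrum R)
    (hdeep : ∀ Q : PrimeSpectrum C, Module.annihilator R N ≤ Q.asIdeal.comap (algebraMap R C) →
      Q.asIdeal.comap (algebraMap R C) ≤ p.asIdeal → Q.asIdeal.comap (algebraMap R C) = p.asIdeal)
    (T : Finset (PrimeSpectrum C)) (hT : ∀ Q : PrimeSpectrum C, Q ∈ T ↔ Q.asIdeal.comap (algebraMap R C) = p.asIdeal) :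
    lenAt p (DRing.Tor R i M N) = ∑ Q ∈ T, lenAt p (C ⧸ Q.asIdeal) * lenAt Q (torMod R C M N i) ∧
      ∀ Q ∈ T, lenAt Q (torMod R C M N i) ≠ ⊤ := by
  haveI : IsNoetherianRing C := IsNoetherianRing.of_finite R C
  haveI : Module.Finite R M := Module.Finite.trans C M
  haveI := Groth.Agent.S6315.result R M N i
  obtain ⟨e⟩ := torMod_restrict (R := R) (C := C) M N i
  letI : Module R (torMod R C M N i) := Module.compHom _ (algebraMap R C)
  haveI : IsScalarTower R C (torMod R C M N i) := IsScalarTower.of_algebraMap_smul fun _ _ => rfl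
  let e' : torMod R C M N i ≃ₗ[R] DRing.Tor R i M N := e.toLinearEquiv
  haveI : Module.Finite R (torMod R C M N i) := Module.Finite.equiv e'.symm
  haveI : Module.Finite C (torMod R C M N i) := Module.Finite.of_restrictScalars_finite R C _
  rw [← CycNorm.lenAt_congr' p e']
  refine lenAt_eq_sum_supp p {Q | Module.annihilator R N ≤ Q.asIdeal.comap (algebraMap R C)}
    (fun Q hQ => hdeep Q hQ) T hT (torMod R C M N i) fun Q hQ a ha => ?_
  refine Module.mem_support_iff_of_finite.1 hQ (Module.mem_annihilator.2 fun x => ?_)
  rw [algebraMap_smul]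
  have h0 : a • e' x = 0 := congr($(TorBalance.smul_id_eq_zero a (ModuleCat.of R M) (ModuleCat.of R N)
    (Module.mem_annihilator.1 ha) i) (e' x))
  exact e'.injective (by rw [map_smul, map_zero]; exact h0)

end Groth.Agent.BivarOps
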