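import Groth.Agent.BivarOps.UnionSplit
import Groth.Agent.BivarOps.WeakRel
import Groth.Agent.BivarOps.CommC1
import Groth.Agent.BivarOps.Clopen
import Groth.Agent.S6455

/-!
A class on a closed subscheme dies if its pull back to a line bundle dies on the union with the zero section.
-/

set_option autoImplicit false
set_option linter.unusedSectionVars false
set_option linter.style.haveILetI false
set_option linter.unusedVariables false
set_option backward.isDefEq.respectTransparency false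
set_option backward.isDefEq.respectTransparency.types false
set_option maxHeartbeats 1000000

universe u

open CategoryTheory CategoryTheory.Limits AlgebraicGeometry Opposite
open Groth.Agent.CycPB (Cy RZ pushF)
open Groth.Agent.CycSec (secPull secPull_ne_zero)

noncomputable section

namespace Groth.Agent.BivarOps

theorem rz_cap_one {T : Scheme.{u}} {δ : T → ℤ} (hT : Cyc.IsSetup T δ)
    {v : (x : T) → Cyc.secFibre (Coh.structureModule T) x} (hv : ∀ x, v x ≠ 0) {k : ℤ} {a : T → ℤ}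
    (ha : Cy δ (k + 1) a) : RZ δ k (Cyc.c1CapFun δ (Coh.structureModule T) a v) := by
  obtain ⟨C, hC, hCk⟩ := ha.cap hT (isInvertible_one T) hv
  obtain ⟨A, rfl, hA⟩ := ha
  exact ⟨C, hC, hCk, S6455.result T δ hT k A hA v hv C hC⟩

/-- the cap of a module is killed by the tensor inverse -/
theorem rz_cap_of_inverse {T : Scheme.{u}} {δ : T → ℤ} (hT : Cyc.IsSetup T δ) {M L : T.Modules}
    (hM : PicF.IsInvertible M) (hL : PicF.IsInvertible L) (φ : CohB1.tensorMod M L ≅ Coh.structureModule T)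
    {v : (x : T) → Cyc.secFibre M x} (hv : ∀ x, v x ≠ 0) {w : (x : T) → Cyc.secFibre L x} (hw : ∀ x, w x ≠ 0)
    {k : ℤ} {a : T → ℤ} (ha : Cy δ (k + 1) a) (h : RZ δ k (Cyc.c1CapFun δ L a w)) :
    RZ δ k (Cyc.c1CapFun δ M a v) := by
  obtain ⟨z, hz⟩ := CycPB.exists_sections (TMul.isInvertible_tensorMod hM hL)
  obtain ⟨v₀, hv₀⟩ := CycPB.exists_sections (isInvertible_one T)
  have h1 := CycPB.cap_tensor hT hM hL hv hw hz ha
  have h2 := CycPB.cap_iso hT (TMul.isInvertible_tensorMod hM hL) (isInvertible_one T) φ hz hv₀ ha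
  exact (((h1.add h2).add (rz_cap_one hT hv₀ ha)).sub h).eq (funext fun x => by ring)

variable {S W E A U : Scheme.{u}} {δS : S → ℤ} {δW : W → ℤ} {δU : U → ℤ}

theorem kill_union (hS : Cyc.IsSetup S δS) (hW : Cyc.IsSetup W δW) (hU : Cyc.IsSetup U δU) (π : W ⟶ S)
    [LocallyOfFiniteType π] (hπ : Cyc.DeltaCompat π δW δS) (hr : Cyc.HasRelDim π 1)
    (z : S ⟶ W) [IsClosedImmersion z] (hz : z ≫ π = 𝟙 S) (hδz : δS = fun y => δW (z y))
    {N : W.Modules} (hN : PicF.IsInvertible N) {ξ : Γ(N, (⊤ : W.Opens))} (hξ : Cyc.IsZeroSchemeOf z N ξ)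
    (hsec : ∀ (w : (x : W) → Cyc.secFibre N x) (l : ℤ) (a : AlgebraicCycle S ℤ), a ∈ Cyc.Zk S δS (l + 1) → ∀ y : S,
      Cyc.c1CapFun δW N (Cyc.pullFun π δW δS (1 : ℕ) ⇑a) (Cyc.gysinChoice N ξ w) (z y) = a y)
    (j : E ⟶ S) [IsClosedImmersion j] {L : S.Modules} (hL : PicF.IsInvertible L) {τ : Γ(L, (⊤ : S.Opens))}
    (hτ : Cyc.IsZeroSchemeOf j L τ)
    (a : A ⟶ W) [IsClosedImmersion a] (πE : A ⟶ E) (hA : IsPullback a πE π j)
    (u : U ⟶ W) [IsClosedImmersion u] (hδu : δU = fun x => δW (u x))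
    (aU : A ⟶ U) [IsClosedImmersion aU] (haU : aU ≫ u = a) (zU : S ⟶ U) [IsClosedImmersion zU] (hzU : zU ≫ u = z)
    (hcov : ∀ x : U, x ∈ Set.range aU ∨ x ∈ Set.range zU)
    (φ : CohB1.tensorMod ((Scheme.Modules.pullback j).obj ((Scheme.Modules.pullback z).obj N))
      ((Scheme.Modules.pullback j).obj L) ≅ Coh.structureModule E)
    {n : ℤ} {d : E → ℤ} (hd : Cy (fun e => δS (j e)) n d)
    (h : RZ δU (n + 1) (pushF aU (fun x => δW (a x)) δU
      (Cyc.pullFun πE (fun x => δW (a x)) (fun e => δS (j e)) (1 : ℕ) d))) :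
    RZ (fun e => δS (j e)) n d := by
  haveI := hS.1; haveI := hW.1; haveI := hU.1
  have hAs := CycK0.isSetup_closed a hW
  have hEs := CycK0.isSetup_closed j hS
  haveI := hAs.1; haveI := hEs.1
  have ua : ∀ x, u (aU x) = a x := fun x => (Scheme.Hom.comp_apply aU u x).symm.trans (by rw [haU])
  have uz : ∀ y, u (zU y) = z y := fun y => (Scheme.Hom.comp_apply zU u y).symm.trans (by rw [hzU])
  have pz : ∀ y, π (z y) = y := fun y => by rw [← Scheme.Hom.comp_apply, hz]; rfl
  have pa : ∀ x, π (a x) = j (πE x) := fun x => by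
    rw [← Scheme.Hom.comp_apply, hA.w, Scheme.Hom.comp_apply]
  have ra : ∀ w, w ∈ Set.range a ↔ π w ∈ Set.range j := fun w => by
    refine ⟨fun ⟨x, hx⟩ => ⟨πE x, by rw [← pa, hx]⟩, fun ⟨e, he⟩ => ?_⟩
    obtain ⟨x, hx, -⟩ := Scheme.Pullback.exists_preimage_pullback (f := π) (g := j) w e he.symm
    refine ⟨hA.isoPullback.inv x, ?_⟩
    rw [← Scheme.Hom.comp_apply, hA.isoPullback_inv_fst, hx]
  -- split
  obtain ⟨pA, qZ, hpA, hqZ, hF⟩ := rz_split hU aU zU hcov h
  have eA : (fun x => δU (aU x)) = fun x => δW (a x) := funext fun x => by rw [hδu]; exact congrArg δW (ua x)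
  have eZ : (fun y => δU (zU y)) = δS := funext fun y => by rw [hδu, hδz]; exact congrArg δW (uz y)
  rw [eA] at hpA
  rw [eZ] at hqZ
  simp only [eA, eZ] at hF
  let g : A → ℤ := Cyc.pullFun πE (fun x => δW (a x)) (fun e => δS (j e)) (1 : ℕ) d
  have pc : ∀ {T T' : Scheme.{u}} (m : T ⟶ T') [IsClosedImmersion m] (δT : T → ℤ) (δ' : T' → ℤ)
      (_ : δT = fun x => δ' (m x)) (b : T → ℤ) (x : T), pushF m δT δ' b (m x) = b x := by
    rintro T T' m _ δT δ' rfl b x
    exact CycPB.pushF_closed m δ' b x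
  have pc0 : ∀ {T T' : Scheme.{u}} (m : T ⟶ T') [IsClosedImmersion m] (δT : T → ℤ) (δ' : T' → ℤ)
      (b : T → ℤ) (x : T'), x ∉ Set.range m → pushF m δT δ' b x = 0 := fun m _ δT δ' b x hx =>
    CycPB.pushF_closed_of_notMem m δT δ' b hx
  have hq0 : ∀ y, y ∉ Set.range j → qZ y = 0 := fun y hy => by
    have hn : zU y ∉ Set.range aU := fun ⟨x, hx⟩ => hy ⟨πE x, by rw [← pa, ← ua, hx, uz, pz]⟩
    have := hF (zU y)
    rw [pc0 aU _ _ _ _ hn, pc0 aU _ _ _ _ hn, pc zU _ _ eZ.symm, zero_add] at this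
    exact this.symm
  -- the relation on `A`
  let hh : A → ℤ := fun x => pushF zU δS δU qZ (aU x)
  have hgh : RZ (fun x => δW (a x)) (n + 1) fun x => g x - hh x := hpA.eq (funext fun x => by
    have := hF (aU x)
    rw [pc aU _ _ eA.symm, pc aU _ _ eA.symm] at this
    change g x = pA x + pushF zU δS δU qZ (aU x) at this
    show pA x = g x - pushF zU δS δU qZ (aU x)
    omega)
  -- apply the Gysin map of the zero section
  let zA : E ⟶ A := hA.lift (j ≫ z) (𝟙 E) (by rw [Category.assoc, hz, Category.comp_id, Category.id_comp])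
  have hzA : zA ≫ a = j ≫ z := hA.lift_fst _ _ _
  have hzA' : zA ≫ πE = 𝟙 E := hA.lift_snd _ _ _
  have sqT : IsPullback zA j a z := by
    refine (IsPullback.of_bot (h₁₁ := j) (v₁₁ := zA) (v₁₂ := z) (h₂₁ := a) (v₂₁ := πE) (v₂₂ := π) (h₃₁ := j) ?_
      hzA.symm hA).flip
    rw [hzA', hz]
    exact IsPullback.of_vert_isIso ⟨by rw [Category.comp_id, Category.id_comp]⟩
  haveI : IsClosedImmersion zA := MorphismProperty.of_isPullback sqT.flip ‹_›
  obtain ⟨σA, hσA, hthird⟩ := CycPB.isZeroSchemeOf_pullback (Q := A) a sqT hN hξ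
  obtain ⟨w₀, hw₀⟩ := CycPB.exists_sections hN
  let gv := Cyc.gysinChoice N ξ w₀
  have hgv : ∀ x, gv x ≠ 0 := CycK0.gysinChoice_ne_zero hw₀
  have hNA := PicLoc.isInvertible_pullback a hN
  let wA : (x : A) → Cyc.secFibre ((Scheme.Modules.pullback a).obj N) x := fun x => secPull a x (gv (a x))
  have h1 := gys_rz hAs zA hNA hσA hgh wA (fun x => secPull_ne_zero a hN x (hgv _))
  have hgc : Cyc.gysinChoice ((Scheme.Modules.pullback a).obj N) σA wA = wA := funext fun x => hthird w₀ x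
  rw [hgc] at h1
  obtain ⟨D, hD, hDk⟩ := hd
  subst hD
  obtain ⟨Q, hQ, hQk⟩ := hqZ.cy
  subst hQ
  obtain ⟨H, hH, hHk⟩ := hgh.cy
  have key : ∀ e, Cyc.c1CapFun (fun x => δW (a x)) ((Scheme.Modules.pullback a).obj N) (fun x => g x - hh x) wA (zA e) =
      D e - Cyc.c1CapFun δS ((Scheme.Modules.pullback z).obj N) ⇑Q (fun y => secPull z y (gv (z y))) (j e) := by
    intro e
    rw [← hH]
    refine (selfInt hW a hN gv hgv H (zA e)).trans ?_
    rw [show a (zA e) = z (j e) by rw [← Scheme.Hom.comp_apply, hzA, Scheme.Hom.comp_apply]]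
    have hJ : Cy δS n (pushF j (fun e => δS (j e)) δS ⇑D) := (CycPB.Cy.mk hDk).pushP hS hEs j
    obtain ⟨J, hJe, hJk⟩ := hJ
    have hPQ : Cy δW (n + 1) (pushF z δS δW ⇑Q) := (CycPB.Cy.mk hQk).pushP hW hS z
    have hPJ : Cy δW (n + 1) (Cyc.pullFun π δW δS (1 : ℕ) ⇑J) := by
      have := (CycPB.Cy.mk hJk).pullR hW π hπ hr
      simpa using this
    have hpush : pushF a (fun x => δW (a x)) δW ⇑H =
        fun w => Cyc.pullFun π δW δS (1 : ℕ) ⇑J w - pushF z δS δW ⇑Q w := funext fun w => by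
      by_cases hw : w ∈ Set.range a
      · obtain ⟨x, rfl⟩ := hw
        rw [CycPB.pushF_closed, hH]
        have e2 : pushF z δS δW ⇑Q (a x) = pushF zU δS δU ⇑Q (aU x) := by
          by_cases hx : a x ∈ Set.range z
          · obtain ⟨y, hy⟩ := hx
            have hy' : aU x = zU y := u.isClosedEmbedding.injective (by rw [ua, uz, hy])
            rw [hy', ← hy, pc z _ _ hδz, pc zU _ _ eZ.symm]
          · rw [pc0 z _ _ _ _ hx, pc0 zU _ _ _ _ fun ⟨y, hy⟩ => hx ⟨y, by rw [← uz, hy, ua]⟩]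
        show g x - hh x = _
        rw [e2]
        refine congrArg (· - _) ?_
        rw [← CycPB.pullFun_restrict π hA δS δW ((1 : ℕ) : ℤ) ⇑J x]
        show Cyc.pullFun πE _ _ _ ⇑D x = _
        rw [show (fun e => J (j e)) = ⇑D from funext fun e => by rw [hJe, CycPB.pushF_closed]]
      · rw [pc0 a _ _ _ _ hw]
        have e1 : Cyc.pullFun π δW δS (1 : ℕ) ⇑J w = 0 := by
          unfold Cyc.pullFun
          rw [hJe, pc0 j _ _ _ _ fun h => hw ((ra w).2 h)]
          simp
        have e2 : pushF z δS δW ⇑Q w = 0 := by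
          by_cases hx : w ∈ Set.range z
          · obtain ⟨y, rfl⟩ := hx
            rw [pc z _ _ hδz]
            exact hq0 y fun h => hw ((ra _).2 (by rw [pz]; exact h))
          · exact pc0 z _ _ _ _ hx
        rw [e1, e2, sub_self]
    rw [hpush, hPJ.cap_sub hPQ, hsec w₀ (n - 1) J (by rwa [sub_add_cancel]) (j e),
      show J (j e) = D e by rw [hJe, CycPB.pushF_closed]]
    refine congrArg (D e - ·) ?_
    subst hδz
    exact (selfInt hW z hN gv hgv Q (j e)).symm
  have h2 : RZ (fun x => δS (j x)) n fun e => D e -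
      Cyc.c1CapFun δS ((Scheme.Modules.pullback z).obj N) ⇑Q (fun y => secPull z y (gv (z y))) (j e) := by
    have eE : (fun e => δW (a (zA e))) = fun e => δS (j e) := funext fun e => by
      rw [hδz]
      exact congrArg δW (by rw [← Scheme.Hom.comp_apply, hzA, Scheme.Hom.comp_apply])
    rw [eE] at h1
    exact h1.eq (funext key)
  -- the self intersection
  obtain ⟨e₀, he₀⟩ := CycK0.exists_comap (i := j) Q
  have he₀k : e₀ ∈ Cyc.Zk E (fun e => δS (j e)) (n + 1) := fun e he => by rw [he₀]; exact hQk _ he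
  have hQe : pushF j (fun e => δS (j e)) δS ⇑e₀ = ⇑Q := funext fun y => by
    by_cases hy : y ∈ Set.range j
    · obtain ⟨e, rfl⟩ := hy
      rw [CycPB.pushF_closed, he₀]
    · rw [pc0 j _ _ _ _ hy, hq0 y hy]
  obtain ⟨wτ, hwτ⟩ := CycPB.exists_sections hL
  have hvτ : ∀ y, Cyc.gysinChoice L τ wτ y ≠ 0 := CycK0.gysinChoice_ne_zero hwτ
  have hNz := PicLoc.isInvertible_pullback z hN
  have hvz : ∀ y, secPull z y (gv (z y)) ≠ 0 := fun y => secPull_ne_zero z hN y (hgv _)
  have hL0 : RZ (fun e => δS (j e)) n (Cyc.c1CapFun (fun e => δS (j e)) ((Scheme.Modules.pullback j).obj L) ⇑e₀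
      fun e => secPull j e (Cyc.gysinChoice L τ wτ (j e))) :=
    (gys_rz hS j hL hτ hqZ wτ hwτ).eq (funext fun e => by rw [selfInt hS j hL _ hvτ e₀ e, hQe])
  have hM0 := rz_cap_of_inverse hEs (PicLoc.isInvertible_pullback j hNz) (PicLoc.isInvertible_pullback j hL) φ
    (v := fun e => secPull j e (secPull z (j e) (gv (z (j e))))) (fun e => secPull_ne_zero j hNz e (hvz _))
    (w := fun e => secPull j e (Cyc.gysinChoice L τ wτ (j e))) (fun e => secPull_ne_zero j hL e (hvτ _))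
    (CycPB.Cy.mk he₀k) hL0
  refine (h2.add hM0).eq (funext fun e => ?_)
  rw [selfInt hS j hNz (fun y => secPull z y (gv (z y))) hvz e₀ e, hQe]
  ring

end Groth.Agent.BivarOps
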