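import Groth.Agent.BivarOps.Squares
import Groth.Agent.CycPB.TrivDiv
import Groth.Agent.S1918

/-!
A rational equivalence on a union of two closed subschemes is a sum of rational equivalences on the two.
-/

set_option autoImplicit false
set_option linter.unusedSectionVars false
set_option linter.style.haveILetI false
set_option backward.isDefEq.respectTransparency false
set_option backward.isDefEq.respectTransparency.types false
set_option maxHeartbeats 800000

universe u

open CategoryTheory CategoryTheory.Limits AlgebraicGeometry Opposite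
open Groth.Agent.CycPB (Cy RZ pushF)

noncomputable section

namespace Groth.Agent.BivarOps

variable {U A B : Scheme.{u}}

theorem rz_split {δ : U → ℤ} (hU : Cyc.IsSetup U δ) (a : A ⟶ U) [IsClosedImmersion a] (b : B ⟶ U)
    [IsClosedImmersion b] (hcov : ∀ x : U, x ∈ Set.range a ∨ x ∈ Set.range b) {k : ℤ} {F : U → ℤ}
    (h : RZ δ k F) : ∃ (p : A → ℤ) (q : B → ℤ), RZ (fun z => δ (a z)) k p ∧ RZ (fun z => δ (b z)) k q ∧
      ∀ x, F x = pushF a (fun z => δ (a z)) δ p x + pushF b (fun z => δ (b z)) δ q x := by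
  classical
  haveI := hU.1
  obtain ⟨F₀, rfl, hF, h0⟩ := h
  obtain ⟨ι, ξ, f, hξ, hf, hloc, hsum⟩ := h0
  let Q : ι → Prop := fun j => ξ j ∈ Set.range a
  obtain ⟨ρ, hρ0, hρ, hρk⟩ := S1918.exists_part a hU.2.2 k ξ f Q (fun _ h => h) hξ hf hloc
  obtain ⟨σ, hσ0, hσ, hσk⟩ := S1918.exists_part b hU.2.2 k ξ f (fun j => ¬ Q j)
    (fun j hj => (hcov (ξ j)).resolve_left hj) hξ hf hloc
  refine ⟨⇑ρ, ⇑σ, ⟨ρ, rfl, hρk, hρ0⟩, ⟨σ, rfl, hσk, hσ0⟩, fun x => ?_⟩
  have push : ∀ {T : Scheme.{u}} (t : T ⟶ U) [IsClosedImmersion t] (R : ι → Prop) (_ : ∀ j, R j → ξ j ∈ Set.range t)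
      (r : T → ℤ) (_ : ∀ z, r z = ∑ᶠ i : {i // R i}, Cyc.divFun δ (ξ i.1) (f i.1) (t z)),
      pushF t (fun z => δ (t z)) δ r x = ∑ᶠ i : {i // R i}, Cyc.divFun δ (ξ i.1) (f i.1) x := by
    intro T t _ R hR r hr
    by_cases hx : x ∈ Set.range t
    · obtain ⟨z, rfl⟩ := hx
      rw [CycPB.pushF_closed, hr]
    · rw [CycPB.pushF_closed_of_notMem t _ _ _ hx]
      refine (finsum_eq_zero_of_forall_eq_zero fun i => ?_).symm
      by_contra hne
      exact hx ((CycDeg.divFun_delta hne).1.mem_closed t.isClosedEmbedding.isClosed_range (hR i.1 i.2))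
  rw [push a Q (fun _ h => h) ⇑ρ hρ, push b (fun j => ¬ Q j) (fun j hj => (hcov (ξ j)).resolve_left hj) ⇑σ hσ, hsum]
  let F' : ι → ℤ := fun i => Cyc.divFun δ (ξ i) (f i) x
  have hfin : (Function.support F').Finite := by
    obtain ⟨V, hV, hxV, hVfin⟩ := hloc x
    exact hVfin.subset fun i hi =>
      ⟨x, specializes_iff_mem_closure.1 (CycDeg.divFun_delta hi).1, hxV⟩
  show ∑ᶠ i, F' i = (∑ᶠ i : {i // Q i}, F' i.1) + ∑ᶠ i : {i // ¬ Q i}, F' i.1
  rw [finsum_subtype_eq_finsum_cond, finsum_subtype_eq_finsum_cond, ← finsum_mem_univ F']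
  have := finsum_mem_union' (f := F') (s := {i | Q i}) (t := {i | ¬ Q i})
    (Set.disjoint_left.2 fun i h h' => h' h) (hfin.subset fun i hi => hi.2) (hfin.subset fun i hi => hi.2)
  rw [show ({i | Q i} ∪ {i | ¬ Q i} : Set ι) = Set.univ from Set.ext fun i => by simp [em]] at this
  exact this

end Groth.Agent.BivarOps
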