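import Groth.Agent.BivarOps.LineData
import Groth.Agent.BivarOps.SectionGys
import Groth.Agent.BivarOps.UnionKill
import Groth.Agent.BivarOps.Gysin
import Groth.Agent.Nagata.Bundles
import Groth.Agent.DerPerf.Local

/-!
A rule compatible with the Gysin maps of trivialised normal bundles is compatible with all Gysin maps.
-/

set_option autoImplicit false
set_option linter.unusedSectionVars false
set_option linter.style.haveILetI false
set_option linter.unusedVariables false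
set_option backward.isDefEq.respectTransparency false
set_option backward.isDefEq.respectTransparency.types false
set_option maxHeartbeats 2000000

universe u

open CategoryTheory CategoryTheory.Limits AlgebraicGeometry Opposite TopologicalSpace
open Groth.Agent.CycPB (Cy RZ pushF)
open Groth.Agent.CycSec (pe)

noncomputable section

namespace Groth.Agent.BivarOps

/-- A Gysin cap seen inside a larger closed subscheme. -/
theorem gys_restrict {W U A : Scheme.{u}} {δ : W → ℤ} {L : W.Modules} (hL : PicF.IsInvertible L)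
    {s : Γ(L, (⊤ : W.Opens))} (a : A ⟶ W) [IsClosedImmersion a] (hA : Cyc.IsZeroSchemeOf a L s) (u : U ⟶ W)
    [IsClosedImmersion u] (a' : A ⟶ U) [IsClosedImmersion a'] (e : a' ≫ u = a) (w : (x : W) → Cyc.secFibre L x)
    (b : W → ℤ) {δA : A → ℤ} {δU : U → ℤ} (hδ : δA = fun x => δU (a' x)) (x : U) :
    Cyc.c1CapFun δ L b (Cyc.gysinChoice L s w) (u x) =
      pushF a' δA δU (fun z => Cyc.c1CapFun δ L b (Cyc.gysinChoice L s w) (a z)) x := by
  subst hδ
  by_cases hx : x ∈ Set.range a'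
  · obtain ⟨z, rfl⟩ := hx
    rw [CycPB.pushF_closed]
    exact congrArg _ (by rw [← Scheme.Hom.comp_apply, e])
  · rw [CycPB.pushF_closed_of_notMem a' _ _ _ hx]
    refine CycPB.gysin_off hL a hA w b fun ⟨z, hz⟩ => hx ⟨z, u.isClosedEmbedding.injective ?_⟩
    rw [← hz, ← Scheme.Hom.comp_apply, e]

variable {X Y : Scheme.{u}} {f : X ⟶ Y} {δX : X → ℤ} {δY : Y → ℤ} {p : ℤ} {c : Bivar.WeakCl p f δX δY}

theorem weak_gysin_core (hX : Cyc.IsSetup X δX) (hY : Cyc.IsSetup Y δY) (s t : Bivar.Sq f δX δY)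
    (i : t.Y' ⟶ s.Y') [IsClosedImmersion i] (j : t.X' ⟶ s.X') [IsClosedImmersion j] (w₁ : i ≫ s.g = t.g)
    (w₂ : j ≫ s.f' = t.f' ≫ i) (w₃ : j ≫ s.g' = t.g') (L : s.Y'.Modules) (hL : PicF.IsInvertible L)
    (σ : Γ(L, (⊤ : s.Y'.Opens))) (hσ : Cyc.IsZeroSchemeOf i L σ)
    (τ : Γ((Scheme.Modules.pullback s.f').obj L, (⊤ : s.X'.Opens)))
    (hτ : Cyc.IsZeroSchemeOf j ((Scheme.Modules.pullback s.f').obj L) τ) {m : ℤ} {α : s.Y' → ℤ} {β : s.X' → ℤ}
    (hαβ : Rel c s (m + 1) α β) (w : (x : s.Y') → Cyc.secFibre L x) (hw : ∀ x, w x ≠ 0)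
    (w' : (x : s.X') → Cyc.secFibre ((Scheme.Modules.pullback s.f').obj L) x) (hw' : ∀ x, w' x ≠ 0) :
    Rel c t m (fun d => Cyc.c1CapFun s.δY' L α (Cyc.gysinChoice L σ w) (i d))
      fun e => Cyc.c1CapFun s.δX' ((Scheme.Modules.pullback s.f').obj L) β
        (Cyc.gysinChoice ((Scheme.Modules.pullback s.f').obj L) τ w') (j e) := by
  let γ : t.Y' → ℤ := fun d => Cyc.c1CapFun s.δY' L α (Cyc.gysinChoice L σ w) (i d)
  let ζ : t.X' → ℤ := fun e => Cyc.c1CapFun s.δX' ((Scheme.Modules.pullback s.f').obj L) β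
    (Cyc.gysinChoice ((Scheme.Modules.pullback s.f').obj L) τ w') (j e)
  have hsY := isSetup_sqY hY s
  have hsX := isSetup_sqX hX s
  have htX := isSetup_sqX hX t
  have htY := isSetup_sqY hY t
  haveI := hsY.1; haveI := hsX.1; haveI := htX.1; haveI := htY.1
  haveI := s.lft; haveI := t.lft
  have hL' := PicLoc.isInvertible_pullback s.f' hL
  have eδi := delta_closed i (deltaCompat_of_comp w₁ s.compatY t.compatY)
  have eδj := delta_closed j (deltaCompat_of_comp w₃ s.compatX t.compatX)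
  have hγc : Cy t.δY' m γ := by
    rw [eδi]; exact gys_cy hsY i hL (CycK0.gysinChoice_ne_zero hw) hαβ.cyA
  have hβc : Cy s.δX' (m - p + 1) β := by
    rw [show m - p + 1 = m + 1 - p by ring]; exact hαβ.cyB
  have hζc : Cy t.δX' (m - p) ζ := by
    rw [eδj]; exact gys_cy hsX j hL' (CycK0.gysinChoice_ne_zero hw') hβc
  obtain ⟨η, R4⟩ := Rel.exists_rel (c := c) hγc
  suffices hkey : RZ t.δX' (m - p) fun e => η e - ζ e from R4.congr hγc hζc (CycPB.RZ.refl _) hkey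
  -- the bundle
  obtain ⟨P, π₀, hπ₀, E, O, q, hP, hE, z, hz, hzp, N, hN, ξ, W, hξ, hzW, ⟨θ⟩⟩ := exists_lineData hL
  haveI := hπ₀; haveI := hz
  haveI : Flat π₀ := CycPB.flat_of_isProjBundle hP hE
  have hF := CycPB.hasPnFibres_of_isProjBundle hP hE
  -- its inverse image
  let P' : Scheme.{u} := pullback π₀ s.f'
  let pr : P' ⟶ P := pullback.fst π₀ s.f'
  let π₁ : P' ⟶ s.X' := pullback.snd π₀ s.f'
  have sqP : IsPullback pr π₁ π₀ s.f' := IsPullback.of_hasPullback _ _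
  have hP' := PBundle.of_isPullback hP sqP
  have hE' := Nagata.isFinLocFreeOfRank_pullback s.f' hE
  haveI : Flat π₁ := CycPB.flat_of_isProjBundle hP' hE'
  have hF' := CycPB.hasPnFibres_of_isProjBundle hP' hE'
  let W' : P'.Opens := pr ⁻¹ᵁ W
  let π : (↑W : Scheme.{u}) ⟶ s.Y' := W.ι ≫ π₀
  let π' : (↑W' : Scheme.{u}) ⟶ s.X' := W'.ι ≫ π₁
  have sqW : IsPullback (pr ∣_ W) π' π s.f' := (isPullback_morphismRestrict pr W).paste_vert sqP
  haveI := lft_g' s
  haveI : LocallyOfFiniteType (π ≫ s.g) := inferInstance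
  haveI : LocallyOfFiniteType (π' ≫ s.g') := inferInstance
  obtain ⟨δW, hWs, hgW⟩ := CycPB.exists_isSetup hY (π ≫ s.g)
  obtain ⟨δW', hWs', hgW'⟩ := CycPB.exists_isSetup hX (π' ≫ s.g')
  let sW : Bivar.Sq f δX δY := ⟨↑W, ↑W', π ≫ s.g, pr ∣_ W, π' ≫ s.g',
    sqW.paste_vert s.isPullback, inferInstance, δW, δW', hgW, hgW'⟩
  haveI := hWs.1; haveI := hWs'.1
  have hδπ : Cyc.DeltaCompat π δW s.δY' := deltaCompat_of_comp rfl s.compatY hgW
  have hδπ' : Cyc.DeltaCompat π' δW' s.δX' := deltaCompat_of_comp rfl s.compatX hgW'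
  have hrW : Cyc.HasRelDim π 1 := hasRelDim_openBundle hF W
  have hrW' : Cyc.HasRelDim π' 1 := hasRelDim_openBundle hF' W'
  have wπ : π ≫ s.g = sW.g := rfl
  have eπ' : π' = morX s sW π wπ := morX_unique (q := s) (t := sW) (h := π) (w := wπ) sqW.w.symm rfl
  -- the section
  let zW : s.Y' ⟶ ↑W := IsOpenImmersion.lift W.ι z (by rw [Scheme.Opens.range_ι]; exact hzW)
  have hzWι : zW ≫ W.ι = z := IsOpenImmersion.lift_fac _ _ _
  have hzπ : zW ≫ π = 𝟙 _ := by rw [← Category.assoc, hzWι, hzp]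
  haveI : IsClosedImmersion (zW ≫ W.ι) := by rw [hzWι]; exact hz
  haveI : IsClosedImmersion zW := IsClosedImmersion.of_comp zW W.ι
  have sqZ : IsPullback zW (𝟙 s.Y') W.ι z :=
    IsPullback.of_isLimit' ⟨by rw [hzWι, Category.id_comp]⟩ (PullbackCone.IsLimit.mk _ (fun C => C.snd)
      (fun C => by rw [← cancel_mono W.ι, Category.assoc, hzWι, C.condition]) (fun C => Category.comp_id _)
      (fun C k _ h2 => by simpa using h2))
  have wz : zW ≫ sW.g = s.g := by show zW ≫ π ≫ s.g = s.g; rw [← Category.assoc, hzπ, Category.id_comp]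
  let zW' : s.X' ⟶ (↑W' : Scheme.{u}) := morX sW s zW wz
  have hzπ' : zW' ≫ π' = 𝟙 _ := by
    rw [eπ', morX_comp (q := s) (r := s) (h'' := 𝟙 s.Y') (w'' := Category.id_comp _) hzπ, morX_id rfl]
  haveI : IsClosedImmersion zW' := morX_closed
  have hzWsq : IsPullback zW' s.f' (pr ∣_ W) zW := (morX_isPullback (q := sW) (t := s) (h := zW) (w := wz)).flip
  -- modules and sections on `W`
  let NW := (Scheme.Modules.pullback W.ι).obj N
  have hNW : PicF.IsInvertible NW := PicLoc.isInvertible_pullback W.ι hN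
  let ξW : Γ(NW, (⊤ : (↑W : Scheme.{u}).Opens)) := pe W.ι (A := ⊤) ξ
  have hξW : Cyc.IsZeroSchemeOf zW NW ξW := isZeroSchemeOf_pe W.ι sqZ hN hξ
  let A : Scheme.{u} := pullback π i
  let a : A ⟶ ↑W := pullback.fst π i
  let πD : A ⟶ t.Y' := pullback.snd π i
  have sqA : IsPullback a πD π i := IsPullback.of_hasPullback π i
  haveI : Flat π := inferInstance
  haveI : Flat π' := inferInstance
  haveI : Flat πD := MorphismProperty.of_isPullback sqA ‹Flat π›
  let LW := (Scheme.Modules.pullback π).obj L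
  have hLW : PicF.IsInvertible LW := PicLoc.isInvertible_pullback π hL
  let σW : Γ(LW, (⊤ : (↑W : Scheme.{u}).Opens)) := pe π (A := ⊤) σ
  have hσW : Cyc.IsZeroSchemeOf a LW σW := isZeroSchemeOf_pe π sqA hL hσ
  let MW := CohB1.tensorMod NW LW
  have hMW : PicF.IsInvertible MW := TMul.isInvertible_tensorMod hNW hLW
  let mW : Γ(MW, (⊤ : (↑W : Scheme.{u}).Opens)) := TMul.tm ξW σW
  let eW : MW ≅ Coh.structureModule (↑W : Scheme.{u}) :=
    PicGrp.tensorModIso (Iso.refl NW) (pullIso (g := π₀) (h := W.ι) (g' := π) rfl L) ≪≫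
      KFlat.pullTensorIso W.ι N ((Scheme.Modules.pullback π₀).obj L) ≪≫ θ
  let I := PicF2.zeroScheme MW (TMul.homOf mW)
  let U : Scheme.{u} := I.subscheme
  let u : U ⟶ ↑W := I.subschemeι
  have hmW : Cyc.IsZeroSchemeOf u MW mW := CycPB.isZeroSchemeOf_zeroScheme hMW mW
  obtain ⟨zU, hzU, ezU⟩ := exists_lift_zero hNW zW hξW hMW u hmW fun x => by
    rw [coefI_tm hNW hLW]; exact Ideal.mul_le_left
  obtain ⟨aU, haU, eaU⟩ := exists_lift_zero hLW a hσW hMW u hmW fun x => by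
    rw [coefI_tm hNW hLW]; exact Ideal.mul_le_right
  haveI := hzU; haveI := haU
  -- squares
  haveI : LocallyOfFiniteType (a ≫ π ≫ s.g) := inferInstance
  haveI : LocallyOfFiniteType (u ≫ π ≫ s.g) := inferInstance
  let sA : Bivar.Sq f δX δY := sqOfY hX hY (a ≫ π ≫ s.g)
  let sU : Bivar.Sq f δX δY := sqOfY hX hY (u ≫ π ≫ s.g)
  have wa : a ≫ sW.g = sA.g := rfl
  have wu : u ≫ sW.g = sU.g := rfl
  have wD : πD ≫ t.g = sA.g := by
    show πD ≫ t.g = a ≫ π ≫ s.g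
    rw [← w₁, ← Category.assoc, ← sqA.w, Category.assoc]
  have waU : aU ≫ sU.g = sA.g := by
    show aU ≫ u ≫ π ≫ s.g = a ≫ π ≫ s.g
    rw [← Category.assoc, eaU]
  have wzU : zU ≫ sU.g = s.g := by
    show zU ≫ u ≫ π ≫ s.g = s.g
    rw [← Category.assoc, ezU, ← Category.assoc, hzπ, Category.id_comp]
  let a' : sA.X' ⟶ sW.X' := morX sW sA a wa
  let u' : sU.X' ⟶ sW.X' := morX sW sU u wu
  let πE : sA.X' ⟶ t.X' := morX t sA πD wD
  let aU' : sA.X' ⟶ sU.X' := morX sU sA aU waU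
  let zU' : s.X' ⟶ sU.X' := morX sU s zU wzU
  haveI : IsClosedImmersion a' := morX_closed
  haveI : IsClosedImmersion u' := morX_closed
  haveI : IsClosedImmersion aU' := morX_closed
  haveI : IsClosedImmersion zU' := morX_closed
  haveI : Flat πE := morX_flat
  have eaU' : aU' ≫ u' = a' := morX_comp eaU
  have ezU' : zU' ≫ u' = zW' := morX_comp ezU
  have ej : j = morX s t i w₁ := morX_unique w₂ w₃
  have sqA' : IsPullback a' πE π' j := by
    have h1 : IsPullback j t.f' s.f' i := (isPullback_mor w₁ w₂ w₃).flip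
    have hfe : πE ≫ t.f' = sA.f' ≫ πD := morX_f'
    have h2 : IsPullback a' (πE ≫ t.f') (π' ≫ s.f') i := by
      rw [hfe, ← sqW.w]
      exact (morX_isPullback (q := sW) (t := sA) (h := a) (w := wa)).flip.paste_vert sqA
    refine IsPullback.of_bot h2 ?_ h1
    rw [eπ', ej]
    exact (morX_comp (q := s) (t := sW) (r := sA) (h'' := a ≫ π) (w'' := by
      show (a ≫ π) ≫ s.g = a ≫ π ≫ s.g; rw [Category.assoc]) rfl).trans
      (morX_comp (q := s) (t := t) (r := sA) (h'' := a ≫ π) (w'' := by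
      show (a ≫ π) ≫ s.g = a ≫ π ≫ s.g; rw [Category.assoc]) sqA.w.symm).symm
  haveI : LocallyOfFiniteType π := inferInstance
  haveI : LocallyOfFiniteType π' := inferInstance
  haveI : LocallyOfFiniteType πD := MorphismProperty.of_isPullback sqA ‹LocallyOfFiniteType π›
  haveI : LocallyOfFiniteType πE := MorphismProperty.of_isPullback sqA' ‹LocallyOfFiniteType π'›
  have hrD : Cyc.HasRelDim πD 1 := (S9358.result π i a πD sqA 1).2.2 hrW
  have hrE : Cyc.HasRelDim πE 1 := (S9358.result π' j a' πE sqA' 1).2.2 hrW'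
  have eδa : sA.δY' = fun x => δW (a x) := delta_closed a (deltaCompat_of_comp wa hgW sA.compatY)
  have eδa' : sA.δX' = fun x => δW' (a' x) := delta_closed a' (deltaCompat_of_comp morX_g' hgW' sA.compatX)
  have eδu : sU.δY' = fun x => δW (u x) := delta_closed u (deltaCompat_of_comp wu hgW sU.compatY)
  have eδu' : sU.δX' = fun x => δW' (u' x) := delta_closed u' (deltaCompat_of_comp morX_g' hgW' sU.compatX)
  have eδz : s.δY' = fun x => δW (zW x) := delta_closed zW (deltaCompat_of_comp wz hgW s.compatY)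
  have eδz' : s.δX' = fun x => δW' (zW' x) := delta_closed zW' (deltaCompat_of_comp morX_g' hgW' s.compatX)
  have eδzU : s.δY' = fun x => sU.δY' (zU x) := delta_closed zU (deltaCompat_of_comp wzU sU.compatY s.compatY)
  have eδzU' : s.δX' = fun x => sU.δX' (zU' x) :=
    delta_closed zU' (deltaCompat_of_comp morX_g' sU.compatX s.compatX)
  have eδaU : sA.δY' = fun x => sU.δY' (aU x) := delta_closed aU (deltaCompat_of_comp waU sU.compatY sA.compatY)
  have eδaU' : sA.δX' = fun x => sU.δX' (aU' x) :=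
    delta_closed aU' (deltaCompat_of_comp morX_g' sU.compatX sA.compatX)
  have hUs' := isSetup_sqX hX sU
  have hAs' := isSetup_sqX hX sA
  have hUs := isSetup_sqY hY sU
  have hAs := isSetup_sqY hY sA
  haveI := hUs'.1; haveI := hAs'.1; haveI := hUs.1; haveI := hAs.1
  -- X side sections
  let fW : (↑W' : Scheme.{u}) ⟶ ↑W := pr ∣_ W
  let NW' := (Scheme.Modules.pullback fW).obj NW
  let LW' := (Scheme.Modules.pullback fW).obj LW
  have hNW' : PicF.IsInvertible NW' := PicLoc.isInvertible_pullback fW hNW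
  have hLW' : PicF.IsInvertible LW' := PicLoc.isInvertible_pullback fW hLW
  let ξ' : Γ(NW', (⊤ : (↑W' : Scheme.{u}).Opens)) := pe fW (A := ⊤) ξW
  let σ' : Γ(LW', (⊤ : (↑W' : Scheme.{u}).Opens)) := pe fW (A := ⊤) σW
  have hξ' : Cyc.IsZeroSchemeOf zW' NW' ξ' := isZeroSchemeOf_pe fW hzWsq hNW hξW
  have hσ' : Cyc.IsZeroSchemeOf a' LW' σ' :=
    isZeroSchemeOf_pe fW (morX_isPullback (q := sW) (t := sA) (h := a) (w := wa)).flip hLW hσW
  let F := (Scheme.Modules.pullback fW).obj MW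
  let μ : Γ(F, (⊤ : (↑W' : Scheme.{u}).Opens)) := pe fW (A := ⊤) mW
  have hF0 : PicF.IsInvertible F := PicLoc.isInvertible_pullback fW hMW
  have hμ : Cyc.IsZeroSchemeOf u' F μ :=
    isZeroSchemeOf_pe fW (morX_isPullback (q := sW) (t := sU) (h := u) (w := wu)).flip hMW hmW
  let M' := CohB1.tensorMod NW' LW'
  have hM' : PicF.IsInvertible M' := TMul.isInvertible_tensorMod hNW' hLW'
  let m' : Γ(M', (⊤ : (↑W' : Scheme.{u}).Opens)) := TMul.tm ξ' σ'
  have hcoef : ∀ x, coefI hM' m' x = coefI hF0 μ x := fun x => by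
    rw [coefI_tm hNW' hLW', coefI_pe fW hNW, coefI_pe fW hLW, ← Ideal.map_mul, ← coefI_tm hNW hLW,
      ← coefI_pe fW hMW]
  have hm' : Cyc.IsZeroSchemeOf u' M' m' := isZeroSchemeOf_coefI hM' u'
    (fun x => by rw [coefI_range hF0 hμ, hcoef]) (fun x => by rw [coefI_ker hF0 hμ, hcoef])
  -- fallbacks
  obtain ⟨wN, hwN⟩ := CycPB.exists_sections hNW
  obtain ⟨wL, hwL⟩ := CycPB.exists_sections hLW
  obtain ⟨wM, hwM, haddY⟩ := exists_prod_fallback hNW hLW ξW σW hwN hwL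
  obtain ⟨wN', hwN'⟩ := CycPB.exists_sections hNW'
  obtain ⟨wL', hwL'⟩ := CycPB.exists_sections hLW'
  obtain ⟨wM', hwM', haddX⟩ := exists_prod_fallback hNW' hLW' ξ' σ' hwN' hwL'
  obtain ⟨wF, hwF⟩ := CycPB.exists_sections hF0
  obtain ⟨Aα, hAα, hAαk⟩ := hαβ.cyA
  obtain ⟨Bβ, hBβ, hBβk⟩ := hβc
  subst hAα; subst hBβ
  -- the relations
  have wπ' : π' ≫ s.g' = sW.g' := rfl
  have R2 : Rel c sW (m + 1 + 1) (Cyc.pullFun π δW s.δY' (1 : ℕ) ⇑Aα) (Cyc.pullFun π' δW' s.δX' (1 : ℕ) ⇑Bβ) :=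
    Rel.pull hX hY sW π π' 1 hrW hrW' wπ sqW.w.symm wπ' (by push_cast; ring) hαβ
  have R3 := Rel.gysinTriv (c := c) hX hY sU (q := sW) u u' wu morX_f' morX_g' hMW
    ⟨(Scheme.Modules.pullback u).mapIso eW ≪≫ DerPerf.pullUnitIso u⟩ hmW (τ := μ) hμ rfl R2 wM hwM wF hwF
  have R5 := Rel.pull (c := c) hX hY sA πD πE 1 hrD hrE wD morX_f' morX_g'
    (show m + ((1 : ℕ) : ℤ) = m + 1 by push_cast; ring) R4
  have R6 := Rel.push (c := c) hX hY sU aU aU' waU morX_f' morX_g' R5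
  have R7 := Rel.push (c := c) hX hY sU zU zU' wzU morX_f' morX_g' hαβ
  have R8 := R7.add R6
  -- the Y side
  have hsecY : ∀ y, Cyc.c1CapFun δW NW (Cyc.pullFun π δW s.δY' (1 : ℕ) ⇑Aα) (Cyc.gysinChoice NW ξW wN) (zW y) = Aα y :=
    fun y => gysin_section_open hsY hF W hWs hδπ zW hzπ hNW hξW wN Aα hAαk y
  obtain ⟨PA, hPA, hPAk⟩ := (CycPB.Cy.mk hAαk).pullR hWs π hδπ hrW
  have hγU : RZ sU.δY' (m + 1) fun x => Cyc.c1CapFun δW MW (Cyc.pullFun π δW s.δY' (1 : ℕ) ⇑Aα)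
      (Cyc.gysinChoice MW mW wM) (u x) - (pushF zU s.δY' sU.δY' ⇑Aα x +
        pushF aU sA.δY' sU.δY' (Cyc.pullFun πD sA.δY' t.δY' (1 : ℕ) γ) x) := by
    have k0 := gysin_pull_sq (r := 1) (k := m) hsY hWs π hrW hδπ hL hσ sqA hσW Aα hAαk w hw wL hwL
    rw [← eδa, ← eδi, Nat.cast_one] at k0
    obtain ⟨GA, hGA, hGAk⟩ := gys_cy hWs a hLW (v := Cyc.gysinChoice LW σW wL) (CycK0.gysinChoice_ne_zero hwL)
      (show Cy δW (m + 1 + 1) (Cyc.pullFun π δW s.δY' (1 : ℕ) ⇑Aα) from R2.cyA)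
    rw [← eδa] at hGAk
    have k1 := CycPB.RZ.push aU hUs hAs (deltaCompat_of_comp waU sU.compatY sA.compatY)
      (k := m + 1) (a := fun x => Cyc.pullFun πD sA.δY' t.δY' (1 : ℕ) γ x - GA x)
      (k0.eq (funext fun x => by rw [hGA]; simp only [Nat.cast_one]; rfl))
    rw [CycPB.pushF_sub' aU sU.δY' R5.cyA ⟨GA, rfl, hGAk⟩, hGA] at k1
    refine k1.neg_diff.eq (funext fun x => ?_)
    show _ = _ - _
    rw [← hPA, haddY, hPA, gys_restrict hNW zW hξW u zU ezU wN _ eδzU x, gys_restrict hLW a hσW u aU eaU wL _ eδaU x,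
      show (fun y => Cyc.c1CapFun δW NW (Cyc.pullFun π δW s.δY' (1 : ℕ) ⇑Aα) (Cyc.gysinChoice NW ξW wN) (zW y)) = ⇑Aα
        from funext hsecY]
    ring
  have hU := (R3.congr R8.cyA R3.cyB hγU (CycPB.RZ.refl _)).unique R8
  -- the X side
  have hsecX : ∀ (w₀ : (x : ↥W') → Cyc.secFibre NW' x) (l : ℤ) (b : AlgebraicCycle s.X' ℤ),
      b ∈ Cyc.Zk s.X' s.δX' (l + 1) → ∀ y : s.X',
      Cyc.c1CapFun δW' NW' (Cyc.pullFun π' δW' s.δX' (1 : ℕ) ⇑b) (Cyc.gysinChoice NW' ξ' w₀) (zW' y) = b y :=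
    fun w₀ l b hb y => gysin_section_open hsX hF' W' hWs' hδπ' zW' hzπ' hNW' hξ' w₀ b hb y
  obtain ⟨PB, hPB, hPBk⟩ := (CycPB.Cy.mk hBβk).pullR hWs' π' hδπ' hrW'
  have hPBc : Cy δW' (m - p + 1 + 1) (Cyc.pullFun π' δW' s.δX' (1 : ℕ) ⇑Bβ) := ⟨PB, hPB, by simpa using hPBk⟩
  let φF : F ≅ M' := (KFlat.pullTensorIso fW NW LW).symm
  have hI := gysin_indep (i := u') hWs' hF0 hM' φF hμ hm' hwF hwM' hPBc
  rw [← eδu'] at hI
  let L'' := (Scheme.Modules.pullback π').obj ((Scheme.Modules.pullback s.f').obj L)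
  have hL'' : PicF.IsInvertible L'' := PicLoc.isInvertible_pullback π' hL'
  let σ'' : Γ(L'', (⊤ : (↑W' : Scheme.{u}).Opens)) := pe π' (A := ⊤) τ
  have hσ'' : Cyc.IsZeroSchemeOf a' L'' σ'' := isZeroSchemeOf_pe π' sqA' hL' hτ
  obtain ⟨wL'', hwL''⟩ := CycPB.exists_sections hL''
  let φL : L'' ≅ LW' := (Scheme.Modules.pullbackComp π' s.f').app L ≪≫
    (pullIso (g := π) (h := fW) (g' := π' ≫ s.f') sqW.w L)
  have kX := gysin_pull_sq (r := 1) (k := m - p) hsX hWs' π' hrW' hδπ' hL' hτ sqA' hσ'' Bβ hBβk w' hw' wL'' hwL''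
  have kI := gysin_indep (i := a') hWs' hL'' hLW' φL hσ'' hσ' hwL'' hwL' hPBc
  rw [← eδa', ← eδj, Nat.cast_one] at kX
  rw [← eδa', Nat.cast_one] at kI
  obtain ⟨GB, hGB, hGBk⟩ := gys_cy hWs' a' hLW' (v := Cyc.gysinChoice LW' σ' wL') (CycK0.gysinChoice_ne_zero hwL') hPBc
  rw [← eδa'] at hGBk
  obtain ⟨ZB, hZB, hZBk⟩ := hζc.pullR hAs' πE (deltaCompat_of_comp morX_g' t.compatX sA.compatX) hrE
  rw [Nat.cast_one] at hZBk
  have kA := CycPB.RZ.push aU' hUs' hAs' (deltaCompat_of_comp morX_g' sU.compatX sA.compatX)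
    (k := m - p + 1) (a := fun x => ZB x - GB x)
    ((kX.sub kI).eq (funext fun x => by rw [hZB, hGB]; simp only [Nat.cast_one]; exact sub_sub_sub_cancel_right _ _ _))
  rw [CycPB.pushF_sub' aU' sU.δX' ⟨ZB, rfl, hZBk⟩ ⟨GB, rfl, hGBk⟩] at kA
  have hMx : ∀ x, Cyc.c1CapFun δW' M' (Cyc.pullFun π' δW' s.δX' (1 : ℕ) ⇑Bβ) (Cyc.gysinChoice M' m' wM') (u' x) =
      pushF zU' s.δX' sU.δX' ⇑Bβ x + pushF aU' sA.δX' sU.δX' ⇑GB x := fun x => by
    rw [← hPB, haddX, hPB, gys_restrict hNW' zW' hξ' u' zU' ezU' wN' _ eδzU' x,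
      gys_restrict hLW' a' hσ' u' aU' eaU' wL' _ eδaU' x, hGB,
      show (fun y => Cyc.c1CapFun δW' NW' (Cyc.pullFun π' δW' s.δX' (1 : ℕ) ⇑Bβ) (Cyc.gysinChoice NW' ξ' wN') (zW' y)) =
        ⇑Bβ from funext fun y => hsecX wN' (m - p) Bβ hBβk y]
  obtain ⟨DE, hDE, hDEk⟩ := R4.cyB.sub hζc
  obtain ⟨EB, hEB, hEBk⟩ := R5.cyB
  have hpush : RZ sU.δX' (m - p + 1) (pushF aU' sA.δX' sU.δX'
      (Cyc.pullFun πE sA.δX' t.δX' (1 : ℕ) ⇑DE)) := by
    rw [hDE, CycPB.pullFun_sub (p := πE), ← hEB, ← hZB,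
      CycPB.pushF_sub' aU' sU.δX' ⟨EB, rfl, hEBk⟩ ⟨ZB, rfl, (show ZB ∈ Cyc.Zk _ _ (m + 1 - p) by
        rwa [show m + 1 - p = m - p + 1 by ring])⟩]
    rw [show m + 1 - p = m - p + 1 by ring] at hU
    refine (((hU.smul (-1)).sub hI).sub kA).eq (funext fun x => ?_)
    rw [hMx, ← hEB]
    ring
  -- conclusion
  have hcovX : ∀ x : sU.X', x ∈ Set.range aU' ∨ x ∈ Set.range zU' := fun x => by
    have h0 := (coefI_range hM' hm' (u' x)).1 ⟨x, rfl⟩
    rw [coefI_tm hNW' hLW'] at h0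
    by_cases h1 : coefI hNW' ξ' (u' x) = ⊤
    · rw [h1, Ideal.top_mul] at h0
      obtain ⟨z, hz⟩ := (coefI_range hLW' hσ' (u' x)).2 h0
      exact Or.inl ⟨z, u'.isClosedEmbedding.injective (by rw [← Scheme.Hom.comp_apply, eaU', hz])⟩
    · obtain ⟨z, hz⟩ := (coefI_range hNW' hξ' (u' x)).2 h1
      exact Or.inr ⟨z, u'.isClosedEmbedding.injective (by rw [← Scheme.Hom.comp_apply, ezU', hz])⟩
  let r : t.X' ⟶ ↑W := t.f' ≫ i ≫ zW
  have er : (j ≫ zW') ≫ fW = r := by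
    rw [Category.assoc, show zW' ≫ fW = s.f' ≫ zW from morX_f', ← Category.assoc, w₂, Category.assoc]
  have er' : r ≫ π = j ≫ s.f' := by
    show (t.f' ≫ i ≫ zW) ≫ π = _
    rw [Category.assoc, Category.assoc, hzπ, Category.comp_id, w₂]
  let φ : CohB1.tensorMod ((Scheme.Modules.pullback j).obj ((Scheme.Modules.pullback zW').obj NW'))
      ((Scheme.Modules.pullback j).obj ((Scheme.Modules.pullback s.f').obj L)) ≅ Coh.structureModule t.X' :=
    PicGrp.tensorModIso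
      ((Scheme.Modules.pullbackComp j zW').app NW' ≪≫ (pullIso (g := fW) (h := j ≫ zW') (g' := r) er NW).symm)
      ((Scheme.Modules.pullbackComp j s.f').app L ≪≫ pullIso (g := π) (h := r) (g' := j ≫ s.f') er' L) ≪≫
      KFlat.pullTensorIso r NW LW ≪≫ (Scheme.Modules.pullback r).mapIso eW ≪≫ DerPerf.pullUnitIso r
  rw [eδj]
  refine CycPB.RZ.eq (kill_union hsX hWs' hUs' π' hδπ' hrW' zW' hzπ' eδz' hNW' hξ' hsecX j hL' hτ a' πE sqA'
    u' eδu' aU' eaU' zU' ezU' hcovX φ (d := ⇑DE) ?_ ?_) hDE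
  · rw [← eδj]; exact ⟨DE, rfl, hDEk⟩
  · rw [← eδa', ← eδj]; exact hpush

/-- **A rule compatible with trivialised normal bundles is a bivariant class.** -/
def clOfWeak (hX : Cyc.IsSetup X δX) (hY : Cyc.IsSetup Y δY) (c : Bivar.WeakCl p f δX δY) : Bivar.Cl p f δX δY where
  op := c.op
  push := c.push
  pull := c.pull
  gysin s t i _ j _ w₁ w₂ w₃ L hL σ hσ τ hτ k := by
    intro α hα
    obtain ⟨β, hβ, e⟩ := Bivar.exists_rep (c.op s k (ChowOps.cl α hα))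
    refine ⟨β, hβ, e.symm, fun w hw γ hγe hγ w' hw' => ?_⟩
    have hrel : Rel c s k ⇑α ⇑β := ⟨α, hα, β, hβ, rfl, rfl, e.symm⟩
    have h := weak_gysin_core (c := c) (m := k - 1) hX hY s t i j w₁ w₂ w₃ L hL σ hσ τ hτ
      (show Rel c s (k - 1 + 1) ⇑α ⇑β by rw [sub_add_cancel]; exact hrel) w hw w' hw'
    obtain ⟨γ', hγ', ζ, hζ, eγ, eζ, hop⟩ := h
    have : γ' = γ := DFunLike.ext _ _ fun d => (congrFun eγ d).trans (hγe d).symm
    subst this
    exact ⟨ζ, hζ, congrFun eζ, hop⟩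

end Groth.Agent.BivarOps
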